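/-
Exact integer vectors with many lanes as bit planes (two's complement), evaluated by the kernel on big natural
numbers.  Programs of linear instructions: permutations (swap networks), sign changes, doublings, exact halvings and
butterflies.
-/
import Cfsg.Agent.Lib.PermNet

set_option autoImplicit false

namespace Cfsg.Agent.Monster.VecEngine

open Cfsg.Agent.Lib.PermNet

/-! ### Planes -/

/-- Bit planes, little endian, the last one is the sign plane. -/
inductive Pl : Type
  | sgn (s : ℕ) : Pl
  | cons (p : ℕ) (L : Pl) : Pl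

/-- A bit as an integer. -/
def bt (p i : ℕ) : ℤ := if p.testBit i then 1 else 0

/-- The integer in lane `i`. -/
def val : Pl → ℕ → ℤ
  | .sgn s, i => - bt s i
  | .cons p L, i => bt p i + 2 * val L i

@[simp] theorem val_sgn (s i : ℕ) : val (.sgn s) i = - bt s i := rfl

@[simp] theorem val_cons (p : ℕ) (L : Pl) (i : ℕ) : val (.cons p L) i = bt p i + 2 * val L i := rfl

/-- `seqP n k = k n`, but the kernel evaluates `n` to a literal first. -/
noncomputable def seqP (n : ℕ) (k : ℕ → Pl) : Pl := Bool.rec (k n) (k n) (Nat.beq n 0)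

@[simp] theorem seqP_eq (n : ℕ) (k : ℕ → Pl) : seqP n k = k n := by
  unfold seqP; cases Nat.beq n 0 <;> rfl

/-- Evaluate all planes, then return `r`. -/
noncomputable def force (y : Pl) (r : Bool) : Bool :=
  Pl.rec (motive := fun _ => Bool) (fun s => Bool.rec r r (Nat.beq s 0))
    (fun p _ ih => Bool.rec ih ih (Nat.beq p 0)) y

@[simp] theorem force_eq (y : Pl) (r : Bool) : force y r = r := by
  induction y with
  | sgn s => show (Bool.rec r r (Nat.beq s 0) : Bool) = r; cases Nat.beq s 0 <;> rfl
  | cons p L ih =>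
    show (Bool.rec (force L r) (force L r) (Nat.beq p 0) : Bool) = r
    cases Nat.beq p 0 <;> exact ih

/-! ### Bits -/

theorem bt_eq (p i : ℕ) : bt p i = (p.testBit i).toInt := by
  unfold bt; cases p.testBit i <;> rfl

/-- Sum bit of a full adder. -/
noncomputable def sm (x c : ℕ) : ℕ := Nat.xor x c

/-- Majority; `x` is the exclusive or of `p` and `q`. -/
noncomputable def mj (p q x c : ℕ) : ℕ := Nat.lor (Nat.land p q) (Nat.land c x)

theorem full_adder (p q c i : ℕ) :
    bt p i + bt q i + bt c i = bt (sm (Nat.xor p q) c) i + 2 * bt (mj p q (Nat.xor p q) c) i := by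
  show bt p i + bt q i + bt c i = bt ((p ^^^ q) ^^^ c) i + 2 * bt ((p &&& q) ||| (c &&& (p ^^^ q))) i
  simp only [bt, Nat.testBit_xor, Nat.testBit_and, Nat.testBit_or]
  cases p.testBit i <;> cases q.testBit i <;> cases c.testBit i <;> rfl

/-! ### Addition -/

/-- Final step of an addition: two sign planes and a carry. -/
noncomputable def addSS (s t c : ℕ) : Pl :=
  (fun x => seqP (sm x c) fun u => seqP (sm x (mj s t x c)) fun v => .cons u (.sgn v)) (Nat.xor s t)

theorem val_addSS (s t c i : ℕ) : val (addSS s t c) i = - bt s i - bt t i + bt c i := by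
  show val (seqP (sm (Nat.xor s t) c) fun u => seqP (sm (Nat.xor s t) (mj s t (Nat.xor s t) c)) fun v =>
    .cons u (.sgn v)) i = _
  rw [seqP_eq, seqP_eq, val_cons, val_sgn]
  show bt ((s ^^^ t) ^^^ c) i + 2 * -bt ((s ^^^ t) ^^^ ((s &&& t) ||| (c &&& (s ^^^ t)))) i = _
  simp only [bt, Nat.testBit_xor, Nat.testBit_and, Nat.testBit_or]
  cases s.testBit i <;> cases t.testBit i <;> cases c.testBit i <;> rfl

/-- Sum of planes `L` with the sign plane `t` and a carry. -/
noncomputable def addLS (L : Pl) : ℕ → ℕ → Pl :=
  Pl.rec (motive := fun _ => ℕ → ℕ → Pl) (fun s t c => addSS s t c)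
    (fun p _ ih t c => (fun x => seqP (sm x c) fun u => .cons u (seqP (mj p t x c) fun d => ih t d)) (Nat.xor p t)) L

theorem val_addLS (L : Pl) (t c i : ℕ) : val (addLS L t c) i = val L i - bt t i + bt c i := by
  induction L generalizing c with
  | sgn s => show val (addSS s t c) i = _; rw [val_addSS]; rfl
  | cons p L ih =>
    show val (seqP (sm (Nat.xor p t) c) fun u => .cons u (seqP (mj p t (Nat.xor p t) c) fun d => addLS L t d)) i = _
    rw [seqP_eq, seqP_eq, val_cons, ih, val_cons]
    have := full_adder p t c i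
    linarith

/-- Sum with carry. -/
noncomputable def add (X : Pl) : Pl → ℕ → Pl :=
  Pl.rec (motive := fun _ => Pl → ℕ → Pl)
    (fun s Y c => addLS Y s c)
    (fun p L ih Y c => Pl.rec (motive := fun _ => Pl)
      (fun t => addLS (.cons p L) t c)
      (fun q M _ => (fun x => seqP (sm x c) fun u => .cons u (seqP (mj p q x c) fun d => ih M d)) (Nat.xor p q)) Y) X

theorem val_add (X Y : Pl) (c i : ℕ) : val (add X Y c) i = val X i + val Y i + bt c i := by
  induction X generalizing Y c with
  | sgn s => show val (addLS Y s c) i = _; rw [val_addLS, val_sgn]; ring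
  | cons p L ih =>
    cases Y with
    | sgn t => show val (addLS (.cons p L) t c) i = _; rw [val_addLS, val_sgn]; ring
    | cons q M =>
      show val (seqP (sm (Nat.xor p q) c) fun u =>
        .cons u (seqP (mj p q (Nat.xor p q) c) fun d => add L M d)) i = _
      rw [seqP_eq, seqP_eq, val_cons, ih, val_cons, val_cons]
      have := full_adder p q c i
      linarith

/-! ### Sign changes -/

/-- Conditional complement with mask `M` plus carry. -/
noncomputable def ng (M : ℕ) (L : Pl) : ℕ → Pl :=
  Pl.rec (motive := fun _ => ℕ → Pl)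
    (fun s c => (fun x => seqP (Nat.xor x c) fun u => seqP (Nat.xor x (Nat.land x c)) fun v => .cons u (.sgn v))
      (Nat.xor s M))
    (fun p _ ih c => (fun x => seqP (Nat.xor x c) fun u => .cons u (seqP (Nat.land x c) fun d => ih d))
      (Nat.xor p M)) L

theorem val_ng (M : ℕ) (L : Pl) (c i : ℕ) :
    val (ng M L c) i = (if M.testBit i then - val L i - 1 else val L i) + bt c i := by
  induction L generalizing c with
  | sgn s =>
    show val (seqP (Nat.xor (Nat.xor s M) c) fun u => seqP (Nat.xor (Nat.xor s M) (Nat.land (Nat.xor s M) c)) fun v =>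
      .cons u (.sgn v)) i = _
    rw [seqP_eq, seqP_eq, val_cons, val_sgn, val_sgn]
    show bt ((s ^^^ M) ^^^ c) i + 2 * -bt ((s ^^^ M) ^^^ ((s ^^^ M) &&& c)) i = _
    simp only [bt, Nat.testBit_xor, Nat.testBit_and]
    cases s.testBit i <;> cases M.testBit i <;> cases c.testBit i <;> rfl
  | cons p L ih =>
    show val (seqP (Nat.xor (Nat.xor p M) c) fun u =>
      .cons u (seqP (Nat.land (Nat.xor p M) c) fun d => ng M L d)) i = _
    rw [seqP_eq, seqP_eq, val_cons, ih, val_cons]
    show bt ((p ^^^ M) ^^^ c) i + 2 * ((if M.testBit i then - val L i - 1 else val L i) +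
      bt ((p ^^^ M) &&& c) i) = _
    simp only [bt, Nat.testBit_xor, Nat.testBit_and]
    cases p.testBit i <;> cases M.testBit i <;> cases c.testBit i <;> simp <;> ring

/-- Sign change in the lanes of `M`. -/
noncomputable def neg (M : ℕ) (L : Pl) : Pl := ng M L M

theorem val_neg (M : ℕ) (L : Pl) (i : ℕ) : val (neg M L) i = if M.testBit i then - val L i else val L i := by
  unfold neg
  rw [val_ng]
  unfold bt
  by_cases h : M.testBit i = true
  · rw [if_pos h, if_pos h, if_pos h]; ring
  · rw [if_neg h, if_neg h, if_neg h]; ring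

/-! ### Masking, doubling -/

/-- Keep the lanes of `U`, the others become `0`. -/
noncomputable def msk (U : ℕ) (L : Pl) : Pl :=
  Pl.rec (motive := fun _ => Pl) (fun s => seqP (Nat.land s U) fun u => .sgn u)
    (fun p _ ih => seqP (Nat.land p U) fun u => .cons u ih) L

theorem val_msk (U : ℕ) (L : Pl) (i : ℕ) : val (msk U L) i = if U.testBit i then val L i else 0 := by
  induction L with
  | sgn s =>
    show val (seqP (Nat.land s U) fun u => .sgn u) i = _
    rw [seqP_eq, val_sgn, val_sgn]
    show -bt (s &&& U) i = _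
    simp only [bt, Nat.testBit_and]
    cases s.testBit i <;> cases U.testBit i <;> rfl
  | cons p L ih =>
    show val (seqP (Nat.land p U) fun u => .cons u (msk U L)) i = _
    rw [seqP_eq, val_cons, val_cons, ih]
    show bt (p &&& U) i + _ = _
    simp only [bt, Nat.testBit_and]
    cases p.testBit i <;> cases U.testBit i <;> simp

/-- Double the lanes of `M`; `prev` is the previous plane. -/
noncomputable def db (M : ℕ) (L : Pl) : ℕ → Pl :=
  Pl.rec (motive := fun _ => ℕ → Pl)
    (fun s prev => seqP (Nat.xor s (Nat.land (Nat.xor s prev) M)) fun u => .cons u (.sgn s))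
    (fun p _ ih prev => seqP (Nat.xor p (Nat.land (Nat.xor p prev) M)) fun u => .cons u (ih p)) L

theorem val_db (M : ℕ) (L : Pl) (prev i : ℕ) :
    val (db M L prev) i = if M.testBit i then bt prev i + 2 * val L i else val L i := by
  induction L generalizing prev with
  | sgn s =>
    show val (seqP (Nat.xor s (Nat.land (Nat.xor s prev) M)) fun u => .cons u (.sgn s)) i = _
    rw [seqP_eq, val_cons, val_sgn]
    show bt (s ^^^ ((s ^^^ prev) &&& M)) i + 2 * -bt s i = _
    simp only [bt, Nat.testBit_xor, Nat.testBit_and]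
    cases s.testBit i <;> cases M.testBit i <;> cases prev.testBit i <;> rfl
  | cons p L ih =>
    show val (seqP (Nat.xor p (Nat.land (Nat.xor p prev) M)) fun u => .cons u (db M L p)) i = _
    rw [seqP_eq, val_cons, ih, val_cons]
    show bt (p ^^^ ((p ^^^ prev) &&& M)) i + 2 * _ = _
    simp only [bt, Nat.testBit_xor, Nat.testBit_and]
    cases p.testBit i <;> cases M.testBit i <;> cases prev.testBit i <;> simp

/-- Double the lanes of `M`. -/
noncomputable def dbl (M : ℕ) (L : Pl) : Pl := db M L 0

theorem val_dbl (M : ℕ) (L : Pl) (i : ℕ) : val (dbl M L) i = if M.testBit i then 2 * val L i else val L i := by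
  unfold dbl
  rw [val_db]
  simp [bt]

/-! ### Normal form -/

/-- `Nat.beq` of two sign planes. -/
noncomputable def consN (p : ℕ) (L : Pl) : Pl :=
  Pl.rec (motive := fun _ => Pl) (fun s => Bool.rec (.cons p (.sgn s)) (.sgn s) (Nat.beq p s))
    (fun q M _ => .cons p (.cons q M)) L

theorem val_consN (p : ℕ) (L : Pl) (i : ℕ) : val (consN p L) i = bt p i + 2 * val L i := by
  cases L with
  | sgn s =>
    show val (Bool.rec (.cons p (.sgn s)) (.sgn s) (Nat.beq p s)) i = _
    cases h : Nat.beq p s with
    | false => rfl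
    | true =>
      have := Nat.eq_of_beq_eq_true h
      subst this
      show - bt p i = bt p i + 2 * -bt p i
      ring
  | cons q M => rfl

/-- Drop superfluous sign planes. -/
noncomputable def norm (L : Pl) : Pl :=
  Pl.rec (motive := fun _ => Pl) (fun s => .sgn s) (fun p _ ih => consN p ih) L

theorem val_norm (L : Pl) (i : ℕ) : val (norm L) i = val L i := by
  induction L with
  | sgn s => rfl
  | cons p L ih =>
    show val (consN p (norm L)) i = _
    rw [val_consN, ih, val_cons]

/-! ### Permutations of lanes -/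

/-- Apply a network to all planes. -/
noncomputable def mapNet (N : Net) (L : Pl) : Pl :=
  Pl.rec (motive := fun _ => Pl) (fun s => seqP (N.app s) fun u => .sgn u)
    (fun p _ ih => seqP (N.app p) fun u => .cons u ih) L

theorem bt_app {m : ℕ} {N : Net} (h : N.ok m = true) (p i : ℕ) : bt (N.app p) i = bt p (N.perm i) := by
  unfold bt; rw [testBit_app h]

theorem val_mapNet {m : ℕ} {N : Net} (h : N.ok m = true) (L : Pl) (i : ℕ) :
    val (mapNet N L) i = val L (N.perm i) := by
  induction L with
  | sgn s =>
    show val (seqP (N.app s) fun u => .sgn u) i = _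
    rw [seqP_eq, val_sgn, val_sgn, bt_app h]
  | cons p L ih =>
    show val (seqP (N.app p) fun u => .cons u (mapNet N L)) i = _
    rw [seqP_eq, val_cons, val_cons, bt_app h, ih]

/-- Apply one stage to all planes. -/
noncomputable def mapStage (M d : ℕ) (L : Pl) : Pl :=
  Pl.rec (motive := fun _ => Pl) (fun s => seqP (stage M d s) fun u => .sgn u)
    (fun p _ ih => seqP (stage M d p) fun u => .cons u ih) L

theorem bt_stage {M d : ℕ} (h : M &&& (M >>> d) = 0) (p i : ℕ) : bt (stage M d p) i = bt p (tau M d i) := by
  unfold bt; rw [testBit_stage h, stagePerm_apply h]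

theorem val_mapStage {M d : ℕ} (h : M &&& (M >>> d) = 0) (L : Pl) (i : ℕ) :
    val (mapStage M d L) i = val L (tau M d i) := by
  induction L with
  | sgn s =>
    show val (seqP (stage M d s) fun u => .sgn u) i = _
    rw [seqP_eq, val_sgn, val_sgn, bt_stage h]
  | cons p L ih =>
    show val (seqP (stage M d p) fun u => .cons u (mapStage M d L)) i = _
    rw [seqP_eq, val_cons, val_cons, bt_stage h, ih]

/-! ### Butterflies -/

/-- `(a_i, a_{i+d}) ↦ (a_i + a_{i+d}, a_i - a_{i+d})` for `i` in `M`. -/
noncomputable def bfly (M d : ℕ) (L : Pl) : Pl :=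
  (fun M' => add (neg M' L) (msk (Nat.lor M M') (mapStage M d L)) 0) (Nat.shiftLeft M d)

/-- The value of a butterfly. -/
def bflyVal (M d : ℕ) (f : ℕ → ℤ) (i : ℕ) : ℤ :=
  if M.testBit i then f i + f (i + d) else if d ≤ i ∧ M.testBit (i - d) then f (i - d) - f i else f i

theorem val_bfly {M d : ℕ} (h : M &&& (M >>> d) = 0) (L : Pl) (i : ℕ) :
    val (bfly M d L) i = bflyVal M d (val L) i := by
  show val (add (neg (M <<< d) L) (msk (M ||| (M <<< d)) (mapStage M d L)) 0) i = _
  rw [val_add, val_neg, val_msk, val_mapStage h]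
  unfold bflyVal tau
  have h0 : bt 0 i = 0 := by simp [bt]
  rw [h0, add_zero, Nat.testBit_or]
  have hs : (M <<< d).testBit i = (decide (d ≤ i) && M.testBit (i - d)) := by
    rw [Nat.testBit_shiftLeft]
  by_cases h1 : M.testBit i = true
  · have h2 : (M <<< d).testBit i = false := by
      rw [hs]
      by_cases hd : d ≤ i
      · by_contra hc
        have h5 : M.testBit (i - d) = true := by
          have : (decide (d ≤ i) && M.testBit (i - d)) = true := by simpa using hc
          exact (Bool.and_eq_true _ _ ▸ this).2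
        have h6 := testBit_and_shift h (i - d) h5
        rw [Nat.sub_add_cancel hd] at h6
        rw [h6] at h1; exact absurd h1 (by simp)
      · simp [hd]
    rw [h2, h1, if_pos rfl]
    simp
  · have h1' : M.testBit i = false := by simpa using h1
    rw [h1', hs]
    by_cases h3 : d ≤ i ∧ M.testBit (i - d) = true
    · have h4 : (decide (d ≤ i) && M.testBit (i - d)) = true := by simp [h3.1, h3.2]
      rw [h4]
      simp only [h3]
      simp
      ring
    · have h4 : (decide (d ≤ i) && M.testBit (i - d)) = false := by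
        by_contra hc
        apply h3
        have h5 : (decide (d ≤ i) && M.testBit (i - d)) = true := by simpa using hc
        rw [Bool.and_eq_true, decide_eq_true_eq] at h5
        exact h5
      rw [h4, if_neg (by simp), if_neg (by simp), if_neg (by simp), add_zero, if_neg h3]

/-! ### Programs -/

/-- Programs. -/
inductive Prog : Type
  | nil : Prog
  | perm (N : Net) (P : Prog) : Prog
  | neg (M : ℕ) (P : Prog) : Prog
  | dbl (M : ℕ) (P : Prog) : Prog
  | half (P : Prog) : Prog
  | bfly (M d : ℕ) (P : Prog) : Prog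

/-- Continue with the (evaluated) planes `y`. -/
noncomputable def go (y : Pl) (k : Pl → Bool) : Bool := (fun z => force z (k z)) (norm y)

theorem go_eq (y : Pl) (k : Pl → Bool) : go y k = k (norm y) := by
  show force (norm y) (k (norm y)) = _
  rw [force_eq]

/-- Continue with half of `x`, if all lanes are even. -/
noncomputable def goHalf (x : Pl) (k : Pl → Bool) : Bool :=
  Pl.rec (motive := fun _ => Bool) (fun s => Bool.rec false (k (.sgn 0)) (Nat.beq s 0))
    (fun p L _ => Bool.rec false (k L) (Nat.beq p 0)) x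

theorem goHalf_sound {x : Pl} {k : Pl → Bool} (h : goHalf x k = true) :
    ∃ y, (∀ i, val x i = 2 * val y i) ∧ k y = true := by
  cases x with
  | sgn s =>
    have h' : (Bool.rec false (k (.sgn 0)) (Nat.beq s 0) : Bool) = true := h
    cases h1 : Nat.beq s 0 with
    | false => rw [h1] at h'; exact absurd h' (by simp)
    | true =>
      rw [h1] at h'
      have := Nat.eq_of_beq_eq_true h1
      subst this
      refine ⟨.sgn 0, fun i => ?_, h'⟩
      simp [bt]
  | cons p L =>
    have h' : (Bool.rec false (k L) (Nat.beq p 0) : Bool) = true := h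
    cases h1 : Nat.beq p 0 with
    | false => rw [h1] at h'; exact absurd h' (by simp)
    | true =>
      rw [h1] at h'
      have := Nat.eq_of_beq_eq_true h1
      subst this
      refine ⟨L, fun i => ?_, h'⟩
      simp [bt]

/-- Run a program. -/
noncomputable def run (P : Prog) : Pl → (Pl → Bool) → Bool :=
  Prog.rec (motive := fun _ => Pl → (Pl → Bool) → Bool)
    (fun x k => k x)
    (fun N _ ih x k => go (mapNet N x) fun y => ih y k)
    (fun M _ ih x k => go (VecEngine.neg M x) fun y => ih y k)
    (fun M _ ih x k => go (VecEngine.dbl M x) fun y => ih y k)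
    (fun _ ih x k => goHalf x fun y => ih y k)
    (fun M d _ ih x k => go (VecEngine.bfly M d x) fun y => ih y k) P

/-- Well-formedness on `m` lanes. -/
noncomputable def Prog.ok (m : ℕ) (P : Prog) : Bool :=
  Prog.rec (motive := fun _ => Bool) true
    (fun N _ ih => and (N.ok m) ih)
    (fun _ _ ih => ih)
    (fun _ _ ih => ih)
    (fun _ ih => ih)
    (fun M d _ ih => and (Net.ok m (.cons M d .nil)) ih) P

section sem

variable (R : Type*) [Field R]

/-- Composition with a map on lanes. -/
def lcomp (e : ℕ → ℕ) : (ℕ → R) →ₗ[R] (ℕ → R) where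
  toFun f i := f (e i)
  map_add' _ _ := rfl
  map_smul' _ _ := rfl

/-- Sign change. -/
def lneg (M : ℕ) : (ℕ → R) →ₗ[R] (ℕ → R) where
  toFun f i := if M.testBit i then - f i else f i
  map_add' f g := by
    funext i
    by_cases h : M.testBit i = true
    · simp [h]; ring
    · simp [h]
  map_smul' c f := by
    funext i
    by_cases h : M.testBit i = true
    · simp [h]
    · simp [h]

/-- Doubling. -/
def ldbl (M : ℕ) : (ℕ → R) →ₗ[R] (ℕ → R) where
  toFun f i := if M.testBit i then 2 * f i else f i
  map_add' f g := by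
    funext i
    by_cases h : M.testBit i = true
    · simp [h]; ring
    · simp [h]
  map_smul' c f := by
    funext i
    by_cases h : M.testBit i = true
    · simp [h]; ring
    · simp [h]

/-- Butterfly. -/
def lbfly (M d : ℕ) : (ℕ → R) →ₗ[R] (ℕ → R) where
  toFun f i := if M.testBit i then f i + f (i + d) else if d ≤ i ∧ M.testBit (i - d) then f (i - d) - f i else f i
  map_add' f g := by
    funext i
    by_cases h : M.testBit i = true
    · simp [h]; ring
    · by_cases h2 : d ≤ i ∧ M.testBit (i - d) = true
      · simp [h, h2]; ring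
      · simp [h, h2]
  map_smul' c f := by
    funext i
    by_cases h : M.testBit i = true
    · simp [h]; ring
    · by_cases h2 : d ≤ i ∧ M.testBit (i - d) = true
      · simp [h, h2]; ring
      · simp [h, h2]

/-- The linear map of a program. -/
noncomputable def sem : Prog → ((ℕ → R) →ₗ[R] (ℕ → R))
  | .nil => LinearMap.id
  | .perm N P => (sem P).comp (lcomp R N.perm)
  | .neg M P => (sem P).comp (lneg R M)
  | .dbl M P => (sem P).comp (ldbl R M)
  | .half P => (sem P).comp ((2 : R)⁻¹ • LinearMap.id)
  | .bfly M d P => (sem P).comp (lbfly R M d)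

/-- The vector of a list of planes. -/
def vec (x : Pl) : ℕ → R := fun i => (val x i : R)

theorem vec_norm (x : Pl) : vec R (norm x) = vec R x := by
  funext i; unfold vec; rw [val_norm]

theorem vec_mapNet {m : ℕ} {N : Net} (h : N.ok m = true) (x : Pl) :
    vec R (mapNet N x) = lcomp R N.perm (vec R x) := by
  funext i; show ((val (mapNet N x) i : ℤ) : R) = (val x (N.perm i) : R); rw [val_mapNet h]

theorem vec_neg (M : ℕ) (x : Pl) : vec R (neg M x) = lneg R M (vec R x) := by
  funext i
  show ((val (neg M x) i : ℤ) : R) = if M.testBit i then - (val x i : R) else (val x i : R)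
  rw [val_neg]
  split_ifs <;> push_cast <;> rfl

theorem vec_dbl (M : ℕ) (x : Pl) : vec R (dbl M x) = ldbl R M (vec R x) := by
  funext i
  show ((val (dbl M x) i : ℤ) : R) = if M.testBit i then 2 * (val x i : R) else (val x i : R)
  rw [val_dbl]
  split_ifs <;> push_cast <;> rfl

theorem vec_bfly {M d : ℕ} (h : M &&& (M >>> d) = 0) (x : Pl) :
    vec R (bfly M d x) = lbfly R M d (vec R x) := by
  funext i
  show ((val (bfly M d x) i : ℤ) : R) = if M.testBit i then (val x i : R) + (val x (i + d) : R)
    else if d ≤ i ∧ M.testBit (i - d) then (val x (i - d) : R) - (val x i : R) else (val x i : R)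
  rw [val_bfly h]
  unfold bflyVal
  split_ifs <;> push_cast <;> rfl

theorem run_sound (h2 : (2 : R) ≠ 0) {m : ℕ} (P : Prog) (hP : P.ok m = true) (x : Pl) (k : Pl → Bool) (h : run P x k = true) :
    ∃ y, vec R y = sem R P (vec R x) ∧ k y = true := by
  induction P generalizing x with
  | nil => exact ⟨x, rfl, h⟩
  | perm N P ih =>
    have hP' : and (N.ok m) (P.ok m) = true := hP
    rw [Bool.and_eq_true] at hP'
    have h' : go (mapNet N x) (fun y => run P y k) = true := h
    rw [go_eq] at h'
    obtain ⟨y, hy, hk⟩ := ih hP'.2 _ h'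
    exact ⟨y, by rw [hy, vec_norm, vec_mapNet R hP'.1]; rfl, hk⟩
  | neg M P ih =>
    have h' : go (neg M x) (fun y => run P y k) = true := h
    rw [go_eq] at h'
    obtain ⟨y, hy, hk⟩ := ih hP _ h'
    exact ⟨y, by rw [hy, vec_norm, vec_neg]; rfl, hk⟩
  | dbl M P ih =>
    have h' : go (dbl M x) (fun y => run P y k) = true := h
    rw [go_eq] at h'
    obtain ⟨y, hy, hk⟩ := ih hP _ h'
    exact ⟨y, by rw [hy, vec_norm, vec_dbl]; rfl, hk⟩
  | half P ih =>
    have h' : goHalf x (fun y => run P y k) = true := h
    obtain ⟨z, hz, hz'⟩ := goHalf_sound h'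
    obtain ⟨y, hy, hk⟩ := ih hP _ hz'
    refine ⟨y, ?_, hk⟩
    rw [hy]
    show sem R P (vec R z) = sem R P (((2 : R)⁻¹ • LinearMap.id) (vec R x))
    congr 1
    funext i
    show (val z i : R) = (2 : R)⁻¹ * (val x i : R)
    rw [hz]
    push_cast
    rw [← mul_assoc, inv_mul_cancel₀ h2, one_mul]
  | bfly M d P ih =>
    have hP' : and (Net.ok m (.cons M d .nil)) (P.ok m) = true := hP
    rw [Bool.and_eq_true] at hP'
    have h' : go (bfly M d x) (fun y => run P y k) = true := h
    rw [go_eq] at h'
    obtain ⟨y, hy, hk⟩ := ih hP'.2 _ h'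
    exact ⟨y, by rw [hy, vec_norm, vec_bfly R (Net.ok_cons hP'.1).1]; rfl, hk⟩

/-! ### Words and checks -/

/-- Run a list of programs, the first one first. -/
noncomputable def runL (w : List Prog) : Pl → (Pl → Bool) → Bool :=
  List.rec (motive := fun _ => Pl → (Pl → Bool) → Bool) (fun x k => k x)
    (fun P _ ih x k => run P x fun y => ih y k) w

/-- The linear map of a list of programs, the first one acts first. -/
noncomputable def semL : List Prog → ((ℕ → R) →ₗ[R] (ℕ → R))
  | [] => LinearMap.id
  | P :: w => (semL w).comp (sem R P)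

@[simp] theorem semL_nil : semL R [] = LinearMap.id := rfl

@[simp] theorem semL_cons (P : Prog) (w : List Prog) : semL R (P :: w) = (semL R w).comp (sem R P) := rfl

theorem semL_append (w w' : List Prog) : semL R (w ++ w') = (semL R w').comp (semL R w) := by
  induction w with
  | nil => rfl
  | cons P w ih => rw [List.cons_append, semL_cons, semL_cons, ih]; rfl

theorem runL_sound (h2 : (2 : R) ≠ 0) {m : ℕ} (w : List Prog) (hw : ∀ P ∈ w, P.ok m = true) (x : Pl)
    (k : Pl → Bool) (h : runL w x k = true) : ∃ y, vec R y = semL R w (vec R x) ∧ k y = true := by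
  induction w generalizing x with
  | nil => exact ⟨x, rfl, h⟩
  | cons P w ih =>
    have h' : run P x (fun y => runL w y k) = true := h
    obtain ⟨y, hy, hk⟩ := run_sound R h2 P (hw P (by simp)) x _ h'
    obtain ⟨z, hz, hk'⟩ := ih (fun Q hQ => hw Q (by simp [hQ])) y hk
    exact ⟨z, by rw [hz, hy]; rfl, hk'⟩

/-- Equality of planes. -/
noncomputable def eqP (x : Pl) : Pl → Bool :=
  Pl.rec (motive := fun _ => Pl → Bool)
    (fun s y => Pl.rec (motive := fun _ => Bool) (fun t => Nat.beq s t) (fun _ _ _ => false) y)
    (fun p _ ih y => Pl.rec (motive := fun _ => Bool) (fun _ => false) (fun q M _ => and (Nat.beq p q) (ih M)) y) x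

theorem eq_of_eqP {x y : Pl} (h : eqP x y = true) : x = y := by
  induction x generalizing y with
  | sgn s =>
    cases y with
    | sgn t =>
      have h' : Nat.beq s t = true := h
      rw [Nat.eq_of_beq_eq_true h']
    | cons q M => exact absurd (show false = true from h) (by simp)
  | cons p L ih =>
    cases y with
    | sgn t => exact absurd (show false = true from h) (by simp)
    | cons q M =>
      have h' : and (Nat.beq p q) (eqP L M) = true := h
      rw [Bool.and_eq_true] at h'
      rw [Nat.eq_of_beq_eq_true h'.1, ih h'.2]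

/-- The check that two words give the same result on two vectors. -/
noncomputable def check (w₁ : List Prog) (x₁ : Pl) (w₂ : List Prog) (x₂ : Pl) : Bool :=
  runL w₁ x₁ fun y₁ => runL w₂ x₂ fun y₂ => eqP (norm y₁) (norm y₂)

theorem check_sound (h2 : (2 : R) ≠ 0) {m : ℕ} {w₁ w₂ : List Prog} (h₁ : ∀ P ∈ w₁, P.ok m = true)
    (h₂ : ∀ P ∈ w₂, P.ok m = true) {x₁ x₂ : Pl} (h : check w₁ x₁ w₂ x₂ = true) :
    semL R w₁ (vec R x₁) = semL R w₂ (vec R x₂) := by
  obtain ⟨y₁, hy₁, hk₁⟩ := runL_sound R h2 w₁ h₁ x₁ _ h
  obtain ⟨y₂, hy₂, hk₂⟩ := runL_sound R h2 w₂ h₂ x₂ _ hk₁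
  rw [← hy₁, ← hy₂, ← vec_norm R y₁, ← vec_norm R y₂, eq_of_eqP hk₂]

/-- The check that a word fixes a vector. -/
noncomputable def checkFix (w : List Prog) (x : Pl) : Bool := runL w x fun y => eqP (norm y) (norm x)

theorem checkFix_sound (h2 : (2 : R) ≠ 0) {m : ℕ} {w : List Prog} (hw : ∀ P ∈ w, P.ok m = true) {x : Pl}
    (h : checkFix w x = true) : semL R w (vec R x) = vec R x := by
  obtain ⟨y, hy, hk⟩ := runL_sound R h2 w hw x _ h
  rw [← hy, ← vec_norm R y, eq_of_eqP hk, vec_norm]

end sem

end Cfsg.Agent.Monster.VecEngine
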