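/-
The finite dimensional space of vectors on the lanes of a mask, programs as linear maps and isometries of it.
-/
import Cfsg.Agent.Monster.VecEngine

set_option autoImplicit false

namespace Cfsg.Agent.Monster.VecSpace

open Cfsg.Agent.Lib.PermNet Cfsg.Agent.Monster.VecEngine

/-! ### Lanes -/

/-- The lanes of a mask. -/
def Lane (U : ℕ) : Type := {i : ℕ // U.testBit i = true}

instance (U : ℕ) : DecidableEq (Lane U) := inferInstanceAs (DecidableEq {i : ℕ // U.testBit i = true})

theorem lt_of_testBit' {U i : ℕ} (h : U.testBit i = true) : i < U :=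
  lt_of_lt_of_le Nat.lt_two_pow_self (Nat.ge_two_pow_of_testBit h)

instance (U : ℕ) : Finite (Lane U) := by
  have : Function.Injective (fun i : Lane U => (⟨i.1, lt_of_testBit' i.2⟩ : Fin U)) := by
    intro a b h
    exact Subtype.ext (by simpa using congrArg Fin.val h)
  exact Finite.of_injective _ this

noncomputable instance (U : ℕ) : Fintype (Lane U) := Fintype.ofFinite _

/-- Sums over the lanes of a mask. -/
theorem sum_lane {M : Type*} [AddCommMonoid M] {U n : ℕ} (hU : U < 2 ^ n) (f : ℕ → M) :
    ∑ i : Lane U, f i.1 = ∑ i ∈ Finset.range n, if U.testBit i then f i else 0 := by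
  classical
  rw [← Finset.sum_filter]
  refine Finset.sum_bij (fun (a : Lane U) _ => a.1) ?_ ?_ ?_ ?_
  · intro a _
    rw [Finset.mem_filter, Finset.mem_range]
    refine ⟨?_, a.2⟩
    by_contra hc
    push Not at hc
    have := Nat.testBit_lt_two_pow (lt_of_lt_of_le hU (Nat.pow_le_pow_right (by norm_num) hc))
    rw [a.2] at this
    exact absurd this (by simp)
  · intro a _ b _ hab; exact Subtype.ext hab
  · intro b hb
    exact ⟨⟨b, (Finset.mem_filter.1 hb).2⟩, Finset.mem_univ _, rfl⟩
  · intro a _; rfl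

variable (R : Type*) [Field R]

/-- Restriction to the lanes of a mask. -/
def res (U : ℕ) : (ℕ → R) →ₗ[R] (Lane U → R) where
  toFun f i := f i.1
  map_add' _ _ := rfl
  map_smul' _ _ := rfl

@[simp] theorem res_apply (U : ℕ) (f : ℕ → R) (i : Lane U) : res R U f i = f i.1 := rfl

/-- Extension by zero. -/
def ext (U : ℕ) : (Lane U → R) →ₗ[R] (ℕ → R) where
  toFun f i := if h : U.testBit i = true then f ⟨i, h⟩ else 0
  map_add' f g := by
    funext i
    by_cases h : U.testBit i = true
    · simp only [h, Pi.add_apply]; rfl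
    · simp [h]
  map_smul' c f := by
    funext i
    by_cases h : U.testBit i = true
    · simp only [h, Pi.smul_apply]; rfl
    · simp [h]

theorem ext_apply_of_true {U i : ℕ} (h : U.testBit i = true) (f : Lane U → R) : ext R U f i = f ⟨i, h⟩ := by
  show (if h : U.testBit i = true then f ⟨i, h⟩ else 0) = _
  rw [dif_pos h]

theorem ext_apply_of_not {U i : ℕ} (h : ¬ U.testBit i = true) (f : Lane U → R) : ext R U f i = 0 := by
  show (if h : U.testBit i = true then f ⟨i, h⟩ else 0) = _
  rw [dif_neg h]

@[simp] theorem ext_coe {U : ℕ} (f : Lane U → R) (i : Lane U) : ext R U f i.1 = f i := by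
  rw [ext_apply_of_true R i.2]; rfl

/-- Restriction to `U`, extended by zero. -/
def ind (U : ℕ) (f : ℕ → R) : ℕ → R := fun i => if U.testBit i = true then f i else 0

@[simp] theorem res_ext (U : ℕ) (f : Lane U → R) : res R U (ext R U f) = f := by
  funext i; rw [res_apply, ext_coe]

theorem ext_res (U : ℕ) (f : ℕ → R) : ext R U (res R U f) = ind R U f := by
  funext i
  unfold ind
  by_cases h : U.testBit i = true
  · rw [ext_apply_of_true R h, if_pos h]; rfl
  · rw [ext_apply_of_not R h, if_neg h]

theorem res_ind (U : ℕ) (f : ℕ → R) : res R U (ind R U f) = res R U f := by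
  funext i
  show (if U.testBit i.1 = true then f i.1 else 0) = f i.1
  rw [if_pos i.2]

theorem ind_ext (U : ℕ) (f : Lane U → R) : ind R U (ext R U f) = ext R U f := by
  rw [← ext_res, res_ext]

/-- The vector of a list of planes, on the lanes of a mask. -/
def vecU (U : ℕ) (x : Pl) : Lane U → R := fun i => (val x i.1 : R)

theorem vecU_eq (U : ℕ) (x : Pl) : vecU R U x = res R U (vec R x) := rfl

/-! ### Following a mask -/

/-- Follow the mask `U` through a program, compare with the final mask `V`. -/
noncomputable def fol (P : Prog) : ℕ → ℕ → Bool :=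
  Prog.rec (motive := fun _ => ℕ → ℕ → Bool)
    (fun U V => Nat.beq U V)
    (fun N _ ih U V => seqB (N.app U) fun U' => ih U' V)
    (fun _ _ ih U V => ih U V)
    (fun _ _ ih U V => ih U V)
    (fun _ ih U V => ih U V)
    (fun M d _ ih U V => and (Nat.beq (Nat.land M (Nat.xor U (Nat.shiftRight U d))) 0) (ih U V)) P

/-- The condition of `fol` for a butterfly. -/
theorem testBit_add_of_fol {M d U i : ℕ} (h : Nat.beq (Nat.land M (Nat.xor U (Nat.shiftRight U d))) 0 = true)
    (hi : M.testBit i = true) : U.testBit (i + d) = U.testBit i := by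
  have h1 : M &&& (U ^^^ (U >>> d)) = 0 := Nat.eq_of_beq_eq_true h
  have h2 := congrArg (fun x => Nat.testBit x i) h1
  simp only [Nat.testBit_and, Nat.testBit_xor, Nat.testBit_shiftRight, Nat.zero_testBit, hi, Bool.true_and] at h2
  rw [Nat.add_comm i d]
  cases h3 : U.testBit i <;> cases h4 : U.testBit (d + i) <;> rw [h3, h4] at h2 <;> simp_all

theorem ind_lcomp {m : ℕ} {N : Net} (h : N.ok m = true) (U : ℕ) (f : ℕ → R) :
    ind R (N.app U) (lcomp R N.perm f) = lcomp R N.perm (ind R U f) := by
  funext i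
  show (if (N.app U).testBit i = true then f (N.perm i) else 0) = if U.testBit (N.perm i) = true then f (N.perm i) else 0
  rw [testBit_app h]

theorem ind_lneg (M U : ℕ) (f : ℕ → R) : ind R U (lneg R M f) = lneg R M (ind R U f) := by
  funext i
  show (if U.testBit i = true then (if M.testBit i then - f i else f i) else 0) =
    if M.testBit i then - (if U.testBit i = true then f i else 0) else if U.testBit i = true then f i else 0
  split_ifs <;> simp

theorem ind_ldbl (M U : ℕ) (f : ℕ → R) : ind R U (ldbl R M f) = ldbl R M (ind R U f) := by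
  funext i
  show (if U.testBit i = true then (if M.testBit i then 2 * f i else f i) else 0) =
    if M.testBit i then 2 * (if U.testBit i = true then f i else 0) else if U.testBit i = true then f i else 0
  split_ifs <;> simp

theorem ind_lbfly {M d U : ℕ} (h : Nat.beq (Nat.land M (Nat.xor U (Nat.shiftRight U d))) 0 = true) (f : ℕ → R) :
    ind R U (lbfly R M d f) = lbfly R M d (ind R U f) := by
  funext i
  show (if U.testBit i = true then (if M.testBit i then f i + f (i + d) else
      if d ≤ i ∧ M.testBit (i - d) then f (i - d) - f i else f i) else 0) =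
    if M.testBit i then ind R U f i + ind R U f (i + d) else
      if d ≤ i ∧ M.testBit (i - d) then ind R U f (i - d) - ind R U f i else ind R U f i
  unfold ind
  by_cases h1 : M.testBit i = true
  · rw [if_pos h1, if_pos h1, testBit_add_of_fol h h1]
    split_ifs <;> simp
  · rw [if_neg h1, if_neg h1]
    by_cases h2 : d ≤ i ∧ M.testBit (i - d) = true
    · rw [if_pos h2, if_pos h2]
      have := testBit_add_of_fol h h2.2
      rw [Nat.sub_add_cancel h2.1] at this
      rw [← this]
      split_ifs <;> simp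
    · rw [if_neg h2, if_neg h2]

theorem ind_sem {m : ℕ} {P : Prog} (hP : P.ok m = true) {U V : ℕ} (h : fol P U V = true) (f : ℕ → R) :
    ind R V (sem R P f) = sem R P (ind R U f) := by
  induction P generalizing U f with
  | nil =>
    have : U = V := Nat.eq_of_beq_eq_true (show Nat.beq U V = true from h)
    subst this; rfl
  | perm N P ih =>
    have hP' : and (N.ok m) (P.ok m) = true := hP
    rw [Bool.and_eq_true] at hP'
    have h' : seqB (N.app U) (fun U' => fol P U' V) = true := h
    rw [seqB_eq] at h'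
    show ind R V (sem R P (lcomp R N.perm f)) = sem R P (lcomp R N.perm (ind R U f))
    rw [ih hP'.2 h', ind_lcomp R hP'.1]
  | neg M P ih =>
    show ind R V (sem R P (lneg R M f)) = sem R P (lneg R M (ind R U f))
    rw [ih hP (show fol P U V = true from h), ind_lneg]
  | dbl M P ih =>
    show ind R V (sem R P (ldbl R M f)) = sem R P (ldbl R M (ind R U f))
    rw [ih hP (show fol P U V = true from h), ind_ldbl]
  | half P ih =>
    show ind R V (sem R P ((2 : R)⁻¹ • f)) = sem R P ((2 : R)⁻¹ • ind R U f)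
    rw [ih hP (show fol P U V = true from h)]
    congr 1
    funext i
    show (if U.testBit i = true then (2 : R)⁻¹ * f i else 0) = (2 : R)⁻¹ * (if U.testBit i = true then f i else 0)
    split_ifs <;> simp
  | bfly M d P ih =>
    have hP' : and (Net.ok m (.cons M d .nil)) (P.ok m) = true := hP
    rw [Bool.and_eq_true] at hP'
    have h' : and (Nat.beq (Nat.land M (Nat.xor U (Nat.shiftRight U d))) 0) (fol P U V) = true := h
    rw [Bool.and_eq_true] at h'
    show ind R V (sem R P (lbfly R M d f)) = sem R P (lbfly R M d (ind R U f))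
    rw [ih hP'.2 h'.2, ind_lbfly R h'.1]

/-! ### Programs on the lanes of a mask -/

/-- The linear map of a program on the lanes of `U`. -/
noncomputable def semU (U : ℕ) (P : Prog) : (Lane U → R) →ₗ[R] (Lane U → R) :=
  (res R U).comp ((sem R P).comp (ext R U))

/-- `P` is well formed on `m` lanes and preserves the mask `U`. -/
structure Pres (m U : ℕ) (P : Prog) : Prop where
  ok : P.ok m = true
  fol : fol P U U = true

theorem res_sem {m U : ℕ} {P : Prog} (h : Pres m U P) (f : ℕ → R) :
    res R U (sem R P f) = semU R U P (res R U f) := by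
  show _ = res R U (sem R P (ext R U (res R U f)))
  rw [ext_res, ← ind_sem R h.ok h.fol, res_ind]

theorem sem_ext {m U : ℕ} {P : Prog} (h : Pres m U P) (f : Lane U → R) :
    sem R P (ext R U f) = ext R U (semU R U P f) := by
  show _ = ext R U (res R U (sem R P (ext R U f)))
  rw [ext_res, ind_sem R h.ok h.fol, ind_ext]

/-- The linear map of a list of programs, the first one acts first. -/
noncomputable def semUL (U : ℕ) : List Prog → ((Lane U → R) →ₗ[R] (Lane U → R))
  | [] => LinearMap.id
  | P :: w => (semUL U w).comp (semU R U P)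

@[simp] theorem semUL_nil (U : ℕ) : semUL R U [] = LinearMap.id := rfl

@[simp] theorem semUL_cons (U : ℕ) (P : Prog) (w : List Prog) :
    semUL R U (P :: w) = (semUL R U w).comp (semU R U P) := rfl

theorem semUL_append (U : ℕ) (w w' : List Prog) :
    semUL R U (w ++ w') = (semUL R U w').comp (semUL R U w) := by
  induction w with
  | nil => rfl
  | cons P w ih => rw [List.cons_append, semUL_cons, semUL_cons, ih]; rfl

theorem res_semL {m U : ℕ} {w : List Prog} (h : ∀ P ∈ w, Pres m U P) (f : ℕ → R) :
    res R U (semL R w f) = semUL R U w (res R U f) := by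
  induction w generalizing f with
  | nil => rfl
  | cons P w ih =>
    show res R U (semL R w (sem R P f)) = semUL R U w (semU R U P (res R U f))
    rw [ih (fun Q hQ => h Q (by simp [hQ])), res_sem R (h P (by simp))]

/-- The check of an identity of vectors, on the lanes of `U`. -/
theorem checkU_sound (h2 : (2 : R) ≠ 0) {m U : ℕ} {w₁ w₂ : List Prog} (h₁ : ∀ P ∈ w₁, Pres m U P)
    (h₂ : ∀ P ∈ w₂, Pres m U P) {x₁ x₂ : Pl} (h : check w₁ x₁ w₂ x₂ = true) :
    semUL R U w₁ (vecU R U x₁) = semUL R U w₂ (vecU R U x₂) := by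
  rw [vecU_eq, vecU_eq, ← res_semL R h₁, ← res_semL R h₂,
    check_sound R h2 (fun P hP => (h₁ P hP).ok) (fun P hP => (h₂ P hP).ok) h]

theorem checkFixU_sound (h2 : (2 : R) ≠ 0) {m U : ℕ} {w : List Prog} (hw : ∀ P ∈ w, Pres m U P)
    {x : Pl} (h : checkFix w x = true) : semUL R U w (vecU R U x) = vecU R U x := by
  rw [vecU_eq, ← res_semL R hw, checkFix_sound R h2 (fun P hP => (hw P hP).ok) h]

/-! ### Isometries -/

/-- The standard form on the lanes of `U`. -/
noncomputable def dotU (U : ℕ) (f g : Lane U → R) : R := ∑ i, f i * g i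

/-- The weighted form on the lanes of `U`, with weights `2 ^ (-w i)`. -/
noncomputable def wform (U : ℕ) (w : Pl) (f g : ℕ → R) : R := ∑ i : Lane U, (2 : R) ^ (-(val w i.1)) * (f i.1 * g i.1)

/-- Continue with the (evaluated) planes `y`. -/
theorem go_true {y : Pl} {k : Pl → Bool} (h : go y k = true) : k (norm y) = true := by
  rw [go_eq] at h; exact h

/-- Follow the mask `U` and the weights `w` through a program; compare with the final mask `V` and the final
weights `v`. -/
noncomputable def iso (P : Prog) : ℕ → Pl → ℕ → Pl → Bool :=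
  Prog.rec (motive := fun _ => ℕ → Pl → ℕ → Pl → Bool)
    (fun U w V v => and (Nat.beq U V) (eqP (norm (msk U w)) (norm (msk U v))))
    (fun N _ ih U w V v => seqB (N.app U) fun U' => go (mapNet N w) fun w' => ih U' w' V v)
    (fun _ _ ih U w V v => ih U w V v)
    (fun M _ ih U w V v => go (VecEngine.add w (.cons 0 (.cons M (.sgn 0))) 0) fun w' => ih U w' V v)
    (fun _ ih U w V v => go (VecEngine.add w (.cons 0 (.sgn U)) 0) fun w' => ih U w' V v)
    (fun M d _ ih U w V v => and (Nat.beq (Nat.land M (Nat.xor U (Nat.shiftRight U d))) 0)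
      (and (eqP (norm (msk U (mapStage M d w))) (norm (msk U w)))
        (go (addLS w 0 (Nat.lor M (Nat.shiftLeft M d))) fun w' => ih U w' V v))) P

/-- The permutation of a network as a bijection of lanes. -/
def laneEquiv {m : ℕ} {N : Net} (h : N.ok m = true) (U : ℕ) : Lane (N.app U) ≃ Lane U where
  toFun i := ⟨N.perm i.1, by rw [← testBit_app h]; exact i.2⟩
  invFun i := ⟨N.perm.symm i.1, by rw [testBit_app h, Equiv.apply_symm_apply]; exact i.2⟩
  left_inv i := Subtype.ext (by simp)
  right_inv i := Subtype.ext (by simp)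

theorem wform_lcomp {m : ℕ} {N : Net} (h : N.ok m = true) (U : ℕ) (w : Pl) (f g : ℕ → R) :
    wform R (N.app U) (mapNet N w) (lcomp R N.perm f) (lcomp R N.perm g) = wform R U w f g := by
  unfold wform
  rw [← Equiv.sum_comp (laneEquiv h U) (fun i : Lane U => (2 : R) ^ (-(val w i.1)) * (f i.1 * g i.1))]
  apply Finset.sum_congr rfl
  intro i _
  rw [val_mapNet h]
  rfl

theorem wform_congr {U : ℕ} {w w' : Pl} (f g : ℕ → R) (h : ∀ i, U.testBit i = true → val w i = val w' i) :
    wform R U w f g = wform R U w' f g := by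
  unfold wform
  apply Finset.sum_congr rfl
  intro i _
  rw [h i.1 i.2]

theorem wform_norm (U : ℕ) (w : Pl) (f g : ℕ → R) : wform R U (norm w) f g = wform R U w f g :=
  wform_congr R f g (fun i _ => val_norm w i)

theorem wform_lneg (M U : ℕ) (w : Pl) (f g : ℕ → R) :
    wform R U w (lneg R M f) (lneg R M g) = wform R U w f g := by
  unfold wform
  apply Finset.sum_congr rfl
  intro i _
  show _ * ((if M.testBit i.1 then - f i.1 else f i.1) * (if M.testBit i.1 then - g i.1 else g i.1)) = _
  split_ifs <;> ring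

theorem zpow_neg_add_two (h2 : (2 : R) ≠ 0) (a : ℤ) : (2 : R) ^ (-(a + 2)) * 4 = 2 ^ (-a) := by
  rw [neg_add, zpow_add₀ h2, mul_assoc]
  have : (2 : R) ^ (-2 : ℤ) * 4 = 1 := by
    rw [show (4 : R) = 2 ^ (2 : ℤ) by norm_num, ← zpow_add₀ h2]; norm_num
  rw [this, mul_one]

theorem wform_ldbl (h2 : (2 : R) ≠ 0) (M U : ℕ) (w : Pl) (f g : ℕ → R) :
    wform R U (VecEngine.add w (.cons 0 (.cons M (.sgn 0))) 0) (ldbl R M f) (ldbl R M g) = wform R U w f g := by
  unfold wform
  apply Finset.sum_congr rfl
  intro i _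
  show _ * ((if M.testBit i.1 then 2 * f i.1 else f i.1) * (if M.testBit i.1 then 2 * g i.1 else g i.1)) = _
  rw [val_add]
  have h0 : ∀ j, bt 0 j = 0 := fun j => by simp [bt]
  simp only [val_cons, val_sgn, h0]
  by_cases hM : M.testBit i.1 = true
  · have : bt M i.1 = 1 := by unfold bt; rw [if_pos hM]
    rw [if_pos hM, if_pos hM, this]
    rw [show val w i.1 + (0 + 2 * (1 + 2 * -0)) + 0 = val w i.1 + 2 by ring]
    rw [← zpow_neg_add_two R h2 (val w i.1)]
    ring
  · have : bt M i.1 = 0 := by unfold bt; rw [if_neg hM]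
    rw [if_neg hM, if_neg hM, this]
    rw [show val w i.1 + (0 + 2 * (0 + 2 * -0)) + 0 = val w i.1 by ring]

theorem wform_half (h2 : (2 : R) ≠ 0) (U : ℕ) (w : Pl) (f g : ℕ → R) :
    wform R U (VecEngine.add w (.cons 0 (.sgn U)) 0) ((2 : R)⁻¹ • f) ((2 : R)⁻¹ • g) = wform R U w f g := by
  unfold wform
  apply Finset.sum_congr rfl
  intro i _
  show _ * (((2 : R)⁻¹ * f i.1) * ((2 : R)⁻¹ * g i.1)) = _
  rw [val_add]
  have h0 : ∀ j, bt 0 j = 0 := fun j => by simp [bt]
  have h1 : bt U i.1 = 1 := by unfold bt; rw [if_pos i.2]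
  simp only [val_cons, val_sgn, h0, h1]
  rw [show val w i.1 + (0 + 2 * -1) + 0 = val w i.1 - 2 by ring]
  have := zpow_neg_add_two R h2 (val w i.1 - 2)
  rw [sub_add_cancel] at this
  have h4 : (2 : R)⁻¹ * (2 : R)⁻¹ * 4 = 1 := by
    rw [show (4 : R) = 2 * 2 by norm_num]
    field_simp
  calc (2 : R) ^ (-(val w i.1 - 2)) * (((2 : R)⁻¹ * f i.1) * ((2 : R)⁻¹ * g i.1))
      = (2 : R) ^ (-(val w i.1)) * 4 * (((2 : R)⁻¹ * f i.1) * ((2 : R)⁻¹ * g i.1)) := by rw [this]
    _ = (2 : R) ^ (-(val w i.1)) * (((2 : R)⁻¹ * (2 : R)⁻¹ * 4) * (f i.1 * g i.1)) := by ring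
    _ = (2 : R) ^ (-(val w i.1)) * (f i.1 * g i.1) := by rw [h4, one_mul]

/-- The swap of a butterfly as a permutation of lanes. -/
theorem testBit_tau_of_fol {M d U : ℕ} (h : Nat.beq (Nat.land M (Nat.xor U (Nat.shiftRight U d))) 0 = true)
    (i : ℕ) : U.testBit (tau M d i) = U.testBit i := by
  unfold tau
  by_cases h1 : M.testBit i = true
  · rw [if_pos h1, testBit_add_of_fol h h1]
  · rw [if_neg h1]
    by_cases h3 : d ≤ i ∧ M.testBit (i - d) = true
    · rw [if_pos h3]
      have := testBit_add_of_fol h h3.2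
      rw [Nat.sub_add_cancel h3.1] at this
      exact this.symm
    · rw [if_neg h3]

/-- The swap of a butterfly as a permutation of lanes. -/
def laneSwap {M d U : ℕ} (hM : M &&& (M >>> d) = 0)
    (h : Nat.beq (Nat.land M (Nat.xor U (Nat.shiftRight U d))) 0 = true) : Lane U ≃ Lane U where
  toFun i := ⟨tau M d i.1, by rw [testBit_tau_of_fol h]; exact i.2⟩
  invFun i := ⟨tau M d i.1, by rw [testBit_tau_of_fol h]; exact i.2⟩
  left_inv i := Subtype.ext (tau_tau hM i.1)
  right_inv i := Subtype.ext (tau_tau hM i.1)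

theorem wform_lbfly (h2 : (2 : R) ≠ 0) {M d U : ℕ} (hM : M &&& (M >>> d) = 0)
    (h : Nat.beq (Nat.land M (Nat.xor U (Nat.shiftRight U d))) 0 = true) (w : Pl)
    (hw : ∀ i, U.testBit i = true → val w (tau M d i) = val w i) (f g : ℕ → R) :
    wform R U (addLS w 0 (Nat.lor M (Nat.shiftLeft M d))) (lbfly R M d f) (lbfly R M d g) = wform R U w f g := by
  have key : ∀ F : Lane U → R, ∑ i, F i + ∑ i, F i = ∑ i : Lane U, (F i + F (laneSwap hM h i)) := by
    intro F
    rw [Finset.sum_add_distrib, Equiv.sum_comp (laneSwap hM h) F]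
  have h22 : ∀ a b : R, a + a = b + b → a = b := by
    intro a b hab
    have : (2 : R) * a = 2 * b := by linear_combination hab
    exact mul_left_cancel₀ h2 this
  apply h22
  unfold wform
  rw [key, key]
  apply Finset.sum_congr rfl
  intro i _
  have hadd : ∀ j, val (addLS w 0 (Nat.lor M (Nat.shiftLeft M d))) j =
      val w j + bt (M ||| (M <<< d)) j := by
    intro j
    rw [val_addLS]
    have : bt 0 j = 0 := by simp [bt]
    rw [this, sub_zero]; rfl
  show (2 : R) ^ (-(val (addLS w 0 (Nat.lor M (Nat.shiftLeft M d))) i.1)) * (lbfly R M d f i.1 * lbfly R M d g i.1) +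
    (2 : R) ^ (-(val (addLS w 0 (Nat.lor M (Nat.shiftLeft M d))) (tau M d i.1))) *
      (lbfly R M d f (tau M d i.1) * lbfly R M d g (tau M d i.1)) =
    (2 : R) ^ (-(val w i.1)) * (f i.1 * g i.1) +
      (2 : R) ^ (-(val w (tau M d i.1))) * (f (tau M d i.1) * g (tau M d i.1))
  rw [hadd, hadd, hw i.1 i.2]
  -- the two lanes
  have hz : ∀ a : ℤ, (2 : R) ^ (-(a + 1)) * 2 = 2 ^ (-a) := by
    intro a
    rw [neg_add, zpow_add₀ h2, mul_assoc]
    have : (2 : R) ^ (-1 : ℤ) * 2 = 1 := by rw [zpow_neg_one, inv_mul_cancel₀ h2]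
    rw [this, mul_one]
  have hlb : ∀ (F : ℕ → R) (j : ℕ), M.testBit j = true →
      lbfly R M d F j = F j + F (j + d) ∧ lbfly R M d F (j + d) = F j - F (j + d) := by
    intro F j hj
    have hj2 := testBit_and_shift hM j hj
    constructor
    · show (if M.testBit j then F j + F (j + d) else _) = _
      rw [if_pos hj]
    · show (if M.testBit (j + d) then F (j + d) + F (j + d + d) else
        if d ≤ j + d ∧ M.testBit (j + d - d) then F (j + d - d) - F (j + d) else F (j + d)) = _
      rw [if_neg (by rw [hj2]; simp), if_pos ⟨by omega, by rw [Nat.add_sub_cancel]; exact hj⟩, Nat.add_sub_cancel]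
  have hbt : ∀ j, M.testBit j = true → bt (M ||| (M <<< d)) j = 1 ∧ bt (M ||| (M <<< d)) (j + d) = 1 := by
    intro j hj
    constructor
    · unfold bt; rw [Nat.testBit_or, hj, Bool.true_or, if_pos rfl]
    · unfold bt
      rw [Nat.testBit_or, Nat.testBit_shiftLeft, Nat.add_sub_cancel, hj]
      rw [if_pos (by simp)]
  by_cases h1 : M.testBit i.1 = true
  · have ht : tau M d i.1 = i.1 + d := by unfold tau; rw [if_pos h1]
    rw [ht, (hbt _ h1).1, (hbt _ h1).2, (hlb f _ h1).1, (hlb f _ h1).2, (hlb g _ h1).1, (hlb g _ h1).2,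
      ← hz (val w i.1)]
    ring
  · by_cases h3 : d ≤ i.1 ∧ M.testBit (i.1 - d) = true
    · have ht : tau M d i.1 = i.1 - d := by unfold tau; rw [if_neg h1, if_pos h3]
      obtain ⟨j, hj⟩ : ∃ j, i.1 = j + d := ⟨i.1 - d, by omega⟩
      have h3' : M.testBit j = true := by
        have := h3.2
        rwa [hj, Nat.add_sub_cancel] at this
      rw [ht, hj, Nat.add_sub_cancel, (hbt _ h3').1, (hbt _ h3').2, (hlb f _ h3').1, (hlb f _ h3').2,
        (hlb g _ h3').1, (hlb g _ h3').2, ← hz (val w (j + d))]
      ring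
    · have ht : tau M d i.1 = i.1 := by unfold tau; rw [if_neg h1, if_neg h3]
      have hb : bt (M ||| (M <<< d)) i.1 = 0 := by
        unfold bt
        rw [Nat.testBit_or, Nat.testBit_shiftLeft, if_neg]
        intro hc
        rw [Bool.or_eq_true, Bool.and_eq_true, decide_eq_true_eq] at hc
        rcases hc with hc | hc
        · exact h1 hc
        · exact h3 ⟨hc.1, hc.2⟩
      have hl : ∀ F : ℕ → R, lbfly R M d F i.1 = F i.1 := by
        intro F
        show (if M.testBit i.1 then F i.1 + F (i.1 + d) else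
          if d ≤ i.1 ∧ M.testBit (i.1 - d) then F (i.1 - d) - F i.1 else F i.1) = _
        rw [if_neg h1, if_neg h3]
      rw [ht, hb, hl, hl, add_zero]

theorem iso_sound (h2 : (2 : R) ≠ 0) {m : ℕ} {P : Prog} (hP : P.ok m = true) {U V : ℕ} {w v : Pl}
    (h : iso P U w V v = true) (f g : ℕ → R) :
    wform R V v (sem R P f) (sem R P g) = wform R U w f g ∧ fol P U V = true := by
  induction P generalizing U w f g with
  | nil =>
    have h' : and (Nat.beq U V) (eqP (norm (msk U w)) (norm (msk U v))) = true := h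
    rw [Bool.and_eq_true] at h'
    refine ⟨?_, h'.1⟩
    have : U = V := Nat.eq_of_beq_eq_true h'.1
    subst this
    apply wform_congr
    intro i hi
    have h3 : val (norm (msk U w)) i = val (norm (msk U v)) i := by rw [eq_of_eqP h'.2]
    rw [val_norm, val_norm, val_msk, val_msk, if_pos hi, if_pos hi] at h3
    exact h3.symm
  | perm N P ih =>
    have hP' : and (N.ok m) (P.ok m) = true := hP
    rw [Bool.and_eq_true] at hP'
    have h' : seqB (N.app U) (fun U' => go (mapNet N w) fun w' => iso P U' w' V v) = true := h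
    rw [seqB_eq] at h'
    have h3 := ih hP'.2 (go_true h') (lcomp R N.perm f) (lcomp R N.perm g)
    constructor
    · show wform R V v (sem R P (lcomp R N.perm f)) (sem R P (lcomp R N.perm g)) = _
      rw [h3.1, wform_norm, wform_lcomp R hP'.1]
    · show seqB (N.app U) (fun U' => fol P U' V) = true
      rw [seqB_eq]; exact h3.2
  | neg M P ih =>
    have h3 := ih hP (show iso P U w V v = true from h) (lneg R M f) (lneg R M g)
    exact ⟨by
      show wform R V v (sem R P (lneg R M f)) (sem R P (lneg R M g)) = _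
      rw [h3.1, wform_lneg], h3.2⟩
  | dbl M P ih =>
    have h' : go (VecEngine.add w (.cons 0 (.cons M (.sgn 0))) 0) (fun w' => iso P U w' V v) = true := h
    have h3 := ih hP (go_true h') (ldbl R M f) (ldbl R M g)
    exact ⟨by
      show wform R V v (sem R P (ldbl R M f)) (sem R P (ldbl R M g)) = _
      rw [h3.1, wform_norm, wform_ldbl R h2], h3.2⟩
  | half P ih =>
    have h' : go (VecEngine.add w (.cons 0 (.sgn U)) 0) (fun w' => iso P U w' V v) = true := h
    have h3 := ih hP (go_true h') ((2 : R)⁻¹ • f) ((2 : R)⁻¹ • g)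
    exact ⟨by
      show wform R V v (sem R P ((2 : R)⁻¹ • f)) (sem R P ((2 : R)⁻¹ • g)) = _
      rw [h3.1, wform_norm, wform_half R h2], h3.2⟩
  | bfly M d P ih =>
    have hP' : and (Net.ok m (.cons M d .nil)) (P.ok m) = true := hP
    rw [Bool.and_eq_true] at hP'
    have h' : and (Nat.beq (Nat.land M (Nat.xor U (Nat.shiftRight U d))) 0)
      (and (eqP (norm (msk U (mapStage M d w))) (norm (msk U w)))
        (go (addLS w 0 (Nat.lor M (Nat.shiftLeft M d))) fun w' => iso P U w' V v)) = true := h
    rw [Bool.and_eq_true, Bool.and_eq_true] at h'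
    have hM := (Net.ok_cons hP'.1).1
    have h3 := ih hP'.2 (go_true h'.2.2) (lbfly R M d f) (lbfly R M d g)
    have hw : ∀ i, U.testBit i = true → val w (tau M d i) = val w i := by
      intro i hi
      have h4 : val (norm (msk U (mapStage M d w))) i = val (norm (msk U w)) i := by rw [eq_of_eqP h'.2.1]
      rw [val_norm, val_norm, val_msk, val_msk, if_pos hi, if_pos hi, val_mapStage hM] at h4
      exact h4
    constructor
    · show wform R V v (sem R P (lbfly R M d f)) (sem R P (lbfly R M d g)) = _
      rw [h3.1, wform_norm, wform_lbfly R h2 hM h'.1 w hw]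
    · show and (Nat.beq (Nat.land M (Nat.xor U (Nat.shiftRight U d))) 0) (fol P U V) = true
      rw [Bool.and_eq_true]
      exact ⟨h'.1, h3.2⟩

/-- The form with weights `2 ^ (-w i)` on the lanes of `U`. -/
noncomputable def dotW (U : ℕ) (w : Pl) (f g : Lane U → R) : R := ∑ i, (2 : R) ^ (-(val w i.1)) * (f i * g i)

theorem dotW_zero (U : ℕ) (f g : Lane U → R) : dotW R U (.sgn 0) f g = dotU R U f g := by
  unfold dotW dotU
  apply Finset.sum_congr rfl
  intro i _
  simp [bt]

theorem dotW_comm (U : ℕ) (w : Pl) (f g : Lane U → R) : dotW R U w f g = dotW R U w g f := by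
  unfold dotW
  apply Finset.sum_congr rfl
  intro i _
  ring

theorem dotW_add_left (U : ℕ) (w : Pl) (f f' g : Lane U → R) :
    dotW R U w (f + f') g = dotW R U w f g + dotW R U w f' g := by
  unfold dotW
  rw [← Finset.sum_add_distrib]
  apply Finset.sum_congr rfl
  intro i _
  rw [Pi.add_apply]; ring

theorem dotW_smul_left (U : ℕ) (w : Pl) (c : R) (f g : Lane U → R) :
    dotW R U w (c • f) g = c * dotW R U w f g := by
  unfold dotW
  rw [Finset.mul_sum]
  apply Finset.sum_congr rfl
  intro i _
  rw [Pi.smul_apply, smul_eq_mul]; ring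

/-- The weighted form as a bilinear form. -/
noncomputable def dotWB (U : ℕ) (w : Pl) : LinearMap.BilinForm R (Lane U → R) :=
  LinearMap.mk₂ R (dotW R U w) (dotW_add_left R U w) (dotW_smul_left R U w)
    (fun f g g' => by rw [dotW_comm, dotW_add_left, dotW_comm R U w g, dotW_comm R U w g'])
    (fun c f g => by rw [dotW_comm, dotW_smul_left, dotW_comm R U w g]; rfl)

@[simp] theorem dotWB_apply (U : ℕ) (w : Pl) (f g : Lane U → R) : dotWB R U w f g = dotW R U w f g := rfl

/-- `P` is well formed on `m` lanes, preserves the mask `U` and the form with weights `w`. -/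
structure GoodW (m U : ℕ) (w : Pl) (P : Prog) : Prop where
  ok : P.ok m = true
  iso : iso P U w U w = true

/-- `P` is well formed on `m` lanes, preserves the mask `U` and the standard form. -/
abbrev Good (m U : ℕ) (P : Prog) : Prop := GoodW m U (.sgn 0) P

/-- The kernel check for `GoodW`. -/
noncomputable def goodW (m U : ℕ) (w : Pl) (P : Prog) : Bool := and (P.ok m) (iso P U w U w)

/-- The kernel check for `Good`. -/
noncomputable def good (m U : ℕ) (P : Prog) : Bool := goodW m U (.sgn 0) P

theorem goodW_sound {m U : ℕ} {w : Pl} {P : Prog} (h : goodW m U w P = true) : GoodW m U w P := by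
  have h' : and (P.ok m) (VecSpace.iso P U w U w) = true := h
  rw [Bool.and_eq_true] at h'
  exact ⟨h'.1, h'.2⟩

theorem good_sound {m U : ℕ} {P : Prog} (h : good m U P = true) : Good m U P := goodW_sound h

theorem GoodW.pres {m U : ℕ} {w : Pl} {P : Prog} (h : GoodW m U w P) : Pres m U P := by
  refine ⟨h.ok, ?_⟩
  have h2 : (2 : ℚ) ≠ 0 := by norm_num
  exact (iso_sound ℚ h2 h.ok h.iso 0 0).2

theorem wform_eq (U : ℕ) (w : Pl) (f g : ℕ → R) : wform R U w f g = dotW R U w (res R U f) (res R U g) := rfl

theorem dotW_semU (h2 : (2 : R) ≠ 0) {m U : ℕ} {w : Pl} {P : Prog} (h : GoodW m U w P) (f g : Lane U → R) :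
    dotW R U w (semU R U P f) (semU R U P g) = dotW R U w f g := by
  have h3 := (iso_sound R h2 h.ok h.iso (ext R U f) (ext R U g)).1
  rw [wform_eq, wform_eq, res_ext, res_ext] at h3
  exact h3

theorem dotU_semU (h2 : (2 : R) ≠ 0) {m U : ℕ} {P : Prog} (h : Good m U P) (f g : Lane U → R) :
    dotU R U (semU R U P f) (semU R U P g) = dotU R U f g := by
  rw [← dotW_zero, ← dotW_zero, dotW_semU R h2 h]

theorem dotW_single (U : ℕ) (w : Pl) (f : Lane U → R) (i : Lane U) :
    dotW R U w f (Pi.single i 1) = (2 : R) ^ (-(val w i.1)) * f i := by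
  unfold dotW
  rw [Finset.sum_eq_single i]
  · simp
  · intro j _ hj; rw [Pi.single_eq_of_ne hj, mul_zero, mul_zero]
  · intro hi; exact absurd (Finset.mem_univ _) hi

theorem dotU_single (U : ℕ) (f : Lane U → R) (i : Lane U) : dotU R U f (Pi.single i 1) = f i := by
  rw [← dotW_zero, dotW_single]
  simp [bt]

theorem dotW_nondegenerate (h2 : (2 : R) ≠ 0) (U : ℕ) (w : Pl) (f : Lane U → R) (h : ∀ g, dotW R U w f g = 0) :
    f = 0 := by
  funext i
  have := h (Pi.single i 1)
  rw [dotW_single] at this
  exact (mul_eq_zero.1 this).resolve_left (zpow_ne_zero _ h2)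

theorem semU_injective (h2 : (2 : R) ≠ 0) {m U : ℕ} {w : Pl} {P : Prog} (h : GoodW m U w P) :
    Function.Injective (semU R U P) := by
  rw [injective_iff_map_eq_zero]
  intro f hf
  apply dotW_nondegenerate R h2 U w
  intro g
  have := dotW_semU R h2 h f g
  rw [hf] at this
  rw [← this]
  simp [dotW]

/-- The linear automorphism of a program (the identity if the program is not injective on the lanes of `U`). -/
noncomputable def semE (U : ℕ) (P : Prog) : (Lane U → R) ≃ₗ[R] (Lane U → R) := by
  classical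
  exact if h : Function.Injective (semU R U P) then LinearEquiv.ofInjectiveEndo (semU R U P) h
    else LinearEquiv.refl R _

theorem semE_apply (h2 : (2 : R) ≠ 0) {m U : ℕ} {w : Pl} {P : Prog} (h : GoodW m U w P) (f : Lane U → R) :
    semE R U P f = semU R U P f := by
  unfold semE
  rw [dif_pos (semU_injective R h2 h)]
  rfl

theorem dotW_semE (h2 : (2 : R) ≠ 0) {m U : ℕ} {w : Pl} {P : Prog} (h : GoodW m U w P) (f g : Lane U → R) :
    dotW R U w (semE R U P f) (semE R U P g) = dotW R U w f g := by
  rw [semE_apply R h2 h, semE_apply R h2 h, dotW_semU R h2 h]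

theorem dotU_semE (h2 : (2 : R) ≠ 0) {m U : ℕ} {P : Prog} (h : Good m U P) (f g : Lane U → R) :
    dotU R U (semE R U P f) (semE R U P g) = dotU R U f g := by
  rw [semE_apply R h2 h, semE_apply R h2 h, dotU_semU R h2 h]

/-- The group element of a word, the first letter acts first. -/
noncomputable def wordE (U : ℕ) (l : List Prog) : (Lane U → R) ≃ₗ[R] (Lane U → R) :=
  (l.reverse.map (semE R U)).prod

@[simp] theorem wordE_nil (U : ℕ) : wordE R U [] = 1 := rfl

theorem wordE_append (U : ℕ) (l l' : List Prog) : wordE R U (l ++ l') = wordE R U l' * wordE R U l := by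
  simp [wordE]

theorem wordE_cons (U : ℕ) (P : Prog) (l : List Prog) :
    wordE R U (P :: l) = wordE R U l * semE R U P := by
  simp [wordE]

theorem wordE_singleton (U : ℕ) (P : Prog) : wordE R U [P] = semE R U P := by
  simp [wordE]

theorem wordE_apply (h2 : (2 : R) ≠ 0) {m U : ℕ} {w : Pl} {l : List Prog} (hl : ∀ P ∈ l, GoodW m U w P)
    (f : Lane U → R) : wordE R U l f = semUL R U l f := by
  induction l generalizing f with
  | nil => rfl
  | cons P l ih =>
    rw [wordE_cons, LinearEquiv.mul_apply, ih (fun Q hQ => hl Q (by simp [hQ])), semE_apply R h2 (hl P (by simp))]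
    rfl

theorem dotW_wordE (h2 : (2 : R) ≠ 0) {m U : ℕ} {w : Pl} {l : List Prog} (hl : ∀ P ∈ l, GoodW m U w P)
    (f g : Lane U → R) : dotW R U w (wordE R U l f) (wordE R U l g) = dotW R U w f g := by
  induction l generalizing f g with
  | nil => rfl
  | cons P l ih =>
    rw [wordE_cons, LinearEquiv.mul_apply, LinearEquiv.mul_apply, ih (fun Q hQ => hl Q (by simp [hQ])),
      dotW_semE R h2 (hl P (by simp))]

theorem dotU_wordE (h2 : (2 : R) ≠ 0) {m U : ℕ} {l : List Prog} (hl : ∀ P ∈ l, Good m U P) (f g : Lane U → R) :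
    dotU R U (wordE R U l f) (wordE R U l g) = dotU R U f g := by
  rw [← dotW_zero, ← dotW_zero, dotW_wordE R h2 hl]

/-- The subgroup of the isometries of the weighted form. -/
def isomW (U : ℕ) (w : Pl) : Subgroup ((Lane U → R) ≃ₗ[R] (Lane U → R)) where
  carrier := {e | ∀ f g, dotW R U w (e f) (e g) = dotW R U w f g}
  one_mem' _ _ := rfl
  mul_mem' {a b} ha hb f g := by
    show dotW R U w (a (b f)) (a (b g)) = _
    rw [ha, hb]
  inv_mem' {a} ha f g := by
    have := ha (a⁻¹ f) (a⁻¹ g)
    have h1 : ∀ x, a (a⁻¹ x) = x := fun x => a.apply_symm_apply x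
    rw [h1, h1] at this
    exact this.symm

theorem mem_isomW {U : ℕ} {w : Pl} {e : (Lane U → R) ≃ₗ[R] (Lane U → R)} :
    e ∈ isomW R U w ↔ ∀ f g, dotW R U w (e f) (e g) = dotW R U w f g := Iff.rfl

theorem semE_mem_isomW (h2 : (2 : R) ≠ 0) {m U : ℕ} {w : Pl} {P : Prog} (h : GoodW m U w P) :
    semE R U P ∈ isomW R U w := dotW_semE R h2 h

/-- An identity of vectors checked by the kernel, in the group of linear automorphisms. -/
theorem checkE_sound (h2 : (2 : R) ≠ 0) {m U : ℕ} {w : Pl} {l₁ l₂ : List Prog} (h₁ : ∀ P ∈ l₁, GoodW m U w P)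
    (h₂ : ∀ P ∈ l₂, GoodW m U w P) {x₁ x₂ : Pl} (h : check l₁ x₁ l₂ x₂ = true) :
    wordE R U l₁ (vecU R U x₁) = wordE R U l₂ (vecU R U x₂) := by
  rw [wordE_apply R h2 h₁, wordE_apply R h2 h₂,
    checkU_sound R h2 (fun P hP => (h₁ P hP).pres) (fun P hP => (h₂ P hP).pres) h]

theorem checkFixE_sound (h2 : (2 : R) ≠ 0) {m U : ℕ} {w : Pl} {l : List Prog} (hl : ∀ P ∈ l, GoodW m U w P)
    {x : Pl} (h : checkFix l x = true) : wordE R U l (vecU R U x) = vecU R U x := by
  rw [wordE_apply R h2 hl, checkFixU_sound R h2 (fun P hP => (hl P hP).pres) h]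

end Cfsg.Agent.Monster.VecSpace
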