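import Cfsg.Agent.Monster.Abstract

/-!
The order of a group acting on a set of axes.

`G` acts on `V` preserving a set `X` and a value function `F`; `K ≤ G`; `a0`, `a1` are two points of `X`
(partners), `S = K a0`.
* `card_group`: `|G| * |S| = |X| * n0 * |K|`, where `n0 = #{b ∈ X : F a0 b = v0}`;
* `n0_count`: `n0 * |S| = ∑ i, |O_i| * #{s ∈ S : F s (w i) = v0}` for `X = ⨆ O_i`;
* `rigid`: an element fixing `a0` and `a1` preserves `S` and the partner map.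
-/

set_option autoImplicit false

namespace Cfsg.Agent.Monster.AbstractOrder

variable {G V α : Type*} [Group G] [MulAction G V]

/-- `|G| * |S| = |X| * n0 * |K|`. -/
theorem card_group [Finite G] (K : Subgroup G) (X S R : Set V) (a0 a1 : V)
    (hX : X = MulAction.orbit G a0) (hS : S = MulAction.orbit K a0)
    (hrig : ∀ g : G, g • a0 = a0 → g • a1 = a1 → g ∈ K)
    (hK : ∀ k ∈ K, k • a0 = a0 → k • a1 = a1)
    (hR : ∀ g : G, g • a0 = a0 → g • a1 ∈ R)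
    (htr : ∀ b ∈ R, ∃ g : G, g • a0 = a0 ∧ g • a1 = b) :
    Nat.card G * Nat.card S = Nat.card X * Nat.card R * Nat.card K := by
  classical
  -- stabiliser of `a0`
  set H := MulAction.stabilizer G a0 with hH
  have e1 : Nat.card G = Nat.card X * Nat.card H := by
    rw [hX, ← Nat.card_prod]
    exact Nat.card_congr (MulAction.orbitProdStabilizerEquivGroup G a0).symm
  have e2 : Nat.card K = Nat.card S * Nat.card (MulAction.stabilizer K a0) := by
    rw [hS, ← Nat.card_prod]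
    exact Nat.card_congr (MulAction.orbitProdStabilizerEquivGroup K a0).symm
  have e3 : Nat.card H = Nat.card R * Nat.card (MulAction.stabilizer H a1) := by
    have : R = MulAction.orbit H a1 := by
      ext b
      constructor
      · intro hb
        obtain ⟨g, hg0, hg1⟩ := htr b hb
        exact ⟨⟨g, hg0⟩, hg1⟩
      · rintro ⟨⟨g, hg0⟩, rfl⟩
        exact hR g hg0
    rw [this, ← Nat.card_prod]
    exact Nat.card_congr (MulAction.orbitProdStabilizerEquivGroup H a1).symm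
  have e4 : Nat.card (MulAction.stabilizer H a1) = Nat.card (MulAction.stabilizer K a0) := by
    refine Nat.card_congr ⟨fun g => ⟨⟨g.1.1, hrig _ g.1.2 g.2⟩, g.1.2⟩,
      fun k => ⟨⟨k.1.1, k.2⟩, hK _ k.1.2 k.2⟩, fun g => rfl, fun k => rfl⟩
  rw [e1, e3, e4, e2]
  ring

/-- Transitivity on the pairs with value `v0`, from representatives. -/
theorem trans_pairs (H : Subgroup G) (F : V → V → α) (hF : ∀ (g : G) (x y : V), F (g • x) (g • y) = F x y)
    {ι : Type*} (w : ι → V) (X S : Set V) (hX : ∀ x ∈ X, ∃ i, ∃ h ∈ H, x = h • w i)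
    (hS : ∀ h ∈ H, ∀ s ∈ S, h • s ∈ S) (a0 a1 : V) (ha0 : a0 ∈ S) (v0 : α)
    (rep : ∀ i, ∀ s ∈ S, F s (w i) = v0 → ∃ g : G, g • s = a0 ∧ g • w i = a1) :
    ∀ b ∈ X, F a0 b = v0 → ∃ g : G, g • a0 = a0 ∧ g • a1 = b := by
  intro b hb hv
  obtain ⟨i, h, hh, rfl⟩ := hX b hb
  obtain ⟨g, hg0, hg1⟩ := rep i (h⁻¹ • a0) (hS _ (H.inv_mem hh) _ ha0)
    (by rw [← hF h, smul_inv_smul]; exact hv)
  refine ⟨h * g⁻¹, ?_, ?_⟩
  · have h1 : g⁻¹ • a0 = h⁻¹ • a0 := by rw [inv_smul_eq_iff, hg0]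
    rw [mul_smul, h1, smul_inv_smul]
  · rw [mul_smul, ← hg1, inv_smul_smul]

/-- It is enough to treat representatives of the orbits of subgroups `L i` fixing `w i`. -/
theorem rep_of_reps (F : V → V → α) {ι : Type*} (w : ι → V) (S : Set V) (a0 a1 : V) (v0 : α)
    (L : ι → Subgroup G) (hL : ∀ i, ∀ l ∈ L i, l • w i = w i) (Q : ι → Set V)
    (hQ : ∀ i, ∀ s ∈ S, F s (w i) = v0 → ∃ q ∈ Q i, ∃ l ∈ L i, s = l • q)
    (rep : ∀ i, ∀ q ∈ Q i, ∃ g : G, g • q = a0 ∧ g • w i = a1) :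
    ∀ i, ∀ s ∈ S, F s (w i) = v0 → ∃ g : G, g • s = a0 ∧ g • w i = a1 := by
  intro i s hs hv
  obtain ⟨q, hq, l, hl, rfl⟩ := hQ i s hs hv
  obtain ⟨g, h0, h1⟩ := rep i q hq
  refine ⟨g * l⁻¹, ?_, ?_⟩
  · rw [mul_smul, inv_smul_smul, h0]
  · rw [mul_smul, inv_smul_eq_iff.2 (hL i l hl).symm, h1]

/-- Double counting of the pairs `(s, x) ∈ S × X` with value `v0`. -/
theorem n0_count (K H : Subgroup G) (hHK : H ≤ K) (F : V → V → α)
    (hF : ∀ (g : G) (x y : V), F (g • x) (g • y) = F x y)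
    (X S : Set V) (hXfin : X.Finite) (a0 : V) (hS : S = MulAction.orbit K a0) (hSfin : S.Finite)
    (hXK : ∀ k ∈ K, ∀ x ∈ X, k • x ∈ X)
    {ι : Type*} [Fintype ι] (w : ι → V) (hX : ∀ x, x ∈ X ↔ ∃ i, x ∈ MulAction.orbit H (w i))
    (hdisj : ∀ i j, w i ∈ MulAction.orbit H (w j) → i = j) (v0 : α) :
    Nat.card {b // b ∈ X ∧ F a0 b = v0} * Nat.card S =
      ∑ i, Nat.card (MulAction.orbit H (w i)) * Nat.card {s // s ∈ S ∧ F s (w i) = v0} := by
  classical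
  have : Finite X := hXfin
  have : Finite S := hSfin
  have hHS : ∀ h ∈ H, ∀ s ∈ S, h • s ∈ S := by
    rintro h hh s hs
    rw [hS] at hs ⊢
    exact MulAction.mem_orbit_of_mem_orbit (⟨h, hHK hh⟩ : K) hs
  let E := {p : V × V // p.1 ∈ S ∧ p.2 ∈ X ∧ F p.1 p.2 = v0}
  have hfinE : Finite E := Finite.of_injective
    (fun p : E => ((⟨p.1.1, p.2.1⟩ : S), (⟨p.1.2, p.2.2.1⟩ : X))) (by
      rintro ⟨⟨a, b⟩, h⟩ ⟨⟨c, d⟩, h'⟩ e
      simp only [Prod.mk.injEq, Subtype.mk.injEq] at e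
      obtain ⟨rfl, rfl⟩ := e
      rfl)
  have e1 : Nat.card E = Nat.card {b // b ∈ X ∧ F a0 b = v0} * Nat.card S := by
    rw [mul_comm, ← Nat.card_prod]
    have hc : ∀ s : S, ∃ k : K, k • a0 = (s : V) := by
      rintro ⟨s, hs⟩
      rw [hS] at hs
      exact hs
    choose k hk using hc
    refine Nat.card_congr ⟨fun p => (⟨p.1.1, p.2.1⟩,
        ⟨(k ⟨p.1.1, p.2.1⟩)⁻¹ • p.1.2, hXK _ (K.inv_mem (k _).2) _ p.2.2.1, ?_⟩),
      fun q => ⟨(q.1, k q.1 • q.2.1), q.1.2, hXK _ (k q.1).2 _ q.2.2.1, ?_⟩, ?_, ?_⟩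
    · have h1 := hk ⟨p.1.1, p.2.1⟩
      have h2 := hF (k ⟨p.1.1, p.2.1⟩ : G) a0 (((k ⟨p.1.1, p.2.1⟩ : K) : G)⁻¹ • p.1.2)
      rw [smul_inv_smul] at h2
      change F a0 (((k ⟨p.1.1, p.2.1⟩ : K) : G)⁻¹ • p.1.2) = v0
      rw [← h2]
      change F ((k ⟨p.1.1, p.2.1⟩ : K) • a0) _ = v0
      rw [h1]
      exact p.2.2.2
    · have h1 := hk q.1
      change F (q.1 : V) (((k q.1 : K) : G) • q.2.1) = v0
      rw [← h1]
      change F (((k q.1 : K) : G) • a0) _ = v0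
      rw [hF]
      exact q.2.2.2
    · rintro ⟨⟨a, b⟩, h⟩
      simp
    · rintro ⟨s, ⟨b, hb⟩⟩
      simp
  have hidx : ∀ x : X, ∃ i, (x : V) ∈ MulAction.orbit H (w i) := fun x => (hX _).1 x.2
  choose idx hidx using hidx
  have hidx' : ∀ (x : X) i, (x : V) ∈ MulAction.orbit H (w i) → idx x = i := by
    intro x i hi
    refine hdisj _ _ ?_
    have h1 := hidx x
    rw [← MulAction.orbit_eq_iff] at h1 hi ⊢
    rw [← h1, hi]
  have e2 : Nat.card E =
      Nat.card (Σ i, MulAction.orbit H (w i) × {s // s ∈ S ∧ F s (w i) = v0}) := by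
    have hc : ∀ x : X, ∃ h : H, h • w (idx x) = (x : V) := fun x => hidx x
    choose h hh using hc
    have hmem : ∀ i (x : MulAction.orbit H (w i)), (x : V) ∈ X := fun i x => (hX _).2 ⟨i, x.2⟩
    refine Nat.card_congr (Equiv.trans (β := Σ x : X, {s // s ∈ S ∧ F s x = v0}) ?_
      (Equiv.trans (β := Σ x : X, {s // s ∈ S ∧ F s (w (idx x)) = v0}) ?_ ?_))
    · exact ⟨fun p => ⟨⟨p.1.2, p.2.2.1⟩, ⟨p.1.1, p.2.1, p.2.2.2⟩⟩,
        fun q => ⟨(q.2.1, q.1.1), q.2.2.1, q.1.2, q.2.2.2⟩, fun p => rfl, fun q => rfl⟩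
    · refine Equiv.sigmaCongrRight fun x => ?_
      refine ⟨fun s => ⟨((h x)⁻¹ : H) • s.1, hHS _ (H.inv_mem (h x).2) _ s.2.1, ?_⟩,
        fun s => ⟨(h x : H) • s.1, hHS _ (h x).2 _ s.2.1, ?_⟩, ?_, ?_⟩
      · have h2 := hF (h x : G) (((h x : H) : G)⁻¹ • s.1) (w (idx x))
        rw [smul_inv_smul] at h2
        change F (((h x : H) : G)⁻¹ • s.1) (w (idx x)) = v0
        rw [← h2]
        change F s.1 ((h x : H) • w (idx x)) = v0
        rw [hh x]
        exact s.2.2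
      · have h3 := hh x
        change F (((h x : H) : G) • s.1) (x : V) = v0
        rw [← h3]
        change F (((h x : H) : G) • s.1) (((h x : H) : G) • w (idx x)) = v0
        rw [hF]
        exact s.2.2
      · intro s
        simp
      · intro s
        simp
    · refine ⟨fun p => ⟨idx p.1, ⟨(p.1 : V), hidx p.1⟩, p.2⟩,
        fun q => ⟨⟨q.2.1, hmem _ _⟩, ⟨q.2.2.1, q.2.2.2.1, ?_⟩⟩, ?_, ?_⟩
      · have := hidx' ⟨q.2.1, hmem _ _⟩ q.1 q.2.1.2
        rw [this]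
        exact q.2.2.2.2
      · rintro ⟨x, s⟩
        rfl
      · rintro ⟨i, ⟨x, hx⟩, ⟨s, hs⟩⟩
        have hi := hidx' ⟨x, (hX _).2 ⟨i, hx⟩⟩ i hx
        have aux : ∀ j (h1 : x ∈ MulAction.orbit H (w j)) (h2 : s ∈ S ∧ F s (w j) = v0), j = i →
            (⟨j, (⟨x, h1⟩, ⟨s, h2⟩)⟩ :
              Σ i, MulAction.orbit H (w i) × {s // s ∈ S ∧ F s (w i) = v0}) =
              ⟨i, (⟨x, hx⟩, ⟨s, hs⟩)⟩ := by
          rintro j h1 h2 rfl
          rfl
        exact aux _ _ _ hi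
  have : ∀ i, Finite (MulAction.orbit H (w i)) := fun i =>
    Finite.of_injective (fun x : MulAction.orbit H (w i) => (⟨x, (hX _).2 ⟨i, x.2⟩⟩ : X))
      (fun x y e => Subtype.ext (congrArg (fun z : X => (z : V)) e))
  have : ∀ i, Finite {s // s ∈ S ∧ F s (w i) = v0} := fun i =>
    Finite.of_injective (fun x : {s // s ∈ S ∧ F s (w i) = v0} => (⟨x, x.2.1⟩ : S))
      (fun x y e => Subtype.ext (congrArg (fun z : S => (z : V)) e))
  rw [← e1, e2, Nat.card_sigma]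
  exact Finset.sum_congr rfl fun i _ => Nat.card_prod _ _

end Cfsg.Agent.Monster.AbstractOrder
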