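import Mathlib

/-!
The real Pauli group `2^(1+2n)` on `n` qubits and its `2^n`-dimensional representation.

An element is a triple `(s, a, b)`, `s : ZMod 2`, `a b : Fin n → ZMod 2`, standing for
`(-1)^s X(a) Z(b)` with `X(a) u_e = u_(e+a)` and `Z(b) u_e = (-1)^(b·e) u_e`.

For `n = 12` this is the extraspecial group `Q = 2^(1+24)` of the Monster: the Conway element
`(-1)^s x_d x_δ` is `(s, d, θ(d,·) + δ)`; for `n = 11` it is the `2^(1+22)` of the Baby Monster.
-/

set_option autoImplicit false

namespace Cfsg.Agent.Monster.PauliBasic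

/-- binary vectors -/
abbrev B (n : ℕ) := Fin n → ZMod 2

/-- The sign `(-1)^x`. -/
def sg (R : Type*) [CommRing R] (x : ZMod 2) : R := if x = 0 then 1 else -1

theorem zmod2_cases (x : ZMod 2) : x = 0 ∨ x = 1 := by
  revert x; decide

section sg

variable (R : Type*) [CommRing R]

@[simp] theorem sg_zero : sg R 0 = 1 := by simp [sg]

@[simp] theorem sg_one : sg R 1 = -1 := by simp [sg]

theorem sg_add (x y : ZMod 2) : sg R (x + y) = sg R x * sg R y := by
  have h : (1 + 1 : ZMod 2) = 0 := by decide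
  rcases zmod2_cases x with rfl | rfl <;> rcases zmod2_cases y with rfl | rfl <;> simp [sg, h]

@[simp] theorem sg_mul_self (x : ZMod 2) : sg R x * sg R x = 1 := by
  rcases zmod2_cases x with rfl | rfl <;> simp [sg]

theorem sg_sq (x : ZMod 2) : sg R x ^ 2 = 1 := by
  rw [pow_two, sg_mul_self]

theorem isUnit_sg (x : ZMod 2) : IsUnit (sg R x) :=
  IsUnit.of_mul_eq_one _ (sg_mul_self R x)

theorem sg_map {S : Type*} [CommRing S] (f : R →+* S) (x : ZMod 2) : f (sg R x) = sg S x := by
  rcases zmod2_cases x with rfl | rfl <;> simp [sg]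

theorem sg_eq_or (x : ZMod 2) : sg R x = 1 ∨ sg R x = -1 := by
  rcases zmod2_cases x with rfl | rfl <;> simp [sg]

end sg

theorem zmod2_add_self (x : ZMod 2) : x + x = 0 := CharTwo.add_self_eq_zero x

theorem add_self {n : ℕ} (x : B n) : x + x = 0 := by
  funext i; exact zmod2_add_self _

theorem add_add_cancel {n : ℕ} (x y : B n) : x + y + y = x := by
  rw [add_assoc, add_self, add_zero]

theorem neg_eq {n : ℕ} (x : B n) : -x = x := by
  rw [neg_eq_iff_add_eq_zero, add_self]

/-- The real Pauli group on `n` qubits. -/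
@[ext] structure Pauli (n : ℕ) where
  s : ZMod 2
  a : B n
  b : B n
deriving DecidableEq

namespace Pauli

variable {n : ℕ}

instance : Mul (Pauli n) := ⟨fun x y => ⟨x.s + y.s + x.b ⬝ᵥ y.a, x.a + y.a, x.b + y.b⟩⟩
instance : One (Pauli n) := ⟨⟨0, 0, 0⟩⟩
instance : Inv (Pauli n) := ⟨fun x => ⟨x.s + x.b ⬝ᵥ x.a, x.a, x.b⟩⟩

@[simp] theorem mul_s (x y : Pauli n) : (x * y).s = x.s + y.s + x.b ⬝ᵥ y.a := rfl
@[simp] theorem mul_a (x y : Pauli n) : (x * y).a = x.a + y.a := rfl
@[simp] theorem mul_b (x y : Pauli n) : (x * y).b = x.b + y.b := rfl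
@[simp] theorem one_s : (1 : Pauli n).s = 0 := rfl
@[simp] theorem one_a : (1 : Pauli n).a = 0 := rfl
@[simp] theorem one_b : (1 : Pauli n).b = 0 := rfl
@[simp] theorem inv_s (x : Pauli n) : (x⁻¹).s = x.s + x.b ⬝ᵥ x.a := rfl
@[simp] theorem inv_a (x : Pauli n) : (x⁻¹).a = x.a := rfl
@[simp] theorem inv_b (x : Pauli n) : (x⁻¹).b = x.b := rfl

instance : Group (Pauli n) :=
  Group.ofLeftAxioms
    (by
      intro x y z
      ext i
      · simp only [mul_s, mul_a, mul_b, add_dotProduct, dotProduct_add]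
        ring
      · simp only [mul_a, Pi.add_apply]; ring
      · simp only [mul_b, Pi.add_apply]; ring)
    (by
      intro x
      ext i
      · simp
      · simp
      · simp)
    (by
      intro x
      ext i
      · simp only [mul_s, inv_s, inv_b, one_s]
        have := zmod2_add_self (x.s)
        have h2 := zmod2_add_self (x.b ⬝ᵥ x.a)
        linear_combination this + h2
      · simp only [mul_a, inv_a, one_a, Pi.add_apply, Pi.zero_apply]
        exact zmod2_add_self _
      · simp only [mul_b, inv_b, one_b, Pi.add_apply, Pi.zero_apply]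
        exact zmod2_add_self _)

/-- As a set, the Pauli group is a product. -/
def equivProd (n : ℕ) : Pauli n ≃ ZMod 2 × B n × B n where
  toFun x := (x.s, x.a, x.b)
  invFun x := ⟨x.1, x.2.1, x.2.2⟩
  left_inv _ := rfl
  right_inv _ := rfl

instance : Fintype (Pauli n) := Fintype.ofEquiv _ (equivProd n).symm

theorem card (n : ℕ) : Nat.card (Pauli n) = 2 ^ (2 * n + 1) := by
  rw [Nat.card_congr (equivProd n)]
  simp only [Nat.card_eq_fintype_card, Fintype.card_prod, ZMod.card, Fintype.card_pi,
    Finset.prod_const, Finset.card_univ, Fintype.card_fin]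
  ring

/-- the central involution -/
def z (n : ℕ) : Pauli n := ⟨1, 0, 0⟩

@[simp] theorem z_s : (z n).s = 1 := rfl
@[simp] theorem z_a : (z n).a = 0 := rfl
@[simp] theorem z_b : (z n).b = 0 := rfl

theorem z_mul (x : Pauli n) : z n * x = ⟨x.s + 1, x.a, x.b⟩ := by
  ext i <;> simp [add_comm]

theorem mul_z (x : Pauli n) : x * z n = ⟨x.s + 1, x.a, x.b⟩ := by
  ext i <;> simp

theorem z_ne_one : z n ≠ 1 := by
  intro h
  have := congrArg Pauli.s h
  simp at this

theorem z_sq : z n * z n = 1 := by
  ext i <;> simp [zmod2_add_self]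

/-- the symplectic form -/
def form (x y : Pauli n) : ZMod 2 := x.b ⬝ᵥ y.a + y.b ⬝ᵥ x.a

theorem mul_eq_mul_mul_form (x y : Pauli n) : x * y = ⟨form x y, 0, 0⟩ * (y * x) := by
  ext i
  · simp only [mul_s, form, zero_dotProduct, add_zero]
    have h2 := zmod2_add_self (y.b ⬝ᵥ x.a)
    linear_combination -h2
  · simp only [mul_a, Pi.add_apply, Pi.zero_apply, zero_add]; ring
  · simp only [mul_b, Pi.add_apply, Pi.zero_apply, zero_add]; ring

theorem commute_iff (x y : Pauli n) : x * y = y * x ↔ form x y = 0 := by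
  constructor
  · intro h
    have := congrArg Pauli.s h
    simp only [mul_s] at this
    unfold form
    have h2 := zmod2_add_self (y.b ⬝ᵥ x.a)
    linear_combination this + h2
  · intro h
    rw [mul_eq_mul_mul_form, h]
    ext i <;> simp

theorem sq_eq (x : Pauli n) : x * x = ⟨x.b ⬝ᵥ x.a, 0, 0⟩ := by
  ext i
  · simp [zmod2_add_self]
  · simp only [mul_a, Pi.add_apply, Pi.zero_apply]; exact zmod2_add_self _
  · simp only [mul_b, Pi.add_apply, Pi.zero_apply]; exact zmod2_add_self _

theorem conj_eq (y x : Pauli n) : y * x * y⁻¹ = ⟨x.s + form y x, x.a, x.b⟩ := by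
  rw [mul_inv_eq_iff_eq_mul, mul_eq_mul_mul_form]
  ext i
  · simp; ring
  · simp
  · simp

theorem exists_dot_ne {v : B n} (hv : v ≠ 0) : ∃ w : B n, w ⬝ᵥ v = 1 := by
  obtain ⟨i, hi⟩ := Function.ne_iff.mp hv
  refine ⟨Pi.single i 1, ?_⟩
  rw [single_dotProduct, one_mul]
  have : ∀ t : ZMod 2, t ≠ 0 → t = 1 := by decide
  exact this _ hi

theorem mem_center_iff (x : Pauli n) : x ∈ Subgroup.center (Pauli n) ↔ x.a = 0 ∧ x.b = 0 := by
  rw [Subgroup.mem_center_iff]
  constructor
  · intro h
    constructor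
    · by_contra ha
      obtain ⟨w, hw⟩ := exists_dot_ne ha
      have := (commute_iff ⟨0, 0, w⟩ x).mp (h ⟨0, 0, w⟩)
      simp only [form, dotProduct_zero, add_zero] at this
      rw [this] at hw
      exact absurd hw (by decide)
    · by_contra hb
      obtain ⟨w, hw⟩ := exists_dot_ne hb
      have := (commute_iff ⟨0, w, 0⟩ x).mp (h ⟨0, w, 0⟩)
      simp only [form, zero_dotProduct, zero_add] at this
      rw [dotProduct_comm, this] at hw
      exact absurd hw (by decide)
  · rintro ⟨ha, hb⟩ y
    rw [commute_iff]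
    simp [form, ha, hb]

theorem mem_center_iff' (x : Pauli n) : x ∈ Subgroup.center (Pauli n) ↔ x = 1 ∨ x = z n := by
  rw [mem_center_iff]
  constructor
  · rintro ⟨ha, hb⟩
    have : ∀ t : ZMod 2, t = 0 ∨ t = 1 := by decide
    rcases this x.s with h | h
    · left; ext i <;> simp [ha, hb, h]
    · right; ext i <;> simp [ha, hb, h]
  · rintro (rfl | rfl) <;> simp

theorem card_center : Nat.card (Subgroup.center (Pauli n)) = 2 := by
  have h : (Subgroup.center (Pauli n) : Set (Pauli n)) = {1, z n} := by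
    ext x
    simp only [SetLike.mem_coe, mem_center_iff', Set.mem_insert_iff, Set.mem_singleton_iff]
  have h2 : Nat.card (Subgroup.center (Pauli n)) =
      Nat.card ((Subgroup.center (Pauli n) : Set (Pauli n))) := rfl
  rw [h2, h, Nat.card_coe_set_eq]
  exact Set.ncard_pair z_ne_one.symm

end Pauli

end Cfsg.Agent.Monster.PauliBasic
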