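import Mathlib
import Cfsg.Agent.Monster.PauliBasic

/-!
The `2^n`-dimensional representation of the Pauli group, its commutant, and the group `clif` of
pairs `(α, T)`, `T` orthogonal with `T ρ(x) T⁻¹ = ρ(α x)`.
-/

set_option autoImplicit false

namespace Cfsg.Agent.Monster.PauliRep

open Cfsg.Agent.Monster.PauliBasic

variable {n : ℕ}

section act

variable (R : Type*) [CommRing R]

/-- The action of a Pauli element on functions: `(-1)^s X(a) Z(b)` sends the basis vector `u_e` to
`(-1)^(s + b·e) u_(e+a)`. -/
def act (x : Pauli n) : (B n → R) →ₗ[R] (B n → R) where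
  toFun f := fun e => sg R (x.s + x.b ⬝ᵥ (e + x.a)) * f (e + x.a)
  map_add' f g := by
    funext e; simp [mul_add]
  map_smul' c f := by
    funext e
    simp only [Pi.smul_apply, smul_eq_mul, RingHom.id_apply]
    ring

theorem act_apply (x : Pauli n) (f : B n → R) (e : B n) :
    act R x f e = sg R (x.s + x.b ⬝ᵥ (e + x.a)) * f (e + x.a) := rfl

theorem act_mul (x y : Pauli n) : act R (x * y) = act R x ∘ₗ act R y := by
  apply LinearMap.ext
  intro f
  funext e
  simp only [LinearMap.comp_apply, act_apply, Pauli.mul_s, Pauli.mul_a, Pauli.mul_b]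
  rw [← mul_assoc, ← sg_add, add_assoc e x.a y.a]
  congr 2
  simp only [add_dotProduct, dotProduct_add]
  have h := zmod2_add_self (x.b ⬝ᵥ y.a)
  linear_combination h

theorem act_one : act R (1 : Pauli n) = LinearMap.id := by
  apply LinearMap.ext
  intro f
  funext e
  simp [act_apply]

theorem act_single (x : Pauli n) (e : B n) (c : R) :
    act R x (Pi.single e c) = Pi.single (e + x.a) (sg R (x.s + x.b ⬝ᵥ e) * c) := by
  funext t
  rw [act_apply]
  by_cases h : t = e + x.a
  · subst h
    rw [add_add_cancel, Pi.single_eq_same, Pi.single_eq_same]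
  · have h' : t + x.a ≠ e := by
      intro h2
      apply h
      rw [← h2, add_add_cancel]
    rw [Pi.single_eq_of_ne h, Pi.single_eq_of_ne h', mul_zero]

/-- The representation of the Pauli group. -/
def rho : Pauli n →* ((B n → R) ≃ₗ[R] (B n → R)) :=
  MonoidHom.mk'
    (fun x => LinearEquiv.ofLinearMap (act R x) (act R x⁻¹)
      (by rw [← act_mul, mul_inv_cancel, act_one])
      (by rw [← act_mul, inv_mul_cancel, act_one]))
    (by
      intro x y
      apply LinearEquiv.ext
      intro f
      show act R (x * y) f = act R x (act R y f)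
      rw [act_mul]; rfl)

theorem rho_apply (x : Pauli n) (f : B n → R) (e : B n) :
    rho R x f e = sg R (x.s + x.b ⬝ᵥ (e + x.a)) * f (e + x.a) := rfl

theorem rho_single (x : Pauli n) (e : B n) (c : R) :
    rho R x (Pi.single e c) = Pi.single (e + x.a) (sg R (x.s + x.b ⬝ᵥ e) * c) :=
  act_single R x e c

theorem rho_z (f : B n → R) : rho R (Pauli.z n) f = -f := by
  funext e
  rw [rho_apply]
  simp

theorem rho_dot (x : Pauli n) (f g : B n → R) : rho R x f ⬝ᵥ rho R x g = f ⬝ᵥ g := by
  unfold dotProduct
  rw [← Equiv.sum_comp (Equiv.addRight x.a) (fun e => f e * g e)]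
  apply Finset.sum_congr rfl
  intro e _
  simp only [rho_apply, Equiv.coe_addRight]
  have h := sg_mul_self R (x.s + x.b ⬝ᵥ (e + x.a))
  linear_combination (f (e + x.a) * g (e + x.a)) * h

end act

section commutant

variable {R : Type*} [CommRing R] [IsDomain R] (h2 : (2 : R) ≠ 0)

include h2

omit [IsDomain R] in
theorem neg_one_ne_one : (-1 : R) ≠ 1 := by
  intro h
  apply h2
  have : (1 : R) + 1 = 0 := by linear_combination -h
  rw [← one_add_one_eq_two, this]

theorem sg_injective : Function.Injective (sg R) := by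
  intro x y h
  rcases zmod2_cases x with rfl | rfl <;> rcases zmod2_cases y with rfl | rfl
  · rfl
  · rw [sg_zero, sg_one] at h
    exact absurd h.symm (neg_one_ne_one h2)
  · rw [sg_zero, sg_one] at h
    exact absurd h (neg_one_ne_one h2)
  · rfl

theorem rho_injective : Function.Injective (rho R : Pauli n →* _) := by
  intro x y h
  have h1 : ∀ e, (Pi.single (e + x.a) (sg R (x.s + x.b ⬝ᵥ e)) : B n → R) =
      Pi.single (e + y.a) (sg R (y.s + y.b ⬝ᵥ e)) := by
    intro e
    have h0 := congrArg (fun T : (B n → R) ≃ₗ[R] (B n → R) => T (Pi.single e 1)) h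
    simp only [rho_single, mul_one] at h0
    exact h0
  have hne : ∀ t : ZMod 2, sg R t ≠ 0 := fun t => (isUnit_sg R t).ne_zero
  have ha : x.a = y.a := by
    have h0 := h1 0
    rw [zero_add, zero_add] at h0
    by_contra hne'
    have h3 := congrFun h0 x.a
    rw [Pi.single_eq_same, Pi.single_eq_of_ne hne'] at h3
    exact hne _ h3
  have hs : ∀ e, x.s + x.b ⬝ᵥ e = y.s + y.b ⬝ᵥ e := by
    intro e
    have h3 := congrFun (h1 e) (e + x.a)
    rw [Pi.single_eq_same, ha, Pi.single_eq_same] at h3
    exact sg_injective h2 h3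
  have hs0 : x.s = y.s := by
    have := hs 0
    simpa using this
  have hb : x.b = y.b := by
    funext i
    have := hs (Pi.single i 1)
    rw [hs0] at this
    simpa using this
  exact Pauli.ext hs0 ha hb

theorem commutant (T : (B n → R) →ₗ[R] (B n → R))
    (h : ∀ x : Pauli n, T ∘ₗ act R x = act R x ∘ₗ T) : ∃ c : R, T = c • LinearMap.id := by
  set t := T (Pi.single 0 1) with ht
  have key : ∀ e : B n, e ≠ 0 → t e = 0 := by
    intro e he
    obtain ⟨w, hw⟩ := Pauli.exists_dot_ne he
    have h1 := congrArg (fun S : (B n → R) →ₗ[R] (B n → R) => S (Pi.single 0 1)) (h ⟨0, 0, w⟩)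
    simp only [LinearMap.comp_apply, act_single] at h1
    have h3 := congrFun h1 e
    simp only [add_zero, dotProduct_zero, sg_zero, mul_one, act_apply, hw, zero_add, sg_one] at h3
    rw [← ht] at h3
    have h4 : (2 : R) * t e = 0 := by linear_combination h3
    rcases mul_eq_zero.mp h4 with h5 | h5
    · exact absurd h5 h2
    · exact h5
  have ht' : t = Pi.single 0 (t 0) := by
    funext e
    by_cases he : e = 0
    · subst he; rw [Pi.single_eq_same]
    · rw [Pi.single_eq_of_ne he, key e he]
  refine ⟨t 0, ?_⟩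
  apply (Pi.basisFun R (B n)).ext
  intro a
  rw [Pi.basisFun_apply]
  have h1 := congrArg (fun S : (B n → R) →ₗ[R] (B n → R) => S (Pi.single 0 1)) (h ⟨0, a, 0⟩)
  simp only [LinearMap.comp_apply, act_single] at h1
  simp only [zero_add, zero_dotProduct, sg_zero, mul_one] at h1
  rw [h1, ← ht, ht', act_single]
  simp only [zero_add, zero_dotProduct, sg_zero, one_mul, LinearMap.smul_apply, LinearMap.id_apply,
    Pi.single_eq_same]
  rw [← Pi.single_smul', smul_eq_mul, mul_one]

end commutant

end Cfsg.Agent.Monster.PauliRep
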