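import Mathlib
import Cfsg.Agent.Monster.PauliRep

/-!
Linear independence of the Pauli operators, and the group `clif` of pairs `(α, T)`, with
`T` orthogonal and `T ρ(x) T⁻¹ = ρ(α x)`.
-/

set_option autoImplicit false

namespace Cfsg.Agent.Monster.PauliClif

open Cfsg.Agent.Monster.PauliBasic Cfsg.Agent.Monster.PauliRep

variable {n : ℕ}

section indep

variable {R : Type*} [CommRing R] [IsDomain R] (h2 : (2 : R) ≠ 0)

/-- The character `e ↦ (-1)^(b·e)`. -/
def chr (R : Type*) [CommRing R] (b : B n) : Multiplicative (B n) →* R where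
  toFun e := sg R (b ⬝ᵥ (Multiplicative.toAdd e))
  map_one' := by simp
  map_mul' x y := by simp [dotProduct_add, sg_add]

include h2

omit [IsDomain R] in
theorem chr_injective : Function.Injective (chr R : B n → _) := by
  intro b b' h
  funext i
  have h1 := DFunLike.congr_fun h (Multiplicative.ofAdd (Pi.single i 1))
  simp only [chr, MonoidHom.coe_mk, OneHom.coe_mk, toAdd_ofAdd, dotProduct_single, mul_one] at h1
  rcases zmod2_cases (b i) with hb | hb <;> rcases zmod2_cases (b' i) with hb' | hb' <;>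
    rw [hb, hb'] at h1 ⊢ <;> simp only [sg_zero, sg_one] at h1
  · exact absurd h1.symm (neg_one_ne_one h2)
  · exact absurd h1 (neg_one_ne_one h2)

theorem linearIndependent_act :
    LinearIndependent R (fun p : B n × B n => act R (⟨0, p.1, p.2⟩ : Pauli n)) := by
  rw [Fintype.linearIndependent_iff]
  rintro c hc ⟨a, b⟩
  have h1 : ∀ e : B n, ∑ b, c (a, b) * sg R (b ⬝ᵥ e) = 0 := by
    intro e
    have h3 := congrFun (LinearMap.congr_fun hc (Pi.single e 1)) (e + a)
    rw [LinearMap.sum_apply, Finset.sum_apply, Fintype.sum_prod_type,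
      Finset.sum_eq_single a] at h3
    · rw [LinearMap.zero_apply, Pi.zero_apply] at h3
      rw [← h3]
      apply Finset.sum_congr rfl
      intro b _
      rw [LinearMap.smul_apply, act_single, Pi.smul_apply, Pi.single_eq_same, smul_eq_mul]
      simp
    · intro a' _ ha'
      apply Finset.sum_eq_zero
      intro b _
      rw [LinearMap.smul_apply, act_single, Pi.smul_apply, Pi.single_eq_of_ne, smul_zero]
      intro h
      exact ha' (add_left_cancel h).symm
    · intro h; exact absurd (Finset.mem_univ _) h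
  have h4 := (linearIndependent_monoidHom (Multiplicative (B n)) R).comp
    (chr R : B n → _) (chr_injective h2)
  rw [Fintype.linearIndependent_iff] at h4
  apply h4 (fun b => c (a, b))
  funext e
  rw [Finset.sum_apply]
  exact h1 (Multiplicative.toAdd e)

end indep

section clif

variable (n) (R : Type*) [CommRing R]

/-- The group of pairs `(α, T)`: `T` is orthogonal and induces the automorphism `α` on the image
of the Pauli group. -/
def clif : Subgroup ((Pauli n ≃* Pauli n) × ((B n → R) ≃ₗ[R] (B n → R))) where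
  carrier := {p | (∀ x, p.2 * rho R x = rho R (p.1 x) * p.2) ∧ ∀ f g, p.2 f ⬝ᵥ p.2 g = f ⬝ᵥ g}
  mul_mem' := by
    rintro ⟨α, T⟩ ⟨β, S⟩ ⟨h1, h2⟩ ⟨h3, h4⟩
    refine ⟨fun x => ?_, fun f g => ?_⟩
    · show T * S * rho R x = rho R (α (β x)) * (T * S)
      rw [mul_assoc]
      have h5 := h3 x
      simp only at h5
      rw [h5, ← mul_assoc]
      have h6 := h1 (β x)
      simp only at h6
      rw [h6, mul_assoc]
    · show T (S f) ⬝ᵥ T (S g) = f ⬝ᵥ g
      exact (h2 _ _).trans (h4 _ _)
  one_mem' := ⟨fun x => by simp, fun f g => rfl⟩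
  inv_mem' := by
    rintro ⟨α, T⟩ ⟨h1, h2⟩
    refine ⟨fun x => ?_, fun f g => ?_⟩
    · show T⁻¹ * rho R x = rho R (α⁻¹ x) * T⁻¹
      have h5 := h1 (α⁻¹ x)
      simp only at h5
      rw [MulAut.apply_inv_self] at h5
      rw [eq_mul_inv_iff_mul_eq, mul_assoc, inv_mul_eq_iff_eq_mul, h5]
    · show T⁻¹ f ⬝ᵥ T⁻¹ g = f ⬝ᵥ g
      rw [← h2 (T⁻¹ f) (T⁻¹ g)]
      show (T * T⁻¹) f ⬝ᵥ (T * T⁻¹) g = _
      rw [mul_inv_cancel]; rfl

variable {n} {R}

theorem mem_clif {p : (Pauli n ≃* Pauli n) × ((B n → R) ≃ₗ[R] (B n → R))} :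
    p ∈ clif n R ↔ (∀ x, p.2 * rho R x = rho R (p.1 x) * p.2) ∧
      ∀ f g, p.2 f ⬝ᵥ p.2 g = f ⬝ᵥ g := Iff.rfl

theorem clif_apply {p : (Pauli n ≃* Pauli n) × ((B n → R) ≃ₗ[R] (B n → R))} (hp : p ∈ clif n R)
    (x : Pauli n) (f : B n → R) : p.2 (rho R x f) = rho R (p.1 x) (p.2 f) :=
  LinearEquiv.congr_fun (hp.1 x) f

/-- Inner pairs. -/
def inn (R : Type*) [CommRing R] :
    Pauli n →* (Pauli n ≃* Pauli n) × ((B n → R) ≃ₗ[R] (B n → R)) :=
  MonoidHom.prod MulAut.conj (rho R)

theorem inn_mem (y : Pauli n) : inn R y ∈ clif n R := by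
  refine ⟨fun x => ?_, fun f g => rho_dot R y f g⟩
  show rho R y * rho R x = rho R (y * x * y⁻¹) * rho R y
  rw [← map_mul, ← map_mul]
  simp

end clif

section inner

theorem exists_dot_of_additive (φ : B n →+ ZMod 2) : ∃ u : B n, ∀ a, φ a = u ⬝ᵥ a := by
  refine ⟨fun i => φ (Pi.single i 1), fun a => ?_⟩
  have h := (AddMonoidHom.toZModLinearMap 2 φ).pi_apply_eq_sum_univ a
  rw [AddMonoidHom.coe_toZModLinearMap] at h
  rw [h]
  unfold dotProduct
  apply Finset.sum_congr rfl
  intro i _
  rw [smul_eq_mul, mul_comm]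
  congr 2
  funext j
  by_cases hij : i = j
  · subst hij; simp
  · rw [if_neg hij, Pi.single_eq_of_ne (Ne.symm hij)]

/-- An automorphism of the Pauli group which is trivial modulo the centre is conjugation by some
element. -/
theorem exists_conj (α : Pauli n ≃* Pauli n)
    (hα : ∀ x, (α x).a = x.a ∧ (α x).b = x.b) : ∃ y, α = MulAut.conj y := by
  set lam : Pauli n → ZMod 2 := fun x => (α x).s + x.s with hlam
  have hadd : ∀ x y, lam (x * y) = lam x + lam y := by
    intro x y
    simp only [hlam, map_mul, Pauli.mul_s, (hα x).2, (hα y).1]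
    have := zmod2_add_self (x.b ⬝ᵥ y.a)
    linear_combination this
  have hz : ∀ s, lam ⟨s, 0, 0⟩ = 0 := by
    intro s
    rcases zmod2_cases s with rfl | rfl
    · have : (⟨0, 0, 0⟩ : Pauli n) = 1 := rfl
      simp only [hlam, this, map_one]
      exact zmod2_add_self _
    · have hne : α (⟨1, 0, 0⟩ : Pauli n) ≠ 1 := by
        intro h
        have := α.map_eq_one_iff.mp h
        exact Pauli.z_ne_one this
      rcases zmod2_cases (α (⟨1, 0, 0⟩ : Pauli n)).s with h | h
      · exact absurd (Pauli.ext (y := 1) h (hα ⟨1, 0, 0⟩).1 (hα ⟨1, 0, 0⟩).2) hne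
      · simp only [hlam, h]
        exact zmod2_add_self _
  obtain ⟨u, hu⟩ := exists_dot_of_additive (n := n)
    { toFun := fun a => lam ⟨0, a, 0⟩
      map_zero' := hz 0
      map_add' := by
        intro a a'
        rw [← hadd]
        congr 1
        ext i <;> simp }
  obtain ⟨v, hv⟩ := exists_dot_of_additive (n := n)
    { toFun := fun b => lam ⟨0, 0, b⟩
      map_zero' := hz 0
      map_add' := by
        intro a a'
        rw [← hadd]
        congr 1
        ext i <;> simp }
  simp only [AddMonoidHom.coe_mk, ZeroHom.coe_mk] at hu hv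
  refine ⟨⟨0, v, u⟩, ?_⟩
  apply MulEquiv.ext
  intro x
  have hx : x = ⟨x.s, 0, 0⟩ * (⟨0, x.a, 0⟩ * ⟨0, 0, x.b⟩) := by
    ext i <;> simp
  have hl : lam x = u ⬝ᵥ x.a + v ⬝ᵥ x.b := by
    conv_lhs => rw [hx]
    rw [hadd, hadd, hz, hu, hv, zero_add]
  rw [MulAut.conj_apply, Pauli.conj_eq]
  refine Pauli.ext ?_ (hα x).1 (hα x).2
  have h3 : (α x).s = x.s + lam x := by
    simp only [hlam]
    have := zmod2_add_self x.s
    linear_combination -this
  simp only [h3, hl, Pauli.form]
  rw [dotProduct_comm v x.b]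

end inner

section kernel

variable {R : Type*} [CommRing R] [IsDomain R] (h2 : (2 : R) ≠ 0)

include h2

/-- The kernel of the action of `clif` on the Pauli group modulo its centre consists of the inner
pairs. -/
theorem exists_inn {p : (Pauli n ≃* Pauli n) × ((B n → R) ≃ₗ[R] (B n → R))}
    (hp : p ∈ clif n R) (hα : ∀ x, (p.1 x).a = x.a ∧ (p.1 x).b = x.b) :
    ∃ y, p = inn R y := by
  obtain ⟨y, hy⟩ := exists_conj p.1 hα
  have hq : (inn R y)⁻¹ * p ∈ clif n R := mul_mem (inv_mem (inn_mem y)) hp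
  set q := (inn R y)⁻¹ * p with hqdef
  have hq1 : q.1 = 1 := by
    rw [hqdef, Prod.fst_mul, Prod.fst_inv, hy]
    exact inv_mul_cancel _
  have hcomm : ∀ x : Pauli n, q.2.toLinearMap ∘ₗ act R x = act R x ∘ₗ q.2.toLinearMap := by
    intro x
    apply LinearMap.ext
    intro f
    have := clif_apply hq x f
    rw [hq1] at this
    exact this
  obtain ⟨c, hc⟩ := commutant h2 _ hcomm
  have hc1 : c * c = 1 := by
    have h3 := hq.2 (Pi.single 0 1) (Pi.single 0 1)
    have h4 : ∀ f : B n → R, q.2 f = c • f := fun f => LinearMap.congr_fun hc f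
    rw [h4] at h3
    simpa using h3
  have hfin : ∃ s : ZMod 2, q = inn R ⟨s, 0, 0⟩ := by
    have hc2 : c = 1 ∨ c = -1 := mul_self_eq_one_iff.mp hc1
    rcases hc2 with rfl | rfl
    · refine ⟨0, Prod.ext ?_ ?_⟩
      · rw [hq1]; exact (map_one (MulAut.conj (G := Pauli n))).symm
      · apply LinearEquiv.ext
        intro f
        have := LinearMap.congr_fun hc f
        rw [LinearMap.smul_apply, one_smul] at this
        have h5 : (inn R (⟨0, 0, 0⟩ : Pauli n)).2 = 1 := map_one (rho R)
        rw [h5]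
        exact this
    · refine ⟨1, Prod.ext ?_ ?_⟩
      · rw [hq1]
        apply MulEquiv.ext
        intro x
        show x = (⟨1, 0, 0⟩ : Pauli n) * x * (⟨1, 0, 0⟩ : Pauli n)⁻¹
        rw [Pauli.conj_eq]
        ext i <;> simp [Pauli.form]
      · apply LinearEquiv.ext
        intro f
        have := LinearMap.congr_fun hc f
        rw [LinearMap.smul_apply, LinearMap.id_apply, neg_one_smul] at this
        have h5 := rho_z R f
        exact this.trans h5.symm
  obtain ⟨s, hs⟩ := hfin
  refine ⟨y * ⟨s, 0, 0⟩, ?_⟩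
  rw [map_mul, ← hs, hqdef, mul_inv_cancel_left]

theorem inn_injective : Function.Injective (inn R : Pauli n →* _) := by
  intro x y h
  exact rho_injective h2 (congrArg Prod.snd h)

end kernel

section quo

/-- The class of a Pauli element modulo the centre. -/
def ab (x : Pauli n) : B n × B n := (x.a, x.b)

@[simp] theorem ab_mul (x y : Pauli n) : ab (x * y) = ab x + ab y := rfl

theorem ab_surjective (v : B n × B n) : ab (⟨0, v.1, v.2⟩ : Pauli n) = v := rfl

theorem ab_eq_iff (x y : Pauli n) : ab x = ab y ↔ x = y ∨ x = Pauli.z n * y := by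
  constructor
  · intro h
    have ha : x.a = y.a := congrArg Prod.fst h
    have hb : x.b = y.b := congrArg Prod.snd h
    rcases zmod2_cases (x.s + y.s) with hs | hs
    · left
      refine Pauli.ext ?_ ha hb
      have := zmod2_add_self y.s
      linear_combination hs - this
    · right
      rw [Pauli.z_mul]
      refine Pauli.ext ?_ ha hb
      have := zmod2_add_self y.s
      simp only
      linear_combination hs - this
  · rintro (rfl | rfl)
    · rfl
    · rw [ab_mul]; simp [ab]

theorem aut_z (α : Pauli n ≃* Pauli n) : α (Pauli.z n) = Pauli.z n := by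
  have h1 : α (Pauli.z n) ∈ Subgroup.center (Pauli n) := by
    rw [Subgroup.mem_center_iff]
    intro y
    have h2 : Pauli.z n ∈ Subgroup.center (Pauli n) := (Pauli.mem_center_iff' _).mpr (Or.inr rfl)
    rw [Subgroup.mem_center_iff] at h2
    have := congrArg α (h2 (α.symm y))
    simpa using this
  rcases (Pauli.mem_center_iff' _).mp h1 with h | h
  · exact absurd (α.map_eq_one_iff.mp h) Pauli.z_ne_one
  · exact h

theorem ab_aut_congr (α : Pauli n ≃* Pauli n) {x y : Pauli n} (h : ab x = ab y) :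
    ab (α x) = ab (α y) := by
  rcases (ab_eq_iff x y).mp h with rfl | rfl
  · rfl
  · rw [map_mul, aut_z, ab_mul]
    simp [ab]

/-- The action of an automorphism on the Pauli group modulo its centre. -/
def quo : (Pauli n ≃* Pauli n) →* Equiv.Perm (B n × B n) :=
  MonoidHom.mk'
    (fun α =>
      { toFun := fun v => ab (α ⟨0, v.1, v.2⟩)
        invFun := fun v => ab (α.symm ⟨0, v.1, v.2⟩)
        left_inv := by
          intro v
          have : ab (α.symm ⟨0, (ab (α ⟨0, v.1, v.2⟩)).1, (ab (α ⟨0, v.1, v.2⟩)).2⟩) =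
              ab (α.symm (α ⟨0, v.1, v.2⟩)) := ab_aut_congr α.symm rfl
          refine this.trans ?_
          rw [α.symm_apply_apply]; rfl
        right_inv := by
          intro v
          have : ab (α ⟨0, (ab (α.symm ⟨0, v.1, v.2⟩)).1, (ab (α.symm ⟨0, v.1, v.2⟩)).2⟩) =
              ab (α (α.symm ⟨0, v.1, v.2⟩)) := ab_aut_congr α rfl
          refine this.trans ?_
          rw [α.apply_symm_apply]; rfl })
    (by
      intro α β
      apply Equiv.ext
      intro v
      exact (ab_aut_congr α (y := ⟨0, (ab (β ⟨0, v.1, v.2⟩)).1, (ab (β ⟨0, v.1, v.2⟩)).2⟩) rfl))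

theorem quo_ab (α : Pauli n ≃* Pauli n) (x : Pauli n) : quo α (ab x) = ab (α x) :=
  ab_aut_congr α rfl

theorem quo_add (α : Pauli n ≃* Pauli n) (v w : B n × B n) :
    quo α (v + w) = quo α v + quo α w := by
  rw [← ab_surjective v, ← ab_surjective w, ← ab_mul, quo_ab, quo_ab, quo_ab, map_mul, ab_mul]

theorem quo_eq_one_iff (α : Pauli n ≃* Pauli n) :
    quo α = 1 ↔ ∀ x, (α x).a = x.a ∧ (α x).b = x.b := by
  constructor
  · intro h x
    have := quo_ab α x
    rw [h] at this
    exact ⟨(congrArg Prod.fst this).symm, (congrArg Prod.snd this).symm⟩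
  · intro h
    apply Equiv.ext
    intro v
    show ab (α ⟨0, v.1, v.2⟩) = v
    exact Prod.ext (h _).1 (h _).2

end quo

end Cfsg.Agent.Monster.PauliClif
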