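import Mathlib
import Cfsg.Agent.Monster.PauliClif

/-!
Elementary gates (`X_i`, `Z_i`, `CZ_ij`, `CNOT_ij`, unnormalised Hadamard `H_i`) acting on
functions on `F_2^n`, the automorphisms of the Pauli group which they induce, and circuits.
-/

set_option autoImplicit false
set_option linter.unusedSimpArgs false

namespace Cfsg.Agent.Monster.PauliGates

open Cfsg.Agent.Monster.PauliBasic Cfsg.Agent.Monster.PauliRep Cfsg.Agent.Monster.PauliClif

variable {n : ℕ}

/-- The `i`-th unit vector. -/
def dl (i : Fin n) : B n := Pi.single i 1

@[simp] theorem dl_same (i : Fin n) : dl i i = 1 := by simp [dl]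

theorem dl_ne {i j : Fin n} (h : j ≠ i) : dl i j = 0 := by simp [dl, h]

@[simp] theorem dl_dot (i : Fin n) (v : B n) : dl i ⬝ᵥ v = v i := by simp [dl]

@[simp] theorem dot_dl (i : Fin n) (v : B n) : v ⬝ᵥ dl i = v i := by simp [dl]

/-- Elementary gates on `n` qubits. -/
inductive Gate (n : ℕ)
  | X (i : Fin n)
  | Z (i : Fin n)
  | CZ (i j : Fin n) (h : i ≠ j)
  | CNOT (i j : Fin n) (h : i ≠ j)
  | H (i : Fin n)
deriving DecidableEq

/-- The automorphism of the Pauli group induced by a gate, as a map. -/
def Gate.conjFun : Gate n → Pauli n → Pauli n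
  | .X i, x => ⟨x.s + x.b i, x.a, x.b⟩
  | .Z i, x => ⟨x.s + x.a i, x.a, x.b⟩
  | .CZ i j _, x => ⟨x.s + x.a i * x.a j, x.a, x.b + x.a i • dl j + x.a j • dl i⟩
  | .CNOT i j _, x => ⟨x.s, x.a + x.a i • dl j, x.b + x.b j • dl i⟩
  | .H i, x => ⟨x.s + x.a i * x.b i, x.a + (x.a i + x.b i) • dl i, x.b + (x.a i + x.b i) • dl i⟩

theorem Gate.conjFun_mul (g : Gate n) (x y : Pauli n) :
    g.conjFun (x * y) = g.conjFun x * g.conjFun y := by
  rcases g with i | i | ⟨i, j, h⟩ | ⟨i, j, h⟩ | i
  · ext k
    · simp only [conjFun, Pauli.mul_s, Pauli.mul_b, Pi.add_apply]; ring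
    · rfl
    · rfl
  · ext k
    · simp only [conjFun, Pauli.mul_s, Pauli.mul_a, Pi.add_apply]; ring
    · rfl
    · rfl
  · have h' : j ≠ i := h.symm
    ext k
    · simp only [conjFun, Pauli.mul_s, Pauli.mul_a, Pi.add_apply, add_dotProduct, smul_dotProduct,
        dl_dot, smul_eq_mul]
      generalize x.b ⬝ᵥ y.a = t
      ring
    · rfl
    · simp only [conjFun, Pauli.mul_a, Pauli.mul_b, Pi.add_apply, Pi.smul_apply, smul_eq_mul]; ring
  · have h' : j ≠ i := h.symm
    ext k
    · simp only [conjFun, Pauli.mul_s, Pauli.mul_a, Pauli.mul_b, Pi.add_apply, add_dotProduct,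
        dotProduct_add, dotProduct_smul, smul_dotProduct, dl_dot, dot_dl, smul_eq_mul,
        dl_ne h', mul_zero, add_zero]
      have := zmod2_add_self (x.b j * y.a i)
      linear_combination -this
    · simp only [conjFun, Pauli.mul_a, Pi.add_apply, Pi.smul_apply, smul_eq_mul]; ring
    · simp only [conjFun, Pauli.mul_b, Pi.add_apply, Pi.smul_apply, smul_eq_mul]; ring
  · ext k
    · simp only [conjFun, Pauli.mul_s, Pauli.mul_a, Pauli.mul_b, Pi.add_apply, add_dotProduct,
        dotProduct_add, dotProduct_smul, smul_dotProduct, dl_dot, dot_dl, smul_eq_mul, dl_same]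
      generalize x.b ⬝ᵥ y.a = t
      generalize x.s = s
      generalize y.s = s'
      generalize x.a i = a
      generalize y.a i = a'
      generalize x.b i = b
      generalize y.b i = b'
      revert t s s' a a' b b'
      decide
    · simp only [conjFun, Pauli.mul_a, Pauli.mul_b, Pi.add_apply, Pi.smul_apply, smul_eq_mul]; ring
    · simp only [conjFun, Pauli.mul_a, Pauli.mul_b, Pi.add_apply, Pi.smul_apply, smul_eq_mul]; ring

theorem Gate.conjFun_conjFun (g : Gate n) (x : Pauli n) : g.conjFun (g.conjFun x) = x := by
  rcases g with i | i | ⟨i, j, h⟩ | ⟨i, j, h⟩ | i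
  · ext k
    · simp only [conjFun]
      have := zmod2_add_self (x.b i)
      linear_combination this
    · rfl
    · rfl
  · ext k
    · simp only [conjFun]
      have := zmod2_add_self (x.a i)
      linear_combination this
    · rfl
    · rfl
  · ext k
    · simp only [conjFun]
      have := zmod2_add_self (x.a i * x.a j)
      linear_combination this
    · rfl
    · simp only [conjFun, Pi.add_apply, Pi.smul_apply, smul_eq_mul]
      have h1 := zmod2_add_self (x.a i * dl j k)
      have h2 := zmod2_add_self (x.a j * dl i k)
      linear_combination h1 + h2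
  · have h' : j ≠ i := h.symm
    ext k
    · rfl
    · simp only [conjFun, Pi.add_apply, Pi.smul_apply, smul_eq_mul, dl_ne h, mul_zero, add_zero]
      have h1 := zmod2_add_self (x.a i * dl j k)
      linear_combination h1
    · simp only [conjFun, Pi.add_apply, Pi.smul_apply, smul_eq_mul, dl_ne h', mul_zero, add_zero]
      have h1 := zmod2_add_self (x.b j * dl i k)
      linear_combination h1
  · have key : ∀ s a b : ZMod 2, s + a * b + (a + (a + b) * 1) * (b + (a + b) * 1) = s := by
      decide
    have key2 : ∀ a b t d : ZMod 2,
        t + (a + b) * d + (a + (a + b) * 1 + (b + (a + b) * 1)) * d = t := by decide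
    ext k
    · simp only [conjFun, Pi.add_apply, Pi.smul_apply, smul_eq_mul, dl_same]
      exact key _ _ _
    · simp only [conjFun, Pi.add_apply, Pi.smul_apply, smul_eq_mul, dl_same]
      exact key2 _ _ _ _
    · simp only [conjFun, Pi.add_apply, Pi.smul_apply, smul_eq_mul, dl_same]
      exact key2 _ _ _ _

/-- The automorphism of the Pauli group induced by a gate. -/
def Gate.conj (g : Gate n) : Pauli n ≃* Pauli n where
  toFun := g.conjFun
  invFun := g.conjFun
  left_inv := g.conjFun_conjFun
  right_inv := g.conjFun_conjFun
  map_mul' := g.conjFun_mul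

@[simp] theorem Gate.conj_apply (g : Gate n) (x : Pauli n) : g.conj x = g.conjFun x := rfl

section op

variable (R : Type*) [CommRing R]

/-- The action of a gate on functions (`H` is not normalised). -/
def Gate.opFun : Gate n → (B n → R) → (B n → R)
  | .X i, f => fun e => f (e + dl i)
  | .Z i, f => fun e => sg R (e i) * f e
  | .CZ i j _, f => fun e => sg R (e i * e j) * f e
  | .CNOT i j _, f => fun e => f (e + e i • dl j)
  | .H i, f => fun e => f (e + e i • dl i) + sg R (e i) * f (e + (e i + 1) • dl i)

/-- The action of a gate on functions, as a linear map. -/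
def Gate.op (g : Gate n) : (B n → R) →ₗ[R] (B n → R) where
  toFun := g.opFun R
  map_add' f f' := by
    rcases g with i | i | ⟨i, j, h⟩ | ⟨i, j, h⟩ | i <;>
      (funext e; simp only [opFun, Pi.add_apply]) <;> ring
  map_smul' c f := by
    rcases g with i | i | ⟨i, j, h⟩ | ⟨i, j, h⟩ | i <;>
      (funext e; simp only [opFun, Pi.smul_apply, smul_eq_mul, RingHom.id_apply]) <;> ring

@[simp] theorem Gate.op_apply (g : Gate n) (f : B n → R) : g.op R f = g.opFun R f := rfl

theorem Gate.op_act (g : Gate n) (x : Pauli n) :
    g.op R ∘ₗ act R x = act R (g.conj x) ∘ₗ g.op R := by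
  apply LinearMap.ext
  intro f
  funext e
  rcases g with i | i | ⟨i, j, h⟩ | ⟨i, j, h⟩ | i
  · simp only [LinearMap.comp_apply, op_apply, opFun, conj_apply, conjFun, act_apply]
    congr 2
    · rw [dotProduct_add, dotProduct_add, dotProduct_add, dot_dl]; ring
    · abel
  · simp only [LinearMap.comp_apply, op_apply, opFun, conj_apply, conjFun, act_apply]
    rw [← mul_assoc, ← mul_assoc, ← sg_add, ← sg_add]
    congr 2
    simp only [Pi.add_apply]
    have := zmod2_add_self (x.a i)
    linear_combination -this
  · simp only [LinearMap.comp_apply, op_apply, opFun, conj_apply, conjFun, act_apply]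
    rw [← mul_assoc, ← mul_assoc, ← sg_add, ← sg_add]
    congr 2
    simp only [Pi.add_apply, add_dotProduct, smul_dotProduct, dl_dot, smul_eq_mul]
    generalize x.b ⬝ᵥ (e + x.a) = t
    generalize x.s = s
    generalize x.a i = a
    generalize x.a j = a'
    generalize e i = b
    generalize e j = b'
    revert t s a a' b b'
    decide
  · have h' : j ≠ i := h.symm
    simp only [LinearMap.comp_apply, op_apply, opFun, conj_apply, conjFun, act_apply]
    congr 2
    · simp only [add_dotProduct, smul_dotProduct, dl_dot, smul_eq_mul, dotProduct_add,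
        dotProduct_smul, dot_dl, dl_ne h', mul_zero, add_zero]
      have := zmod2_add_self (x.a i * x.b j)
      linear_combination -this
    · funext k
      simp only [Pi.add_apply, Pi.smul_apply, smul_eq_mul, dl_ne h, mul_zero, add_zero]
      have := zmod2_add_self (x.a i * dl j k)
      linear_combination -this
  · simp only [LinearMap.comp_apply, op_apply, opFun, conj_apply, conjFun, act_apply]
    rcases zmod2_cases (x.a i) with ha | ha
    · have e1 : e + (x.a + (x.a i + x.b i) • dl i) +
          (e + (x.a + (x.a i + x.b i) • dl i)) i • dl i = e + e i • dl i + x.a := by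
        funext k
        simp only [Pi.add_apply, Pi.smul_apply, smul_eq_mul, dl_same, ha]
        generalize e i = t
        generalize e k = t1
        generalize x.a k = t2
        generalize x.b i = t3
        generalize dl i k = t4
        revert t t1 t2 t3 t4
        decide
      have e2 : e + (x.a + (x.a i + x.b i) • dl i) +
          ((e + (x.a + (x.a i + x.b i) • dl i)) i + 1) • dl i =
            e + (e i + 1) • dl i + x.a := by
        funext k
        simp only [Pi.add_apply, Pi.smul_apply, smul_eq_mul, dl_same, ha]
        generalize e i = t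
        generalize e k = t1
        generalize x.a k = t2
        generalize x.b i = t3
        generalize dl i k = t4
        revert t t1 t2 t3 t4
        decide
      rw [e1, e2, mul_add, ← mul_assoc, ← mul_assoc, ← sg_add, ← sg_add]
      congr 3
      · simp only [add_dotProduct, smul_dotProduct, dl_dot, smul_eq_mul, dotProduct_add,
          dotProduct_smul, dot_dl, Pi.add_apply, Pi.smul_apply, dl_same, ha]
        generalize x.s = s
        generalize x.b ⬝ᵥ e = t
        generalize x.b ⬝ᵥ x.a = t1
        generalize e i = t2
        generalize x.b i = t3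
        revert s t t1 t2 t3
        decide
      · simp only [add_dotProduct, smul_dotProduct, dl_dot, smul_eq_mul, dotProduct_add,
          dotProduct_smul, dot_dl, Pi.add_apply, Pi.smul_apply, dl_same, ha]
        generalize x.s = s
        generalize x.b ⬝ᵥ e = t
        generalize x.b ⬝ᵥ x.a = t1
        generalize e i = t2
        generalize x.b i = t3
        revert s t t1 t2 t3
        decide
    · have e1 : e + (x.a + (x.a i + x.b i) • dl i) +
          (e + (x.a + (x.a i + x.b i) • dl i)) i • dl i = e + (e i + 1) • dl i + x.a := by
        funext k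
        have hk : dl i k = 0 ∨ (dl i k = 1 ∧ x.a k = 1) := by
          by_cases hki : k = i
          · subst hki; exact Or.inr ⟨dl_same k, ha⟩
          · exact Or.inl (dl_ne hki)
        simp only [Pi.add_apply, Pi.smul_apply, smul_eq_mul, dl_same, ha]
        rcases hk with hk | ⟨hk, hk'⟩
        · rw [hk]; ring
        · rw [hk, hk']
          generalize e i = t
          generalize e k = t1
          generalize x.b i = t3
          revert t t1 t3
          decide
      have e2 : e + (x.a + (x.a i + x.b i) • dl i) +
          ((e + (x.a + (x.a i + x.b i) • dl i)) i + 1) • dl i =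
            e + e i • dl i + x.a := by
        funext k
        have hk : dl i k = 0 ∨ (dl i k = 1 ∧ x.a k = 1) := by
          by_cases hki : k = i
          · subst hki; exact Or.inr ⟨dl_same k, ha⟩
          · exact Or.inl (dl_ne hki)
        simp only [Pi.add_apply, Pi.smul_apply, smul_eq_mul, dl_same, ha]
        rcases hk with hk | ⟨hk, hk'⟩
        · rw [hk]; ring
        · rw [hk, hk']
          generalize e i = t
          generalize e k = t1
          generalize x.b i = t3
          revert t t1 t3
          decide
      rw [e1, e2, mul_add, ← mul_assoc, ← mul_assoc, ← sg_add, ← sg_add, add_comm]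
      congr 3
      · simp only [add_dotProduct, smul_dotProduct, dl_dot, smul_eq_mul, dotProduct_add,
          dotProduct_smul, dot_dl, Pi.add_apply, Pi.smul_apply, dl_same, ha]
        generalize x.s = s
        generalize x.b ⬝ᵥ e = t
        generalize x.b ⬝ᵥ x.a = t1
        generalize e i = t2
        generalize x.b i = t3
        revert s t t1 t2 t3
        decide
      · simp only [add_dotProduct, smul_dotProduct, dl_dot, smul_eq_mul, dotProduct_add,
          dotProduct_smul, dot_dl, Pi.add_apply, Pi.smul_apply, dl_same, ha]
        generalize x.s = s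
        generalize x.b ⬝ᵥ e = t
        generalize x.b ⬝ᵥ x.a = t1
        generalize e i = t2
        generalize x.b i = t3
        revert s t t1 t2 t3
        decide

/-- `2` for a Hadamard gate, `1` otherwise. -/
def Gate.nrm : Gate n → ℕ
  | .H _ => 2
  | _ => 1

theorem sum_add_right (c : B n) (F : B n → R) : ∑ e, F (e + c) = ∑ e, F e :=
  Equiv.sum_comp (Equiv.addRight c) F

theorem Gate.op_dot (g : Gate n) (f f' : B n → R) :
    g.op R f ⬝ᵥ g.op R f' = g.nrm * (f ⬝ᵥ f') := by
  rcases g with i | i | ⟨i, j, h⟩ | ⟨i, j, h⟩ | i
  · simp only [op_apply, opFun, nrm, dotProduct, Nat.cast_one, one_mul]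
    exact sum_add_right R (dl i) (fun e => f e * f' e)
  · simp only [op_apply, opFun, nrm, dotProduct, Nat.cast_one, one_mul]
    apply Finset.sum_congr rfl
    intro e _
    have := sg_mul_self R (e i)
    linear_combination (f e * f' e) * this
  · simp only [op_apply, opFun, nrm, dotProduct, Nat.cast_one, one_mul]
    apply Finset.sum_congr rfl
    intro e _
    have := sg_mul_self R (e i * e j)
    linear_combination (f e * f' e) * this
  · have h' : j ≠ i := h.symm
    simp only [op_apply, opFun, nrm, dotProduct, Nat.cast_one, one_mul]
    have hinv : Function.Involutive (fun e : B n => e + e i • dl j) := by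
      intro e
      funext k
      simp only [Pi.add_apply, Pi.smul_apply, smul_eq_mul, dl_ne h, mul_zero, add_zero]
      have := zmod2_add_self (e i * dl j k)
      linear_combination this
    exact Equiv.sum_comp hinv.toPerm (fun e => f e * f' e)
  · simp only [op_apply, opFun, nrm, dotProduct, Nat.cast_ofNat]
    have h1 : ∀ e : B n, (f (e + e i • dl i) + sg R (e i) * f (e + (e i + 1) • dl i)) *
        (f' (e + e i • dl i) + sg R (e i) * f' (e + (e i + 1) • dl i)) =
        (f e * f' e + f (e + dl i) * f' (e + dl i)) +
          sg R (e i) * (f e * f' (e + dl i) + f (e + dl i) * f' e) := by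
      intro e
      rcases zmod2_cases (e i) with he | he
      · rw [he, zero_smul, add_zero, zero_add, one_smul, sg_zero]; ring
      · have h11 : (1 + 1 : ZMod 2) = 0 := by decide
        rw [he, h11, zero_smul, add_zero, one_smul, sg_one]; ring
    rw [Finset.sum_congr rfl (fun e _ => h1 e), Finset.sum_add_distrib, Finset.sum_add_distrib,
      sum_add_right R (dl i) (fun e => f e * f' e)]
    have h2 : ∑ e : B n, sg R (e i) * (f e * f' (e + dl i) + f (e + dl i) * f' e) = 0 := by
      apply Finset.sum_involution (fun e _ => e + dl i)
      · intro e _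
        rw [add_add_cancel, Pi.add_apply, dl_same, sg_add, sg_one]; ring
      · intro e _ _ h
        have := congrFun h i
        rw [Pi.add_apply, dl_same] at this
        have h3 : (1 : ZMod 2) = 0 := by linear_combination this
        exact absurd h3 (by decide)
      · intro e _; exact Finset.mem_univ _
      · intro e _; exact add_add_cancel _ _
    rw [h2, add_zero, two_mul]

theorem Gate.op_op (g : Gate n) (f : B n → R) : g.op R (g.op R f) = (g.nrm : R) • f := by
  rcases g with i | i | ⟨i, j, h⟩ | ⟨i, j, h⟩ | i
  · funext e
    simp only [op_apply, opFun, nrm, Nat.cast_one, one_smul, add_add_cancel]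
  · funext e
    simp only [op_apply, opFun, nrm, Nat.cast_one, one_smul]
    have := sg_mul_self R (e i)
    linear_combination (f e) * this
  · funext e
    simp only [op_apply, opFun, nrm, Nat.cast_one, one_smul]
    have := sg_mul_self R (e i * e j)
    linear_combination (f e) * this
  · have h' : j ≠ i := h.symm
    funext e
    simp only [op_apply, opFun, nrm, Nat.cast_one, one_smul]
    congr 1
    funext k
    simp only [Pi.add_apply, Pi.smul_apply, smul_eq_mul, dl_ne h, mul_zero, add_zero]
    have := zmod2_add_self (e i * dl j k)
    linear_combination this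
  · funext e
    have h11 : (1 + 1 : ZMod 2) = 0 := by decide
    simp only [op_apply, opFun, nrm, Nat.cast_ofNat, Pi.smul_apply, smul_eq_mul]
    rcases zmod2_cases (e i) with he | he
    · simp only [he, zero_smul, add_zero, zero_add, one_smul, sg_zero, sg_one, Pi.add_apply,
        dl_same, h11, add_add_cancel, Pi.zero_apply]
      ring
    · simp only [he, zero_smul, add_zero, zero_add, one_smul, sg_zero, sg_one, Pi.add_apply,
        dl_same, h11, add_add_cancel, Pi.zero_apply]
      ring

/-- The linear map of a circuit; the head of the list is applied first. -/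
def opL : List (Gate n) → ((B n → R) →ₗ[R] (B n → R))
  | [] => LinearMap.id
  | g :: L => opL L ∘ₗ g.op R

/-- The automorphism of the Pauli group induced by a circuit. -/
def conjL : List (Gate n) → (Pauli n ≃* Pauli n)
  | [] => 1
  | g :: L => conjL L * g.conj

/-- The factor by which the form is multiplied. -/
def nrmL : List (Gate n) → ℕ
  | [] => 1
  | g :: L => g.nrm * nrmL L

theorem opL_act (L : List (Gate n)) (x : Pauli n) :
    opL R L ∘ₗ act R x = act R (conjL L x) ∘ₗ opL R L := by
  induction L generalizing x with
  | nil => rfl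
  | cons g L ih =>
    show (opL R L ∘ₗ g.op R) ∘ₗ act R x = act R (conjL L (g.conj x)) ∘ₗ (opL R L ∘ₗ g.op R)
    rw [LinearMap.comp_assoc, Gate.op_act R g, ← LinearMap.comp_assoc, ih, LinearMap.comp_assoc]

theorem opL_dot (L : List (Gate n)) (f f' : B n → R) :
    opL R L f ⬝ᵥ opL R L f' = nrmL L * (f ⬝ᵥ f') := by
  induction L generalizing f f' with
  | nil => simp [opL, nrmL]
  | cons g L ih =>
    show opL R L (g.op R f) ⬝ᵥ opL R L (g.op R f') = _
    rw [ih, Gate.op_dot R g]
    simp only [nrmL, Nat.cast_mul]
    ring

theorem opL_append (L L' : List (Gate n)) : opL R (L ++ L') = opL R L' ∘ₗ opL R L := by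
  induction L with
  | nil => rfl
  | cons g L ih =>
    show opL R (L ++ L') ∘ₗ g.op R = opL R L' ∘ₗ (opL R L ∘ₗ g.op R)
    rw [ih, LinearMap.comp_assoc]

theorem opL_reverse (L : List (Gate n)) (f : B n → R) :
    opL R L.reverse (opL R L f) = (nrmL L : R) • f := by
  induction L generalizing f with
  | nil => simp [opL, nrmL]
  | cons g L ih =>
    show opL R (g :: L).reverse (opL R L (g.op R f)) = _
    rw [List.reverse_cons, opL_append, LinearMap.comp_apply, ih]
    show g.op R ((nrmL L : R) • g.op R f) = _
    rw [map_smul, Gate.op_op R g, smul_smul]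
    simp only [nrmL, Nat.cast_mul]
    rw [mul_comm]

theorem nrmL_append (L L' : List (Gate n)) : nrmL (L ++ L') = nrmL L * nrmL L' := by
  induction L with
  | nil => simp [nrmL]
  | cons g L ih => simp only [List.cons_append, nrmL, ih, mul_assoc]

theorem nrmL_reverse (L : List (Gate n)) : nrmL L.reverse = nrmL L := by
  induction L with
  | nil => rfl
  | cons g L ih =>
    rw [List.reverse_cons, nrmL_append, ih]
    simp only [nrmL, mul_one]
    exact mul_comm _ _

/-- A circuit, rescaled by `c` with `c² · 2^(number of Hadamards) = 1`, gives an element of the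
Clifford group. -/
def clifOf (L : List (Gate n)) (c : R) (hc : c * c * nrmL L = 1) :
    (Pauli n ≃* Pauli n) × ((B n → R) ≃ₗ[R] (B n → R)) :=
  (conjL L, LinearEquiv.ofLinearMap (c • opL R L) (c • opL R L.reverse)
    (by
      apply LinearMap.ext
      intro f
      simp only [LinearMap.comp_apply, LinearMap.smul_apply, map_smul, smul_smul,
        LinearMap.id_apply]
      have h := opL_reverse R L.reverse f
      rw [List.reverse_reverse] at h
      rw [h, smul_smul, nrmL_reverse, hc, one_smul])
    (by
      apply LinearMap.ext
      intro f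
      simp only [LinearMap.comp_apply, LinearMap.smul_apply, map_smul, smul_smul,
        LinearMap.id_apply]
      rw [opL_reverse, smul_smul, hc, one_smul]))

theorem clifOf_snd_apply (L : List (Gate n)) (c : R) (hc : c * c * nrmL L = 1) (f : B n → R) :
    (clifOf R L c hc).2 f = c • opL R L f := rfl

theorem clifOf_fst (L : List (Gate n)) (c : R) (hc : c * c * nrmL L = 1) :
    (clifOf R L c hc).1 = conjL L := rfl

theorem clifOf_mem (L : List (Gate n)) (c : R) (hc : c * c * nrmL L = 1) :
    clifOf R L c hc ∈ clif n R := by
  constructor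
  · intro x
    apply LinearEquiv.ext
    intro f
    show c • opL R L (act R x f) = act R (conjL L x) (c • opL R L f)
    rw [map_smul]
    congr 1
    exact LinearMap.congr_fun (opL_act R L x) f
  · intro f f'
    rw [clifOf_snd_apply, clifOf_snd_apply, smul_dotProduct, dotProduct_smul, opL_dot,
      smul_eq_mul, smul_eq_mul]
    linear_combination (f ⬝ᵥ f') * hc

end op

end Cfsg.Agent.Monster.PauliGates
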