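import Mathlib
import Cfsg.Agent.Monster.PauliGates

/-!
Natural number codes. A binary vector `e : B n` is coded by `idx e = Σ e_i 2^i`, a Pauli element
`(s, a, b)` by `s * 2^(2n) + a * 2^n + b`; gates act on the codes of Pauli elements by a few bit
operations.
-/

set_option autoImplicit false
set_option linter.unusedSimpArgs false

namespace Cfsg.Agent.Monster.PauliBits

open Cfsg.Agent.Monster.PauliBasic Cfsg.Agent.Monster.PauliRep Cfsg.Agent.Monster.PauliClif
open Cfsg.Agent.Monster.PauliGates

variable {n : ℕ}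

/-- The `k`-th bit of `x`, as an element of `ZMod 2`. -/
def bit (x k : ℕ) : ZMod 2 := if x.testBit k then 1 else 0

@[simp] theorem bit_zero (k : ℕ) : bit 0 k = 0 := by simp [bit]

theorem bit_xor (x y k : ℕ) : bit (x ^^^ y) k = bit x k + bit y k := by
  unfold bit
  rw [Nat.testBit_xor]
  cases x.testBit k <;> cases y.testBit k <;> decide

theorem bit_and (x y k : ℕ) : bit (x &&& y) k = bit x k * bit y k := by
  unfold bit
  rw [Nat.testBit_and]
  cases x.testBit k <;> cases y.testBit k <;> decide

theorem bit_shiftLeft (x m k : ℕ) : bit (x <<< m) k = if m ≤ k then bit x (k - m) else 0 := by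
  unfold bit
  rw [Nat.testBit_shiftLeft]
  by_cases h : m ≤ k
  · simp [h]
  · simp [h]

theorem bit_shiftRight (x m k : ℕ) : bit (x >>> m) k = bit x (m + k) := by
  unfold bit
  rw [Nat.testBit_shiftRight]

theorem bit_eq_zero_of_lt {x k : ℕ} (h : x < 2 ^ k) : bit x k = 0 := by
  simp [bit, Nat.testBit_lt_two_pow h]

theorem bit_one (k : ℕ) : bit 1 k = if k = 0 then 1 else 0 := by
  rcases Nat.eq_zero_or_pos k with rfl | h
  · simp [bit]
  · rw [bit_eq_zero_of_lt (Nat.one_lt_two_pow h.ne'), if_neg h.ne']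

/-- The `k`-th bit of `x` as a number. -/
def b1 (x k : ℕ) : ℕ := (x >>> k) &&& 1

theorem bit_b1 (x k t : ℕ) : bit (b1 x k) t = if t = 0 then bit x k else 0 := by
  unfold b1
  rw [bit_and, bit_shiftRight, bit_one]
  split_ifs with h
  · subst h; simp
  · simp

theorem bit_b1_shiftLeft (x k m t : ℕ) :
    bit (b1 x k <<< m) t = if t = m then bit x k else 0 := by
  rw [bit_shiftLeft, bit_b1]
  by_cases h : t = m
  · subst h; simp
  · by_cases h' : m ≤ t
    · have : t - m ≠ 0 := by omega
      simp [h, h', this]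
    · simp [h, h']

theorem bit_and_shiftLeft (x k l m t : ℕ) :
    bit ((b1 x k &&& b1 x l) <<< m) t = if t = m then bit x k * bit x l else 0 := by
  rw [bit_shiftLeft, bit_and, bit_b1, bit_b1]
  by_cases h : t = m
  · subst h; simp
  · by_cases h' : m ≤ t
    · have : t - m ≠ 0 := by omega
      simp [h, h', this]
    · simp [h, h']

theorem bit_xor_shiftLeft (x k l m t : ℕ) :
    bit ((b1 x k ^^^ b1 x l) <<< m) t = if t = m then bit x k + bit x l else 0 := by
  rw [bit_shiftLeft, bit_xor, bit_b1, bit_b1]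
  by_cases h : t = m
  · subst h; simp
  · by_cases h' : m ≤ t
    · have : t - m ≠ 0 := by omega
      simp [h, h', this]
    · simp [h, h']

section vec

/-- The binary vector with code `x`. -/
def vec (n x : ℕ) : B n := fun i => bit x i

/-- The code of a binary vector. -/
def idx (e : B n) : ℕ := Nat.ofBits (fun i => decide (e i = 1))

theorem testBit_idx (e : B n) (k : ℕ) :
    (idx e).testBit k = if h : k < n then decide (e ⟨k, h⟩ = 1) else false := by
  unfold idx
  rw [Nat.testBit_ofBits]

theorem bit_idx (e : B n) (i : Fin n) : bit (idx e) i = e i := by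
  unfold bit
  rw [testBit_idx, dif_pos i.2]
  rcases zmod2_cases (e i) with h | h <;> simp [h]

theorem idx_lt (e : B n) : idx e < 2 ^ n := Nat.ofBits_lt_two_pow _

theorem vec_idx (e : B n) : vec n (idx e) = e := by
  funext i
  exact bit_idx e i

theorem bit_eq_one_iff (x k : ℕ) : bit x k = 1 ↔ x.testBit k = true := by
  unfold bit
  cases x.testBit k <;> simp

theorem idx_vec_mod (x : ℕ) : idx (vec n x) = x % 2 ^ n := by
  have : (fun i : Fin n => decide (vec n x i = 1)) = fun i : Fin n => x.testBit i := by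
    funext i
    show decide (bit x i = 1) = _
    rw [Bool.eq_iff_iff]
    simp [bit_eq_one_iff]
  unfold idx
  rw [this, Nat.ofBits_testBit]

theorem idx_vec {x : ℕ} (h : x < 2 ^ n) : idx (vec n x) = x := by
  rw [idx_vec_mod, Nat.mod_eq_of_lt h]

theorem vec_xor (x y : ℕ) : vec n (x ^^^ y) = vec n x + vec n y := by
  funext i
  exact bit_xor x y i

theorem vec_zero : vec n 0 = 0 := by
  funext i
  exact bit_zero i

theorem idx_add (e e' : B n) : idx (e + e') = idx e ^^^ idx e' := by
  have h : vec n (idx e ^^^ idx e') = e + e' := by rw [vec_xor, vec_idx, vec_idx]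
  rw [← h, idx_vec (Nat.xor_lt_two_pow (idx_lt e) (idx_lt e'))]

theorem idx_injective : Function.Injective (idx : B n → ℕ) := by
  intro e e' h
  rw [← vec_idx e, h, vec_idx]

/-- Binary vectors are the numbers below `2^n`. -/
def equivFin (n : ℕ) : B n ≃ Fin (2 ^ n) where
  toFun e := ⟨idx e, idx_lt e⟩
  invFun x := vec n x
  left_inv e := vec_idx e
  right_inv x := Fin.ext (idx_vec x.2)

end vec

section dec

/-- The Pauli element with code `x = s * 2^(2n) + a * 2^n + b`. -/
def dec (n x : ℕ) : Pauli n := ⟨bit x (2 * n), fun i => bit x (n + i), fun i => bit x i⟩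

/-- The code of a Pauli element. -/
def enc (x : Pauli n) : ℕ := (if x.s = 1 then 2 ^ (2 * n) else 0) + idx x.a * 2 ^ n + idx x.b

/-- The action of a gate on codes of Pauli elements. -/
def conjN : Gate n → ℕ → ℕ
  | .X i, x => x ^^^ (b1 x i <<< (2 * n))
  | .Z i, x => x ^^^ (b1 x (n + i) <<< (2 * n))
  | .CZ i j _, x => x ^^^ (((b1 x (n + i)) &&& (b1 x (n + j))) <<< (2 * n)) ^^^
      (b1 x (n + i) <<< j.val) ^^^ (b1 x (n + j) <<< i.val)
  | .CNOT i j _, x => x ^^^ (b1 x (n + i) <<< (n + j)) ^^^ (b1 x j <<< i.val)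
  | .H i, x => x ^^^ (((b1 x (n + i)) &&& (b1 x i)) <<< (2 * n)) ^^^
      ((b1 x (n + i) ^^^ b1 x i) <<< (n + i)) ^^^ ((b1 x (n + i) ^^^ b1 x i) <<< i.val)

theorem dl_apply (i k : Fin n) : dl i k = if k.val = i.val then 1 else 0 := by
  by_cases h : k = i
  · subst h; simp
  · rw [dl_ne h, if_neg (fun h' => h (Fin.ext h'))]

theorem dec_conjN (g : Gate n) (x : ℕ) : dec n (conjN g x) = g.conj (dec n x) := by
  rcases g with i | i | ⟨i, j, h⟩ | ⟨i, j, h⟩ | i
  · ext k
    · simp only [dec, conjN, Gate.conj_apply, Gate.conjFun, bit_xor, bit_b1_shiftLeft, if_true]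
    · have hk := k.2
      have h1 : n + k.val ≠ 2 * n := by omega
      simp only [dec, conjN, Gate.conj_apply, Gate.conjFun, bit_xor, bit_b1_shiftLeft, h1,
        if_false, add_zero]
    · have hk := k.2
      have h1 : k.val ≠ 2 * n := by omega
      simp only [dec, conjN, Gate.conj_apply, Gate.conjFun, bit_xor, bit_b1_shiftLeft, h1,
        if_false, add_zero]
  · ext k
    · simp only [dec, conjN, Gate.conj_apply, Gate.conjFun, bit_xor, bit_b1_shiftLeft, if_true]
    · have hk := k.2
      have h1 : n + k.val ≠ 2 * n := by omega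
      simp only [dec, conjN, Gate.conj_apply, Gate.conjFun, bit_xor, bit_b1_shiftLeft, h1,
        if_false, add_zero]
    · have hk := k.2
      have h1 : k.val ≠ 2 * n := by omega
      simp only [dec, conjN, Gate.conj_apply, Gate.conjFun, bit_xor, bit_b1_shiftLeft, h1,
        if_false, add_zero]
  · have hi := i.2
    have hj := j.2
    have e1 : 2 * n ≠ j.val := by omega
    have e2 : 2 * n ≠ i.val := by omega
    ext k
    · simp only [dec, conjN, Gate.conj_apply, Gate.conjFun, bit_xor, bit_b1_shiftLeft,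
        bit_and_shiftLeft, if_true, e1, e2, if_false, add_zero]
    · have hk := k.2
      have h1 : n + k.val ≠ 2 * n := by omega
      have h2 : n + k.val ≠ j.val := by omega
      have h3 : n + k.val ≠ i.val := by omega
      simp only [dec, conjN, Gate.conj_apply, Gate.conjFun, bit_xor, bit_b1_shiftLeft,
        bit_and_shiftLeft, h1, h2, h3, if_false, add_zero]
    · have hk := k.2
      have h1 : k.val ≠ 2 * n := by omega
      simp only [dec, conjN, Gate.conj_apply, Gate.conjFun, bit_xor, bit_b1_shiftLeft,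
        bit_and_shiftLeft, h1, if_false, add_zero, Pi.add_apply, Pi.smul_apply, smul_eq_mul,
        dl_apply, mul_ite, mul_one, mul_zero]
  · have hi := i.2
    have hj := j.2
    have e1 : 2 * n ≠ n + j.val := by omega
    have e2 : 2 * n ≠ i.val := by omega
    ext k
    · simp only [dec, conjN, Gate.conj_apply, Gate.conjFun, bit_xor, bit_b1_shiftLeft,
        bit_and_shiftLeft, if_true, e1, e2, if_false, add_zero]
    · have hk := k.2
      have h1 : (n + k.val = n + j.val) = (k.val = j.val) := by
        apply propext; omega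
      have h3 : n + k.val ≠ i.val := by omega
      simp only [dec, conjN, Gate.conj_apply, Gate.conjFun, bit_xor, bit_b1_shiftLeft,
        bit_and_shiftLeft, h1, h3, if_false, add_zero, Pi.add_apply, Pi.smul_apply, smul_eq_mul,
        dl_apply, mul_ite, mul_one, mul_zero]
    · have hk := k.2
      have h1 : k.val ≠ n + j.val := by omega
      simp only [dec, conjN, Gate.conj_apply, Gate.conjFun, bit_xor, bit_b1_shiftLeft,
        bit_and_shiftLeft, h1, if_false, add_zero, Pi.add_apply, Pi.smul_apply, smul_eq_mul,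
        dl_apply, mul_ite, mul_one, mul_zero]
  · have hi := i.2
    have e1 : 2 * n ≠ n + i.val := by omega
    have e2 : 2 * n ≠ i.val := by omega
    ext k
    · simp only [dec, conjN, Gate.conj_apply, Gate.conjFun, bit_xor, bit_b1_shiftLeft,
        bit_and_shiftLeft, bit_xor_shiftLeft, if_true, e1, e2, if_false, add_zero]
    · have hk := k.2
      have h0 : n + k.val ≠ 2 * n := by omega
      have h1 : (n + k.val = n + i.val) = (k.val = i.val) := by
        apply propext; omega
      have h3 : n + k.val ≠ i.val := by omega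
      simp only [dec, conjN, Gate.conj_apply, Gate.conjFun, bit_xor, bit_b1_shiftLeft,
        bit_and_shiftLeft, bit_xor_shiftLeft, h0, h1, h3, if_false, add_zero, Pi.add_apply,
        Pi.smul_apply, smul_eq_mul, dl_apply, mul_ite, mul_one, mul_zero]
    · have hk := k.2
      have h0 : k.val ≠ 2 * n := by omega
      have h1 : k.val ≠ n + i.val := by omega
      simp only [dec, conjN, Gate.conj_apply, Gate.conjFun, bit_xor, bit_b1_shiftLeft,
        bit_and_shiftLeft, bit_xor_shiftLeft, h0, h1, if_false, add_zero, Pi.add_apply,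
        Pi.smul_apply, smul_eq_mul, dl_apply, mul_ite, mul_one, mul_zero]

/-- The action of a circuit on codes of Pauli elements. -/
def conjNL : List (Gate n) → ℕ → ℕ
  | [], x => x
  | g :: L, x => conjNL L (conjN g x)

theorem dec_conjNL (L : List (Gate n)) (x : ℕ) : dec n (conjNL L x) = conjL L (dec n x) := by
  induction L generalizing x with
  | nil => rfl
  | cons g L ih =>
    show dec n (conjNL L (conjN g x)) = conjL L (g.conj (dec n x))
    rw [ih, dec_conjN]

theorem dec_X (i : Fin n) : dec n (2 ^ (n + i.val)) = ⟨0, dl i, 0⟩ := by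
  have h : ∀ m t : ℕ, bit (2 ^ m) t = if t = m then 1 else 0 := by
    intro m t
    have := bit_b1_shiftLeft 1 0 m t
    simpa [b1, bit_one, Nat.one_shiftLeft] using this
  have hi := i.2
  ext k
  · have : 2 * n ≠ n + i.val := by omega
    simp only [dec, h, this, if_false]
  · have h1 : (n + k.val = n + i.val) = (k.val = i.val) := by
      apply propext; omega
    simp only [dec, h, dl_apply, h1]
  · have hk := k.2
    have : k.val ≠ n + i.val := by omega
    simp only [dec, h, this, if_false, Pi.zero_apply]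

theorem dec_Z (i : Fin n) : dec n (2 ^ i.val) = ⟨0, 0, dl i⟩ := by
  have h : ∀ m t : ℕ, bit (2 ^ m) t = if t = m then 1 else 0 := by
    intro m t
    have := bit_b1_shiftLeft 1 0 m t
    simpa [b1, bit_one, Nat.one_shiftLeft] using this
  have hi := i.2
  ext k
  · have : 2 * n ≠ i.val := by omega
    simp only [dec, h, this, if_false]
  · have : n + k.val ≠ i.val := by omega
    simp only [dec, h, this, if_false, Pi.zero_apply]
  · simp only [dec, h, dl_apply]

theorem vec_dot_vec (x y : ℕ) : vec n x ⬝ᵥ vec n y = ∑ i ∈ Finset.range n, bit (x &&& y) i := by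
  unfold dotProduct
  rw [Finset.sum_range]
  apply Finset.sum_congr rfl
  intro i _
  exact (bit_and x y i).symm

/-- Parity of the number of ones of a number below `2^32`. -/
def par32 (x : ℕ) : ℕ :=
  let x := x ^^^ (x >>> 16)
  let x := x ^^^ (x >>> 8)
  let x := x ^^^ (x >>> 4)
  let x := x ^^^ (x >>> 2)
  let x := x ^^^ (x >>> 1)
  x &&& 1

theorem bit_par32 (x : ℕ) (t : ℕ) :
    bit (par32 x) t = if t = 0 then ∑ i ∈ Finset.range 32, bit x i else 0 := by
  unfold par32
  simp only
  rw [bit_and, bit_one]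
  split_ifs with h
  · subst h
    simp only [bit_xor, bit_shiftRight, Finset.sum_range_succ, Finset.sum_range_zero, mul_one]
    norm_num
    abel
  · simp

theorem bit_par32_shiftLeft (x m t : ℕ) :
    bit (par32 x <<< m) t = if t = m then ∑ i ∈ Finset.range 32, bit x i else 0 := by
  rw [bit_shiftLeft, bit_par32]
  by_cases h : t = m
  · subst h; simp
  · by_cases h' : m ≤ t
    · have : t - m ≠ 0 := by omega
      simp [h, h', this]
    · simp [h, h']

theorem sum_range_32 {x : ℕ} (hn : n ≤ 32) (hx : x < 2 ^ n) :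
    ∑ i ∈ Finset.range 32, bit x i = ∑ i ∈ Finset.range n, bit x i := by
  symm
  apply Finset.sum_subset
  · intro i hi
    rw [Finset.mem_range] at hi ⊢
    omega
  · intro i _ hi
    rw [Finset.mem_range] at hi
    apply bit_eq_zero_of_lt
    exact lt_of_lt_of_le hx (Nat.pow_le_pow_right (by norm_num) (by omega))

/-- Multiplication of codes of Pauli elements (`n ≤ 32`). -/
def mulN (n x y : ℕ) : ℕ :=
  x ^^^ y ^^^ (par32 ((x &&& (2 ^ n - 1)) &&& (y >>> n)) <<< (2 * n))

theorem dec_mulN (hn : n ≤ 32) (x y : ℕ) : dec n (mulN n x y) = dec n x * dec n y := by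
  have hlt : (x &&& (2 ^ n - 1)) &&& (y >>> n) < 2 ^ n := by
    refine lt_of_le_of_lt Nat.and_le_left ?_
    rw [Nat.and_two_pow_sub_one_eq_mod]
    exact Nat.mod_lt _ (by positivity)
  ext k
  · simp only [dec, mulN, Pauli.mul_s, bit_xor, bit_par32_shiftLeft, if_true]
    rw [sum_range_32 hn hlt]
    congr 1
    unfold dotProduct
    rw [Finset.sum_range]
    apply Finset.sum_congr rfl
    intro i _
    have h1 : bit (2 ^ n - 1) i = 1 := by
      simp [bit, Nat.testBit_two_pow_sub_one]
    simp only [bit_and, bit_shiftRight, h1, mul_one]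
  · have hk := k.2
    have h0 : n + k.val ≠ 2 * n := by omega
    simp only [dec, mulN, Pauli.mul_a, bit_xor, bit_par32_shiftLeft, h0, if_false, add_zero,
      Pi.add_apply]
  · have hk := k.2
    have h0 : k.val ≠ 2 * n := by omega
    simp only [dec, mulN, Pauli.mul_b, bit_xor, bit_par32_shiftLeft, h0, if_false, add_zero,
      Pi.add_apply]

end dec

section ext

/-- Two homomorphisms out of the Pauli group which agree on `z`, the `X_i` and the `Z_i` are
equal. -/
theorem hom_ext {G : Type*} [Group G] {f g : Pauli n →* G} (hz : f (Pauli.z n) = g (Pauli.z n))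
    (hX : ∀ i, f ⟨0, dl i, 0⟩ = g ⟨0, dl i, 0⟩) (hZ : ∀ i, f ⟨0, 0, dl i⟩ = g ⟨0, 0, dl i⟩) :
    f = g := by
  have hs : ∀ s, f ⟨s, 0, 0⟩ = g ⟨s, 0, 0⟩ := by
    intro s
    rcases zmod2_cases s with rfl | rfl
    · exact (map_one f).trans (map_one g).symm
    · exact hz
  have hA : ∀ S : Finset (Fin n), f ⟨0, ∑ i ∈ S, dl i, 0⟩ = g ⟨0, ∑ i ∈ S, dl i, 0⟩ := by
    intro S
    induction S using Finset.induction_on with
    | empty => simpa using hs 0
    | insert i S hi ih =>
      have : (⟨0, ∑ j ∈ insert i S, dl j, 0⟩ : Pauli n) =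
          ⟨0, dl i, 0⟩ * ⟨0, ∑ j ∈ S, dl j, 0⟩ := by
        rw [Finset.sum_insert hi]
        ext k <;> simp
      rw [this, map_mul, map_mul, hX, ih]
  have hB : ∀ S : Finset (Fin n), f ⟨0, 0, ∑ i ∈ S, dl i⟩ = g ⟨0, 0, ∑ i ∈ S, dl i⟩ := by
    intro S
    induction S using Finset.induction_on with
    | empty => simpa using hs 0
    | insert i S hi ih =>
      have : (⟨0, 0, ∑ j ∈ insert i S, dl j⟩ : Pauli n) =
          ⟨0, 0, dl i⟩ * ⟨0, 0, ∑ j ∈ S, dl j⟩ := by
        rw [Finset.sum_insert hi]
        ext k <;> simp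
      rw [this, map_mul, map_mul, hZ, ih]
  have hv : ∀ v : B n, v = ∑ i ∈ Finset.univ.filter (fun i => v i = 1), dl i := by
    intro v
    funext k
    rw [Finset.sum_apply, Finset.sum_filter]
    rw [Finset.sum_eq_single k]
    · rcases zmod2_cases (v k) with h | h
      · rw [h]; simp
      · rw [h]; simp
    · intro i _ hik
      rw [dl_ne (Ne.symm hik)]; simp
    · intro h; exact absurd (Finset.mem_univ _) h
  apply MonoidHom.ext
  intro x
  have hx : x = ⟨x.s, 0, 0⟩ * (⟨0, x.a, 0⟩ * ⟨0, 0, x.b⟩) := by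
    ext i <;> simp
  rw [hx, map_mul, map_mul, map_mul, map_mul, hs, hv x.a, hv x.b, hA, hB]

theorem aut_ext {α β : Pauli n ≃* Pauli n} (hX : ∀ i, α ⟨0, dl i, 0⟩ = β ⟨0, dl i, 0⟩)
    (hZ : ∀ i, α ⟨0, 0, dl i⟩ = β ⟨0, 0, dl i⟩) : α = β := by
  have := hom_ext (f := α.toMonoidHom) (g := β.toMonoidHom)
    (by show α _ = β _; rw [aut_z, aut_z]) hX hZ
  apply MulEquiv.ext
  intro x
  exact DFunLike.congr_fun this x

/-- `T` is determined up to sign by the automorphism. -/
theorem clif_unique {R : Type*} [CommRing R] [IsDomain R] (h2 : (2 : R) ≠ 0)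
    {p q : (Pauli n ≃* Pauli n) × ((B n → R) ≃ₗ[R] (B n → R))} (hp : p ∈ clif n R)
    (hq : q ∈ clif n R) (h : p.1 = q.1) : p.2 = q.2 ∨ ∀ f, p.2 f = - q.2 f := by
  obtain ⟨y, hy⟩ := exists_inn h2 (mul_mem hp (inv_mem hq)) (by
    intro x
    have : (p * q⁻¹).1 = 1 := by rw [Prod.fst_mul, Prod.fst_inv, h, mul_inv_cancel]
    rw [this]
    exact ⟨rfl, rfl⟩)
  have h1 : MulAut.conj y = 1 := by
    have := congrArg Prod.fst hy
    rw [Prod.fst_mul, Prod.fst_inv, h, mul_inv_cancel] at this
    exact this.symm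
  have hyc : y ∈ Subgroup.center (Pauli n) := by
    rw [Subgroup.mem_center_iff]
    intro x
    have := DFunLike.congr_fun h1 x
    rw [MulAut.conj_apply, MulAut.one_apply, mul_inv_eq_iff_eq_mul] at this
    exact this.symm
  have hpq : p.2 = rho R y * q.2 := by
    have := congrArg Prod.snd hy
    rw [Prod.snd_mul, Prod.snd_inv, mul_inv_eq_iff_eq_mul] at this
    exact this
  rcases (Pauli.mem_center_iff' y).mp hyc with rfl | rfl
  · left
    rw [hpq, map_one, one_mul]
  · right
    intro f
    rw [hpq]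
    exact rho_z R (q.2 f)

end ext

end Cfsg.Agent.Monster.PauliBits
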