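/-
Lanewise arithmetic on the bit planes of `VecEngine`, evaluated by the kernel: differences, lanewise products,
broadcast of one lane, masks of level sets, sums over all lanes (in particular dot products and the number of
elements of a level set).
-/
import Cfsg.Agent.Monster.VecEngine

set_option autoImplicit false

namespace Cfsg.Agent.Monster.PlaneArith

open Cfsg.Agent.Monster.VecEngine

/-! ### Bits -/

theorem bt_zero (i : ℕ) : bt 0 i = 0 := by simp [bt]

theorem bt_and (p q i : ℕ) : bt (Nat.land p q) i = bt p i * bt q i := by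
  show bt (p &&& q) i = _
  simp only [bt, Nat.testBit_and]
  cases p.testBit i <;> cases q.testBit i <;> rfl

theorem bt_or (p q i : ℕ) : bt (Nat.lor p q) i = bt p i + bt q i - bt p i * bt q i := by
  show bt (p ||| q) i = _
  simp only [bt, Nat.testBit_or]
  cases p.testBit i <;> cases q.testBit i <;> rfl

theorem bt_shiftRight (p h i : ℕ) : bt (Nat.shiftRight p h) i = bt p (i + h) := by
  show bt (p >>> h) i = _
  simp only [bt, Nat.testBit_shiftRight, Nat.add_comm h i]

theorem bt_mod (p h i : ℕ) (hi : i < h) : bt (Nat.mod p (Nat.pow 2 h)) i = bt p i := by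
  show bt (p % 2 ^ h) i = _
  simp only [bt, Nat.testBit_mod_two_pow, hi, decide_true, Bool.true_and]

/-- The mask with the lanes `0, …, n - 1`. -/
noncomputable def full (n : ℕ) : ℕ := Nat.sub (Nat.pow 2 n) 1

theorem testBit_full (n i : ℕ) : (full n).testBit i = decide (i < n) := by
  show (2 ^ n - 1).testBit i = _
  rw [Nat.testBit_two_pow_sub_one]

theorem bt_full (n i : ℕ) (h : i < n) : bt (full n) i = 1 := by
  simp only [bt, testBit_full, h, decide_true, if_true]

/-! ### Differences -/

/-- `X + Y`. -/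
noncomputable def plus (X Y : Pl) : Pl := norm (add X Y 0)

theorem val_plus (X Y : Pl) (i : ℕ) : val (plus X Y) i = val X i + val Y i := by
  unfold plus; rw [val_norm, val_add, bt_zero, add_zero]

/-- `- X`. -/
noncomputable def minus (X : Pl) : Pl := ng (full 0) X 0

/-- `X - Y` in the lanes `< n`. -/
noncomputable def sub (n : ℕ) (X Y : Pl) : Pl := norm (add X (neg (full n) Y) 0)

theorem val_sub (n : ℕ) (X Y : Pl) (i : ℕ) (h : i < n) : val (sub n X Y) i = val X i - val Y i := by
  unfold sub; rw [val_norm, val_add, bt_zero, add_zero, val_neg, testBit_full, decide_eq_true h, if_pos rfl]; ring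

/-! ### Products -/

/-- Lanewise product. -/
noncomputable def mul (X Y : Pl) : Pl :=
  Pl.rec (motive := fun _ => Pl) (fun s => neg s (msk s Y))
    (fun p _ ih => norm (add (msk p Y) (.cons 0 ih) 0)) X

theorem val_mul (X Y : Pl) (i : ℕ) : val (mul X Y) i = val X i * val Y i := by
  induction X with
  | sgn s =>
    show val (neg s (msk s Y)) i = _
    rw [val_neg, val_msk, val_sgn]
    simp only [bt]
    split_ifs <;> ring
  | cons p L ih =>
    show val (norm (add (msk p Y) (.cons 0 (mul L Y)) 0)) i = _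
    rw [val_norm, val_add, val_msk, val_cons, ih, val_cons, bt_zero]
    simp only [bt]
    split_ifs <;> ring

/-- The constant vector (lanes `< n`) with the value of lane `j` of `X`. -/
noncomputable def bcast (n j : ℕ) (X : Pl) : Pl :=
  Pl.rec (motive := fun _ => Pl)
    (fun s => seqP (Nat.mul (full n) (Nat.land (Nat.shiftRight s j) 1)) fun u => .sgn u)
    (fun p _ ih => seqP (Nat.mul (full n) (Nat.land (Nat.shiftRight p j) 1)) fun u => .cons u ih) X

theorem bt_bcast (n j p i : ℕ) (h : i < n) :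
    bt (Nat.mul (full n) (Nat.land (Nat.shiftRight p j) 1)) i = bt p j := by
  show bt (full n * ((p >>> j) &&& 1)) i = _
  have h1 : (p >>> j) &&& 1 = if p.testBit j then 1 else 0 := by
    have : p.testBit j = decide ((p >>> j) % 2 = 1) := by
      rw [← Nat.testBit_zero, Nat.testBit_shiftRight, Nat.add_zero]
    rw [Nat.and_one_is_mod, this]
    have h2 := Nat.mod_two_eq_zero_or_one (p >>> j)
    rcases h2 with h2 | h2 <;> simp [h2]
  rw [h1]
  by_cases h3 : p.testBit j = true
  · rw [if_pos h3, mul_one, bt_full n i h]; simp [bt, h3]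
  · rw [if_neg h3, mul_zero, bt_zero]; simp [bt, h3]

theorem val_bcast (n j : ℕ) (X : Pl) (i : ℕ) (h : i < n) : val (bcast n j X) i = val X j := by
  induction X with
  | sgn s =>
    show val (seqP _ fun u => .sgn u) i = _
    rw [seqP_eq, val_sgn, bt_bcast n j s i h, val_sgn]
  | cons p L ih =>
    show val (seqP _ fun u => .cons u (bcast n j L)) i = _
    rw [seqP_eq, val_cons, bt_bcast n j p i h, ih, val_cons]

/-! ### Level sets -/

/-- The mask of the nonzero lanes. -/
noncomputable def nz (X : Pl) : ℕ := Pl.rec (motive := fun _ => ℕ) (fun s => s) (fun p _ ih => Nat.lor p ih) X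

theorem testBit_nz (X : Pl) (i : ℕ) : (nz X).testBit i = true ↔ val X i ≠ 0 := by
  induction X with
  | sgn s =>
    show s.testBit i = true ↔ - bt s i ≠ 0
    simp only [bt]
    cases s.testBit i <;> simp
  | cons p L ih =>
    show (p ||| nz L).testBit i = true ↔ bt p i + 2 * val L i ≠ 0
    rw [Nat.testBit_or, Bool.or_eq_true, ih]
    simp only [bt]
    cases p.testBit i
    · simp
    · simp only [true_or, if_true, true_iff]; omega

/-- The mask of the lanes `< n` where `X` and `Y` agree. -/
noncomputable def eqm (n : ℕ) (X Y : Pl) : ℕ := Nat.xor (full n) (Nat.land (full n) (nz (sub n X Y)))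

theorem testBit_eqm (n : ℕ) (X Y : Pl) (i : ℕ) :
    (eqm n X Y).testBit i = true ↔ i < n ∧ val X i = val Y i := by
  show ((full n) ^^^ ((full n) &&& (nz (sub n X Y)))).testBit i = true ↔ _
  rw [Nat.testBit_xor, Nat.testBit_and, testBit_full]
  by_cases h : i < n
  · have h1 := testBit_nz (sub n X Y) i
    rw [val_sub n X Y i h] at h1
    by_cases h2 : val X i = val Y i
    · have : ¬ ((nz (sub n X Y)).testBit i = true) := fun h3 => (h1.1 h3) (sub_eq_zero.2 h2)
      simp [h, h2, this]
    · have : (nz (sub n X Y)).testBit i = true := h1.2 (sub_ne_zero.2 h2)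
      simp [h, h2, this]
  · simp [h]

/-- The constant `c` (lanes `< n`), `c` given by a number of planes `k` and `c + 2 ^ k ≥ 0`. -/
noncomputable def cst (n k : ℕ) (c : ℕ) : Pl :=
  Nat.rec (motive := fun _ => ℕ → Pl) (fun c => .sgn (Nat.mul (full n) (Nat.mod c 2)))
    (fun _ ih c => .cons (Nat.mul (full n) (Nat.mod c 2)) (ih (Nat.div c 2))) k c

theorem bt_mul_full (n b i : ℕ) (h : i < n) (hb : b < 2) : bt (full n * b) i = b := by
  interval_cases b
  · simp [bt_zero]
  · rw [mul_one, bt_full n i h]; rfl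

/-- `cst n k c` has the value `c` for `c < 2 ^ k`, and `c - 2 ^ (k + 1)` for `2 ^ k ≤ c < 2 ^ (k + 1)`. -/
theorem val_cst (n k c i : ℕ) (h : i < n) (hc : c < 2 ^ (k + 1)) :
    val (cst n k c) i = if c < 2 ^ k then (c : ℤ) else (c : ℤ) - 2 ^ (k + 1) := by
  induction k generalizing c with
  | zero =>
    show - bt (full n * (c % 2)) i = _
    rw [bt_mul_full n _ i h (Nat.mod_lt _ (by norm_num))]
    have : c < 2 := by simpa using hc
    interval_cases c <;> simp
  | succ k ih =>
    show bt (full n * (c % 2)) i + 2 * val (cst n k (c / 2)) i = _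
    have h2 : c / 2 < 2 ^ (k + 1) := by
      rw [Nat.div_lt_iff_lt_mul (by norm_num)]; rw [pow_succ] at hc; exact hc
    rw [bt_mul_full n _ i h (Nat.mod_lt _ (by norm_num)), ih _ h2]
    have h3 : (c : ℤ) = ((c % 2 : ℕ) : ℤ) + 2 * ((c / 2 : ℕ) : ℤ) := by
      have := Nat.mod_add_div c 2
      exact_mod_cast this.symm
    by_cases h4 : c / 2 < 2 ^ k
    · have h5 : c < 2 ^ (k + 1) := by
        rw [pow_succ]; rw [Nat.div_lt_iff_lt_mul (by norm_num)] at h4; exact h4
      rw [if_pos h4, if_pos h5]; linarith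
    · have h5 : ¬ c < 2 ^ (k + 1) := by
        intro h6; apply h4; rw [Nat.div_lt_iff_lt_mul (by norm_num)]; rw [pow_succ] at h6; exact h6
      rw [if_neg h4, if_neg h5]
      have h6 : (2 : ℤ) ^ (k + 1 + 1) = 2 * 2 ^ (k + 1) := by ring
      rw [h6]; linarith

/-! ### Sums over all lanes -/

/-- The planes modulo `2 ^ h`. -/
noncomputable def low (h : ℕ) (X : Pl) : Pl :=
  Pl.rec (motive := fun _ => Pl) (fun s => seqP (Nat.mod s (Nat.pow 2 h)) fun u => .sgn u)
    (fun p _ ih => seqP (Nat.mod p (Nat.pow 2 h)) fun u => .cons u ih) X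

theorem val_low (h : ℕ) (X : Pl) (i : ℕ) (hi : i < h) : val (low h X) i = val X i := by
  induction X with
  | sgn s =>
    show val (seqP _ fun u => .sgn u) i = _
    rw [seqP_eq, val_sgn, bt_mod s h i hi, val_sgn]
  | cons p L ih =>
    show val (seqP _ fun u => .cons u (low h L)) i = _
    rw [seqP_eq, val_cons, bt_mod p h i hi, ih, val_cons]

/-- Shift of the lanes. -/
noncomputable def shr (h : ℕ) (X : Pl) : Pl :=
  Pl.rec (motive := fun _ => Pl) (fun s => seqP (Nat.shiftRight s h) fun u => .sgn u)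
    (fun p _ ih => seqP (Nat.shiftRight p h) fun u => .cons u ih) X

theorem val_shr (h : ℕ) (X : Pl) (i : ℕ) : val (shr h X) i = val X (i + h) := by
  induction X with
  | sgn s =>
    show val (seqP _ fun u => .sgn u) i = _
    rw [seqP_eq, val_sgn, bt_shiftRight, val_sgn]
  | cons p L ih =>
    show val (seqP _ fun u => .cons u (shr h L)) i = _
    rw [seqP_eq, val_cons, bt_shiftRight, ih, val_cons]

/-- Continue with the sum over the lanes `< 2 ^ k` in lane `0`. -/
noncomputable def tot (k : ℕ) : Pl → (Pl → Bool) → Bool :=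
  Nat.rec (motive := fun _ => Pl → (Pl → Bool) → Bool) (fun X c => c X)
    (fun m ih X c => go (add (low (Nat.pow 2 m) X) (shr (Nat.pow 2 m) X) 0) fun Y => ih Y c) k

theorem tot_sound (k : ℕ) (X : Pl) (c : Pl → Bool) (h : tot k X c = true) :
    ∃ Y, val Y 0 = ∑ i ∈ Finset.range (2 ^ k), val X i ∧ c Y = true := by
  induction k generalizing X with
  | zero => exact ⟨X, by simp, h⟩
  | succ m ih =>
    have h' : go (add (low (2 ^ m) X) (shr (2 ^ m) X) 0) (fun Y => tot m Y c) = true := h
    rw [go_eq] at h'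
    obtain ⟨Y, hY, hc⟩ := ih _ h'
    refine ⟨Y, ?_, hc⟩
    rw [hY]
    have h1 : ∑ i ∈ Finset.range (2 ^ m), val (norm (add (low (2 ^ m) X) (shr (2 ^ m) X) 0)) i =
        ∑ i ∈ Finset.range (2 ^ m), (val X i + val X (2 ^ m + i)) := by
      refine Finset.sum_congr rfl fun i hi => ?_
      rw [val_norm, val_add, bt_zero, add_zero, val_low _ _ _ (Finset.mem_range.1 hi), val_shr,
        Nat.add_comm i]
    rw [h1, Finset.sum_add_distrib, pow_succ, Nat.mul_two, Finset.sum_range_add]

/-- The value of lane `0` is `c` (with `k` planes and sign, see `val_cst`). -/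
noncomputable def isv (k c : ℕ) (Y : Pl) : Bool :=
  Nat.beq (Nat.land (nz (sub 1 Y (cst 1 k c))) 1) 0

theorem isv_sound {k c : ℕ} {Y : Pl} (hc : c < 2 ^ k) (h : isv k c Y = true) : val Y 0 = c := by
  have h1 : (nz (sub 1 Y (cst 1 k c))) &&& 1 = 0 := Nat.eq_of_beq_eq_true h
  by_contra hne
  have h2 : (nz (sub 1 Y (cst 1 k c))).testBit 0 = true := by
    rw [testBit_nz, val_sub _ _ _ _ (by norm_num), val_cst _ _ _ _ (by norm_num)
      (lt_trans hc (Nat.pow_lt_pow_right (by norm_num) (Nat.lt_succ_self k))), if_pos hc]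
    exact sub_ne_zero.2 hne
  have h3 := congrArg (fun x => Nat.testBit x 0) h1
  simp only [Nat.testBit_and, h2, Nat.zero_testBit] at h3
  exact absurd h3 (by decide)

theorem isv_sound_neg {k c : ℕ} {Y : Pl} (hc1 : 2 ^ k ≤ c) (hc : c < 2 ^ (k + 1))
    (h : isv k c Y = true) : val Y 0 = c - 2 ^ (k + 1) := by
  have h1 : (nz (sub 1 Y (cst 1 k c))) &&& 1 = 0 := Nat.eq_of_beq_eq_true h
  by_contra hne
  have h2 : (nz (sub 1 Y (cst 1 k c))).testBit 0 = true := by
    rw [testBit_nz, val_sub _ _ _ _ (by norm_num), val_cst _ _ _ _ (by norm_num) hc,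
      if_neg (not_lt.2 hc1)]
    exact sub_ne_zero.2 hne
  have h3 := congrArg (fun x => Nat.testBit x 0) h1
  simp only [Nat.testBit_and, h2, Nat.zero_testBit] at h3
  exact absurd h3 (by decide)

/-- Check that the sum over the lanes `< 2 ^ m` is `c < 2 ^ k`. -/
noncomputable def sumIs (m k c : ℕ) (X : Pl) : Bool := tot m X (isv k c)

theorem sumIs_sound {m k c : ℕ} {X : Pl} (hc : c < 2 ^ k) (h : sumIs m k c X = true) :
    ∑ i ∈ Finset.range (2 ^ m), val X i = c := by
  obtain ⟨Y, hY, hc'⟩ := tot_sound m X _ h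
  rw [← hY, isv_sound hc hc']

theorem sumIs_sound_neg {m k c : ℕ} {X : Pl} (hc1 : 2 ^ k ≤ c) (hc : c < 2 ^ (k + 1))
    (h : sumIs m k c X = true) :
    ∑ i ∈ Finset.range (2 ^ m), val X i = (c : ℤ) - 2 ^ (k + 1) := by
  obtain ⟨Y, hY, hc'⟩ := tot_sound m X _ h
  rw [← hY, isv_sound_neg hc1 hc hc']

/-- Number of lanes (`< 2 ^ m`) of a mask. -/
noncomputable def cardIs (m k c : ℕ) (P : ℕ) : Bool := sumIs m k c (.cons P (.sgn 0))

theorem cardIs_sound {m k c P : ℕ} (hc : c < 2 ^ k) (h : cardIs m k c P = true) :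
    ((Finset.range (2 ^ m)).filter (fun i => P.testBit i = true)).card = c := by
  have h1 := sumIs_sound hc h
  have h2 : ∑ i ∈ Finset.range (2 ^ m), val (.cons P (.sgn 0)) i =
      (((Finset.range (2 ^ m)).filter (fun i => P.testBit i = true)).card : ℤ) := by
    rw [Finset.card_eq_sum_ones, Finset.sum_filter, Nat.cast_sum]
    refine Finset.sum_congr rfl fun i _ => ?_
    rw [val_cons, val_sgn, bt_zero]
    simp only [bt]
    split_ifs <;> simp
  rw [h2] at h1
  exact_mod_cast h1

end Cfsg.Agent.Monster.PlaneArith
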