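import Mathlib

/-!
Abstract closure and counting lemmas for a group `G = ⟨K, s, …⟩` acting on a set of "axes" (Baby Monster, Monster).

* `closed_of_cover`, `cover_of_action`, `invariant_of_gens`: closure of a union of orbits.
* `balance`: ratios of `K`-orbit lengths from the closure data (no stabilisers needed).
-/

set_option autoImplicit false

namespace Cfsg.Agent.Monster.Abstract

section Closure

variable {G V : Type*} [Group G] [MulAction G V]

/-- union of the `H`-orbits of the points `w k` -/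
def orbs (H : Subgroup G) {ι : Type*} (w : ι → V) : Set V := {x | ∃ k, ∃ h ∈ H, x = h • w k}

theorem smul_mem_orbs (H : Subgroup G) {ι : Type*} (w : ι → V) {h : G} (hh : h ∈ H) {x : V}
    (hx : x ∈ orbs H w) : h • x ∈ orbs H w := by
  obtain ⟨k, h', hh', rfl⟩ := hx
  exact ⟨k, h * h', H.mul_mem hh hh', by rw [mul_smul]⟩

theorem mem_orbs (H : Subgroup G) {ι : Type*} (w : ι → V) (k : ι) : w k ∈ orbs H w :=
  ⟨k, 1, H.one_mem, (one_smul _ _).symm⟩

/-- Closure of a union of `H`-orbits under an extra element `s`: it is enough to check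
`s • r • w k` for representatives `r` of the double cosets `Hs \ H / L k`, where `s Hs s⁻¹ ≤ H` and `L k` fixes
`w k`. -/
theorem closed_of_cover (H Hs : Subgroup G) {ι : Type*} (w : ι → V) (s : G)
    (hs : ∀ h ∈ Hs, s * h * s⁻¹ ∈ H) (L : ι → Subgroup G)
    (hL : ∀ k, ∀ l ∈ L k, l • w k = w k) (R : ι → Set G)
    (cover : ∀ k, ∀ h ∈ H, ∃ h1 ∈ Hs, ∃ r ∈ R k, ∃ l ∈ L k, h = h1 * r * l)
    (ident : ∀ k, ∀ r ∈ R k, s • r • w k ∈ orbs H w) :
    ∀ x ∈ orbs H w, s • x ∈ orbs H w := by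
  rintro _ ⟨k, h, hh, rfl⟩
  obtain ⟨h1, hh1, r, hr, l, hl, rfl⟩ := cover k h hh
  have e : s • (h1 * r * l) • w k = (s * h1 * s⁻¹) • (s • r • w k) := by
    rw [mul_smul (h1 * r) l, hL k l hl, ← mul_smul, ← mul_smul, ← mul_smul]
    congr 1
    group
  rw [e]
  exact smul_mem_orbs H w (hs h1 hh1) (ident k r hr)

/-- Double coset covers from an action of `H` on a set `Y`: it is enough to find, for every `y` in the
`H`-orbit of `y0`, an element `l ∈ L` and `r ∈ R` with `y = l • r⁻¹ • y0`. -/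
theorem cover_of_action {Y : Type*} (H Hs : Subgroup G) [MulAction H Y] (y0 : Y)
    (hstab : ∀ h : H, h • y0 = y0 → (h : G) ∈ Hs) (L : Subgroup G) (R : Set G)
    (hcov : ∀ h : H, ∃ r : H, (r : G) ∈ R ∧ ∃ l : H, (l : G) ∈ L ∧ h • y0 = l • r⁻¹ • y0) :
    ∀ h ∈ H, ∃ h1 ∈ Hs, ∃ r ∈ R, ∃ l ∈ L, h = h1 * r * l := by
  intro h hh
  obtain ⟨r, hr, l, hl, e⟩ := hcov (⟨h, hh⟩⁻¹ : H)
  refine ⟨h * l * (r : G)⁻¹, ?_, r, hr, (l : G)⁻¹, L.inv_mem hl, by group⟩
  have := hstab (⟨h, hh⟩ * l * r⁻¹) ?_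
  · simpa using this
  · rw [mul_smul, mul_smul, ← e, ← mul_smul, mul_inv_cancel, one_smul]

theorem invariant_of_gens (A : Set G) (hA : Subgroup.closure A = ⊤) (X : Set V) (hfin : X.Finite)
    (h : ∀ s ∈ A, ∀ x ∈ X, s • x ∈ X) : ∀ g : G, ∀ x ∈ X, g • x ∈ X := by
  have hinv : ∀ s ∈ A, ∀ x ∈ X, s⁻¹ • x ∈ X := by
    intro s hs x hx
    have himg : (fun y => s • y) '' X = X :=
      Set.eq_of_subset_of_ncard_le (by rintro _ ⟨y, hy, rfl⟩; exact h s hs y hy)
        (by rw [Set.ncard_image_of_injective _ (MulAction.injective s)]) hfin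
    rw [← himg] at hx
    obtain ⟨y, hy, rfl⟩ := hx
    simpa using hy
  intro g
  have hg : g ∈ Subgroup.closure A := by rw [hA]; trivial
  induction hg using Subgroup.closure_induction_left with
  | one => intro x hx; simpa using hx
  | mul_left x hx y hy ih =>
    intro p hp
    rw [mul_smul]
    exact h x hx _ (ih p hp)
  | inv_mul_cancel x hx y hy ih =>
    intro p hp
    rw [mul_smul]
    exact hinv x hx _ (ih p hp)

end Closure

section Balance

variable {G V : Type*} [Group G] [MulAction G V]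

/-- The set of points of the `K`-orbit of `b` which `s` maps into the `K`-orbit of `c`. -/
def trans (K : Subgroup G) (s : G) (b c : V) : Set V :=
  {x | x ∈ MulAction.orbit K b ∧ s • x ∈ MulAction.orbit K c}

/-- the points `y = k y0` of `Y` such that `s k⁻¹ b` is in the `K`-orbit of `c` -/
def nbrs (K : Subgroup G) {Y : Type*} [MulAction K Y] (y0 : Y) (s : G) (b c : V) : Set Y :=
  {y | ∃ k : K, k • y0 = y ∧ s • k⁻¹ • b ∈ MulAction.orbit K c}

theorem nbrs_iff (K : Subgroup G) {Y : Type*} [MulAction K Y] (y0 : Y) (s : G)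
    (hs : ∀ k : K, k • y0 = y0 → s * k * s⁻¹ ∈ K) (b c : V) (k : K) :
    k • y0 ∈ nbrs K y0 s b c ↔ s • k⁻¹ • b ∈ MulAction.orbit K c := by
  constructor
  · rintro ⟨k', hk', h⟩
    have h0 : (k⁻¹ * k') • y0 = y0 := by rw [mul_smul, hk', ← mul_smul, inv_mul_cancel, one_smul]
    have h1 := hs _ h0
    have e : s • k⁻¹ • b = (⟨_, h1⟩ : K) • (s • k'⁻¹ • b) := by
      change s • ((k : G)⁻¹ • b) = (s * ((k⁻¹ * k' : K) : G) * s⁻¹) • (s • ((k' : G)⁻¹ • b))
      rw [← mul_smul, ← mul_smul, ← mul_smul]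
      congr 1
      push_cast
      group
    rw [e]
    exact (MulAction.mem_orbit_of_mem_orbit _ h)
  · intro h
    exact ⟨k, rfl, h⟩

/-- Counting pairs. -/
theorem card_orbit_mul_card_nbrs (K : Subgroup G) {Y : Type*} [MulAction K Y] [Finite Y] (y0 : Y)
    (htr : ∀ y : Y, ∃ k : K, k • y0 = y) (s : G)
    (hs : ∀ k : K, k • y0 = y0 → s * k * s⁻¹ ∈ K) (b c : V) [Finite (MulAction.orbit K b)] :
    Nat.card (MulAction.orbit K b) * Nat.card (nbrs K y0 s b c) =
      Nat.card Y * Nat.card (trans K s b c) := by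
  classical
  have : Finite (trans K s b c) :=
    Finite.of_injective (fun x : trans K s b c => (⟨x.1, x.2.1⟩ : MulAction.orbit K b))
      (fun x y h => Subtype.ext (congrArg (fun z : MulAction.orbit K b => (z : V)) h))
  have hx : ∀ x : MulAction.orbit K b, ∃ h : K, h • b = (x : V) := fun x => x.2
  choose hh hhx using hx
  choose kk hkk using htr
  -- the set of pairs
  have e1 : Nat.card {p : MulAction.orbit K b × Y // p.2 ∈ nbrs K y0 s (p.1 : V) c} =
      Nat.card (MulAction.orbit K b) * Nat.card (nbrs K y0 s b c) := by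
    rw [← Nat.card_prod]
    have key : ∀ (x : MulAction.orbit K b) (k : K),
        k • y0 ∈ nbrs K y0 s (x : V) c ↔ (hh x)⁻¹ • k • y0 ∈ nbrs K y0 s b c := by
      intro x k
      rw [← mul_smul, nbrs_iff K y0 s hs, nbrs_iff K y0 s hs, mul_inv_rev, inv_inv, mul_smul,
        hhx x]
    have key' : ∀ (x : MulAction.orbit K b) (y : Y),
        y ∈ nbrs K y0 s (x : V) c ↔ (hh x)⁻¹ • y ∈ nbrs K y0 s b c := by
      intro x y
      obtain ⟨k, rfl⟩ : ∃ k : K, k • y0 = y := ⟨kk y, hkk y⟩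
      exact key x k
    refine Nat.card_congr
      ⟨fun p => (p.1.1, ⟨(hh p.1.1)⁻¹ • p.1.2, (key' _ _).1 p.2⟩),
        fun q => ⟨(q.1, hh q.1 • (q.2 : Y)), (key' _ _).2 ?_⟩, ?_, ?_⟩
    · change (hh q.1)⁻¹ • hh q.1 • (q.2 : Y) ∈ _
      rw [← mul_smul, inv_mul_cancel, one_smul]
      exact q.2.2
    · rintro ⟨⟨x, y⟩, h⟩
      simp
    · rintro ⟨x, y⟩
      simp
  have e2 : Nat.card {p : MulAction.orbit K b × Y // p.2 ∈ nbrs K y0 s (p.1 : V) c} =
      Nat.card Y * Nat.card (trans K s b c) := by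
    rw [← Nat.card_prod]
    have key : ∀ (x : V) (y : Y),
        y ∈ nbrs K y0 s x c ↔ s • (kk y)⁻¹ • x ∈ MulAction.orbit K c := by
      intro x y
      have := nbrs_iff K y0 s hs x c (kk y)
      rwa [hkk y] at this
    refine Nat.card_congr
      ⟨fun p => (p.1.2, ⟨(kk p.1.2)⁻¹ • (p.1.1 : V), ?_, (key _ _).1 p.2⟩),
        fun q => ⟨(⟨kk q.1 • (q.2 : V), ?_⟩, q.1), (key _ _).2 ?_⟩, ?_, ?_⟩
    · exact MulAction.mem_orbit_of_mem_orbit _ p.1.1.2
    · exact MulAction.mem_orbit_of_mem_orbit _ q.2.2.1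
    · change s • (kk q.1)⁻¹ • kk q.1 • (q.2 : V) ∈ _
      rw [← mul_smul (kk q.1)⁻¹, inv_mul_cancel, one_smul]
      exact q.2.2.2
    · rintro ⟨⟨x, y⟩, h⟩
      simp
    · rintro ⟨y, x⟩
      simp
  rw [← e1, e2]

theorem card_trans_symm (K : Subgroup G) (s : G) (b c : V) :
    Nat.card (trans K s b c) = Nat.card (trans K s⁻¹ c b) := by
  refine Nat.card_congr ⟨fun x => ⟨s • (x : V), x.2.2, ?_⟩, fun x => ⟨s⁻¹ • (x : V), x.2.2, ?_⟩,
    ?_, ?_⟩
  · rw [← mul_smul, inv_mul_cancel, one_smul]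
    exact x.2.1
  · rw [← mul_smul, mul_inv_cancel, one_smul]
    exact x.2.1
  · intro x
    simp
  · intro x
    simp

theorem nbrs_eq (K : Subgroup G) {Y : Type*} [MulAction K Y] (y0 : Y)
    (s : G) (hs : ∀ k : K, k • y0 = y0 → s * k * s⁻¹ ∈ K)
    {ι : Type*} (b : ι → V) (hdisj : ∀ i j, b i ∈ MulAction.orbit K (b j) → i = j)
    (tgt : ι → Y → ι)
    (htgt : ∀ i y, ∃ k : K, k • y0 = y ∧ s • k⁻¹ • b i ∈ MulAction.orbit K (b (tgt i y)))
    (i j : ι) : nbrs K y0 s (b i) (b j) = {y | tgt i y = j} := by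
  ext y
  obtain ⟨k, rfl, hk⟩ := htgt i y
  rw [nbrs_iff K y0 s hs, Set.mem_ofPred_eq]
  constructor
  · intro h
    refine hdisj _ _ ?_
    rw [MulAction.mem_orbit_symm]
    rw [← MulAction.orbit_eq_iff] at h hk ⊢
    rw [← h, hk]
  · intro h
    rw [← h]
    exact hk

/-- **Detailed balance**: the ratios of the lengths of the `K`-orbits of the points `b i` are determined by the
closure data `tgt`, `tgt'` of `s` and `s⁻¹`. -/
theorem balance' (K : Subgroup G) {Y : Type*} [MulAction K Y] [Finite Y] (y0 : Y)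
    (htr : ∀ y : Y, ∃ k : K, k • y0 = y) (s : G)
    (hs : ∀ k : K, k • y0 = y0 → s * k * s⁻¹ ∈ K)
    (hs' : ∀ k : K, k • y0 = y0 → s⁻¹ * k * s ∈ K)
    {ι : Type*} (b : ι → V) (hdisj : ∀ i j, b i ∈ MulAction.orbit K (b j) → i = j)
    (hfin : ∀ i, Finite (MulAction.orbit K (b i)))
    (tgt tgt' : ι → Y → ι)
    (htgt : ∀ i y, ∃ k : K, k • y0 = y ∧ s • k⁻¹ • b i ∈ MulAction.orbit K (b (tgt i y)))
    (htgt' : ∀ i y, ∃ k : K, k • y0 = y ∧ s⁻¹ • k⁻¹ • b i ∈ MulAction.orbit K (b (tgt' i y)))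
    (i j : ι) :
    Nat.card (MulAction.orbit K (b i)) * Nat.card {y : Y // tgt i y = j} =
      Nat.card (MulAction.orbit K (b j)) * Nat.card {y : Y // tgt' j y = i} := by
  have := hfin i
  have := hfin j
  have h1 := card_orbit_mul_card_nbrs K y0 htr s hs (b i) (b j)
  have h2 := card_orbit_mul_card_nbrs K y0 htr s⁻¹ (by simpa using hs') (b j) (b i)
  rw [nbrs_eq K y0 s hs b hdisj tgt htgt] at h1
  rw [nbrs_eq K y0 s⁻¹ (by simpa using hs') b hdisj tgt' htgt'] at h2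
  rw [card_trans_symm, ← h2] at h1
  exact h1

/-- Symmetry of the neighbour counts when some `e ∈ K` normalising the stabiliser of `y0` inverts `s` modulo this
stabiliser. -/
theorem card_nbrs_inv (K : Subgroup G) {Y : Type*} [MulAction K Y] (y0 : Y)
    (htr : ∀ y : Y, ∃ k : K, k • y0 = y) (s : G)
    (hs : ∀ k : K, k • y0 = y0 → s * k * s⁻¹ ∈ K)
    (hs' : ∀ k : K, k • y0 = y0 → s⁻¹ * k * s ∈ K)
    (e n : K) (he : ∀ k : K, k • y0 = y0 ↔ (e⁻¹ * k * e) • y0 = y0) (hn : n • y0 = y0)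
    (hes : (e : G) * s * (e : G)⁻¹ = s⁻¹ * n) (b c : V) :
    Nat.card (nbrs K y0 s⁻¹ b c) = Nat.card (nbrs K y0 s b c) := by
  classical
  choose kk hkk using htr
  have hwd : ∀ (k : K), (kk (k • y0) * e) • y0 = (k * e) • y0 := by
    intro k
    have h0 : (k⁻¹ * kk (k • y0)) • y0 = y0 := by
      rw [mul_smul, hkk, ← mul_smul, inv_mul_cancel, one_smul]
    have h1 := (he _).1 h0
    have : kk (k • y0) * e = (k * e) * (e⁻¹ * (k⁻¹ * kk (k • y0)) * e) := by group
    rw [this, mul_smul (k * e), h1]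
  have hwd' : ∀ (k : K), (kk (k • y0) * e⁻¹) • y0 = (k * e⁻¹) • y0 := by
    intro k
    have h0 : (k⁻¹ * kk (k • y0)) • y0 = y0 := by
      rw [mul_smul, hkk, ← mul_smul, inv_mul_cancel, one_smul]
    have h1 : (e * (k⁻¹ * kk (k • y0)) * e⁻¹) • y0 = y0 := by
      rw [he]
      have : e⁻¹ * (e * (k⁻¹ * kk (k • y0)) * e⁻¹) * e = k⁻¹ * kk (k • y0) := by group
      rw [this]
      exact h0
    have : kk (k • y0) * e⁻¹ = (k * e⁻¹) * (e * (k⁻¹ * kk (k • y0)) * e⁻¹) := by group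
    rw [this, mul_smul (k * e⁻¹), h1]
  have hset : ∀ k : K, k • y0 ∈ nbrs K y0 s⁻¹ b c ↔ (k * e) • y0 ∈ nbrs K y0 s b c := by
    intro k
    have h1 : k • y0 = (k * n⁻¹) • y0 := by
      rw [mul_smul]
      congr 1
      exact (inv_smul_eq_iff.2 hn.symm).symm
    rw [h1, nbrs_iff K y0 s⁻¹ (by simpa using hs'), nbrs_iff K y0 s hs]
    have e3 : s • (k * e)⁻¹ • b = e⁻¹ • (s⁻¹ • (k * n⁻¹)⁻¹ • b) := by
      change s • (((k * e : K) : G)⁻¹ • b) = (e : G)⁻¹ • (s⁻¹ • (((k * n⁻¹ : K) : G)⁻¹ • b))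
      rw [← mul_smul, ← mul_smul, ← mul_smul]
      congr 1
      push_cast
      have h4 : s * (e : G)⁻¹ = (e : G)⁻¹ * (s⁻¹ * n) := by
        rw [← hes]
        group
      rw [mul_inv_rev, ← mul_assoc, h4, mul_inv_rev, inv_inv]
      group
    rw [e3]
    constructor
    · intro h
      exact MulAction.mem_orbit_of_mem_orbit _ h
    · intro h
      have := MulAction.mem_orbit_of_mem_orbit e h
      rwa [← mul_smul, mul_inv_cancel, one_smul] at this
  refine Nat.card_congr ⟨fun y => ⟨(kk y * e) • y0, ?_⟩, fun y => ⟨(kk y * e⁻¹) • y0, ?_⟩, ?_, ?_⟩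
  · rw [← hset, hkk]
    exact y.2
  · rw [hset, mul_assoc, inv_mul_cancel, mul_one, hkk]
    exact y.2
  · intro y
    apply Subtype.ext
    change (kk ((kk y * e) • y0) * e⁻¹) • y0 = y
    rw [hwd', mul_assoc, mul_inv_cancel, mul_one, hkk]
  · intro y
    apply Subtype.ext
    change (kk ((kk y * e⁻¹) • y0) * e) • y0 = y
    rw [hwd, mul_assoc, inv_mul_cancel, mul_one, hkk]

/-- Detailed balance, symmetric form. -/
theorem balance (K : Subgroup G) {Y : Type*} [MulAction K Y] [Finite Y] (y0 : Y)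
    (htr : ∀ y : Y, ∃ k : K, k • y0 = y) (s : G)
    (hs : ∀ k : K, k • y0 = y0 → s * k * s⁻¹ ∈ K)
    (hs' : ∀ k : K, k • y0 = y0 → s⁻¹ * k * s ∈ K)
    (e n : K) (he : ∀ k : K, k • y0 = y0 ↔ (e⁻¹ * k * e) • y0 = y0) (hn : n • y0 = y0)
    (hes : (e : G) * s * (e : G)⁻¹ = s⁻¹ * n)
    {ι : Type*} (b : ι → V) (hdisj : ∀ i j, b i ∈ MulAction.orbit K (b j) → i = j)
    (hfin : ∀ i, Finite (MulAction.orbit K (b i)))
    (tgt : ι → Y → ι)
    (htgt : ∀ i y, ∃ k : K, k • y0 = y ∧ s • k⁻¹ • b i ∈ MulAction.orbit K (b (tgt i y)))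
    (i j : ι) :
    Nat.card (MulAction.orbit K (b i)) * Nat.card {y : Y // tgt i y = j} =
      Nat.card (MulAction.orbit K (b j)) * Nat.card {y : Y // tgt j y = i} := by
  have := hfin i
  have := hfin j
  have h1 := card_orbit_mul_card_nbrs K y0 htr s hs (b i) (b j)
  have h2 := card_orbit_mul_card_nbrs K y0 htr s⁻¹ (by simpa using hs') (b j) (b i)
  rw [card_nbrs_inv K y0 htr s hs hs' e n he hn hes] at h2
  rw [nbrs_eq K y0 s hs b hdisj tgt htgt] at h1 h2
  rw [card_trans_symm, ← h2] at h1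
  exact h1

end Balance

end Cfsg.Agent.Monster.Abstract
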