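import Cfsg.Agent.Monster.AbstractOrder

/-!
Rigidity: an element of `G` which maps `a0` into `S` and is compatible with the partner map at `a0` preserves `S`.

`T a = {c ∈ X : F c a = v, F c (σ a) = v}` is contained in `S` and the partner `σ c` of `c ∈ T a` is recognisable
inside `T a`; the graph `a ~ c ↔ c ∈ T a` on `S` is connected.
-/

set_option autoImplicit false

namespace Cfsg.Agent.Monster.AbstractRigid

open scoped Pointwise

variable {G V α : Type*} [Group G] [MulAction G V]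

/-- the common `v`-neighbours of `a` and its partner -/
def T (F : V → V → α) (X : Set V) (σ : V → V) (v : α) (a : V) : Set V :=
  {c | c ∈ X ∧ F c a = v ∧ F c (σ a) = v}

/-- `c` and `d` have the same `v`-neighbours in the set `Z` -/
def Twin (F : V → V → α) (v : α) (Z : Set V) (c d : V) : Prop :=
  d ≠ c ∧ ∀ e ∈ Z, e ≠ c → e ≠ d → (F e c = v ↔ F e d = v)

theorem T_smul (F : V → V → α) (hF : ∀ (g : G) (x y : V), F (g • x) (g • y) = F x y) (X : Set V)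
    (hX : ∀ (g : G), ∀ x ∈ X, g • x ∈ X) (σ : V → V) (v : α) (a : V) (g : G)
    (hσ : g • σ a = σ (g • a)) (c : V) :
    g • c ∈ T F X σ v (g • a) ↔ c ∈ T F X σ v a := by
  unfold T
  simp only [Set.mem_ofPred_eq]
  rw [← hσ, hF, hF]
  constructor
  · rintro ⟨h1, h2⟩
    refine ⟨?_, h2⟩
    have := hX g⁻¹ _ h1
    rwa [inv_smul_smul] at this
  · rintro ⟨h1, h2⟩
    exact ⟨hX g _ h1, h2⟩

theorem Twin_smul (F : V → V → α) (hF : ∀ (g : G) (x y : V), F (g • x) (g • y) = F x y) (X : Set V)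
    (hX : ∀ (g : G), ∀ x ∈ X, g • x ∈ X) (σ : V → V) (v : α) (a : V) (g : G)
    (hσ : g • σ a = σ (g • a)) (c d : V) (h : Twin F v (T F X σ v a) c d) :
    Twin F v (T F X σ v (g • a)) (g • c) (g • d) := by
  refine ⟨fun e => h.1 (smul_left_cancel g e), fun e he h1 h2 => ?_⟩
  obtain ⟨e', rfl⟩ : ∃ e', e = g • e' := ⟨g⁻¹ • e, (smul_inv_smul _ _).symm⟩
  rw [hF, hF]
  exact h.2 e' ((T_smul F hF X hX σ v a g hσ e').1 he) (fun h3 => h1 (by rw [h3]))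
    (fun h3 => h2 (by rw [h3]))

/-- **Rigidity.** -/
theorem rigid (K : Subgroup G) (F : V → V → α)
    (hF : ∀ (g : G) (x y : V), F (g • x) (g • y) = F x y) (X S : Set V)
    (hX : ∀ (g : G), ∀ x ∈ X, g • x ∈ X) (σ : V → V) (v : α) (a0 : V) (ha0 : a0 ∈ S)
    (hKS : ∀ s ∈ S, ∃ k ∈ K, k • a0 = s) (hKS' : ∀ k ∈ K, ∀ s ∈ S, k • s ∈ S)
    (hσK : ∀ k ∈ K, ∀ s ∈ S, k • σ s = σ (k • s))
    (hT : ∀ c ∈ T F X σ v a0, c ∈ S)
    (hσT : ∀ c ∈ T F X σ v a0, σ c ∈ T F X σ v a0)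
    (htw : ∀ c ∈ T F X σ v a0, Twin F v (T F X σ v a0) c (σ c))
    (htw' : ∀ c ∈ T F X σ v a0, ∀ d ∈ T F X σ v a0, Twin F v (T F X σ v a0) c d → d = σ c)
    (conn : ∀ s ∈ S, Relation.ReflTransGen (fun a c => c ∈ T F X σ v a) a0 s)
    (g : G) (hg1 : g • a0 ∈ S) (hg2 : g • σ a0 = σ (g • a0)) :
    ∀ s ∈ S, g • s ∈ S ∧ g • σ s = σ (g • s) := by
  -- transport of the hypotheses from `a0` to `a ∈ S`
  have hT' : ∀ a ∈ S, ∀ c ∈ T F X σ v a, c ∈ S := by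
    intro a ha c hc
    obtain ⟨k, hk, rfl⟩ := hKS a ha
    have h1 := hT (k⁻¹ • c) ?_
    · have := hKS' k hk _ h1
      rwa [smul_inv_smul] at this
    · rw [← T_smul F hF X hX σ v a0 k (hσK k hk a0 ha0), smul_inv_smul]
      exact hc
  have hσT' : ∀ a ∈ S, ∀ c ∈ T F X σ v a, σ c ∈ T F X σ v a := by
    intro a ha c hc
    obtain ⟨k, hk, rfl⟩ := hKS a ha
    obtain ⟨c, rfl⟩ : ∃ c', c = k • c' := ⟨k⁻¹ • c, (smul_inv_smul _ _).symm⟩
    rw [T_smul F hF X hX σ v a0 k (hσK k hk a0 ha0)] at hc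
    rw [← hσK k hk c (hT c hc), T_smul F hF X hX σ v a0 k (hσK k hk a0 ha0)]
    exact hσT c hc
  have htwA : ∀ a ∈ S, ∀ c ∈ T F X σ v a, Twin F v (T F X σ v a) c (σ c) := by
    intro a ha c hc
    obtain ⟨k, hk, rfl⟩ := hKS a ha
    obtain ⟨c, rfl⟩ : ∃ c', c = k • c' := ⟨k⁻¹ • c, (smul_inv_smul _ _).symm⟩
    rw [T_smul F hF X hX σ v a0 k (hσK k hk a0 ha0)] at hc
    rw [← hσK k hk c (hT c hc)]
    exact Twin_smul F hF X hX σ v a0 k (hσK k hk a0 ha0) _ _ (htw c hc)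
  have htwB : ∀ a ∈ S, ∀ c ∈ T F X σ v a, ∀ d ∈ T F X σ v a,
      Twin F v (T F X σ v a) c d → d = σ c := by
    intro a ha c hc d hd ht
    obtain ⟨k, hk, rfl⟩ := hKS a ha
    obtain ⟨c, rfl⟩ : ∃ c', c = k • c' := ⟨k⁻¹ • c, (smul_inv_smul _ _).symm⟩
    obtain ⟨d, rfl⟩ : ∃ d', d = k • d' := ⟨k⁻¹ • d, (smul_inv_smul _ _).symm⟩
    have hk' := hσK k hk a0 ha0
    rw [T_smul F hF X hX σ v a0 k hk'] at hc hd
    have e : k⁻¹ • σ (k • a0) = σ (k⁻¹ • k • a0) := by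
      rw [← hk', inv_smul_smul, inv_smul_smul]
    have := Twin_smul F hF X hX σ v (k • a0) k⁻¹ e _ _ ht
    rw [inv_smul_smul, inv_smul_smul, inv_smul_smul] at this
    rw [htw' c hc d hd this, hσK k hk c (hT c hc)]
  intro s hs
  induction conn s hs with
  | refl => exact ⟨hg1, hg2⟩
  | @tail a c hac hc ih =>
    have ha : a ∈ S := by
      clear ih hc
      induction hac with
      | refl => exact ha0
      | @tail a' c' _ hc' ih' => exact hT' a' ih' c' hc'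
    obtain ⟨h1, h2⟩ := ih ha
    have hgc : g • c ∈ T F X σ v (g • a) := (T_smul F hF X hX σ v a g h2 c).2 hc
    have hgσc : g • σ c ∈ T F X σ v (g • a) := (T_smul F hF X hX σ v a g h2 _).2 (hσT' a ha c hc)
    refine ⟨hT' _ h1 _ hgc, ?_⟩
    exact htwB _ h1 _ hgc _ hgσc (Twin_smul F hF X hX σ v a g h2 _ _ (htwA a ha c hc))

end Cfsg.Agent.Monster.AbstractRigid
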