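/-
Linear and quadratic functions of the lanes of one vector, evaluated in all lanes at once by the kernel, and their
level sets.

* `lin n l x`: the lanewise value `∑ (j, G) ∈ l, val x j * val G i`;
* `quad n l x`: the lanewise value `∑ (U, l') ∈ l, val U i * ∑ (j, G) ∈ l', val x j * val G i`.
-/
import Cfsg.Agent.Monster.PlaneArith

set_option autoImplicit false

namespace Cfsg.Agent.Monster.LevelSets

open Cfsg.Agent.Monster.VecEngine Cfsg.Agent.Monster.PlaneArith

/-! ### Linear functions of the lanes of `x` -/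

/-- The value computed by `lin`. -/
def linVal (l : List (ℕ × Pl)) (x : Pl) (i : ℕ) : ℤ := (l.map fun e => val x e.1 * val e.2 i).sum

@[simp] theorem linVal_nil (x : Pl) (i : ℕ) : linVal [] x i = 0 := rfl

@[simp] theorem linVal_cons (e : ℕ × Pl) (l : List (ℕ × Pl)) (x : Pl) (i : ℕ) :
    linVal (e :: l) x i = val x e.1 * val e.2 i + linVal l x i := rfl

/-- Add `∑ (j, G) ∈ l, val x j * val G i` to `a` (lanes `< n`), continue with the result. -/
noncomputable def lin (n : ℕ) (l : List (ℕ × Pl)) : Pl → Pl → (Pl → Bool) → Bool :=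
  List.rec (motive := fun _ => Pl → Pl → (Pl → Bool) → Bool) (fun _ a k => k a)
    (fun e _ ih x a k => go (bcast n e.1 x) fun b => go (add (mul e.2 b) a 0) fun a' => ih x a' k) l

theorem lin_sound {n : ℕ} {l : List (ℕ × Pl)} {x a : Pl} {k : Pl → Bool} (h : lin n l x a k = true) :
    ∃ y, (∀ i < n, val y i = val a i + linVal l x i) ∧ k y = true := by
  induction l generalizing a with
  | nil => exact ⟨a, fun i _ => by simp, h⟩
  | cons e l ih =>
    have h' : go (bcast n e.1 x) (fun b => go (add (mul e.2 b) a 0) fun a' => lin n l x a' k) = true := h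
    rw [go_eq, go_eq] at h'
    obtain ⟨y, hy, hk⟩ := ih h'
    refine ⟨y, fun i hi => ?_, hk⟩
    rw [hy i hi, val_norm, val_add, bt_zero, add_zero, val_mul, val_norm, val_bcast n e.1 x i hi, linVal_cons]
    ring

/-! ### Quadratic functions -/

/-- The value computed by `quad`. -/
def quadVal (l : List (Pl × List (ℕ × Pl))) (x : Pl) (i : ℕ) : ℤ := (l.map fun e => val e.1 i * linVal e.2 x i).sum

@[simp] theorem quadVal_nil (x : Pl) (i : ℕ) : quadVal [] x i = 0 := rfl

@[simp] theorem quadVal_cons (e : Pl × List (ℕ × Pl)) (l : List (Pl × List (ℕ × Pl))) (x : Pl) (i : ℕ) :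
    quadVal (e :: l) x i = val e.1 i * linVal e.2 x i + quadVal l x i := rfl

/-- Add `∑ (U, l') ∈ l, val U i * ∑ (j, G) ∈ l', val x j * val G i` to `a` (lanes `< n`). -/
noncomputable def quad (n : ℕ) (l : List (Pl × List (ℕ × Pl))) : Pl → Pl → (Pl → Bool) → Bool :=
  List.rec (motive := fun _ => Pl → Pl → (Pl → Bool) → Bool) (fun _ a k => k a)
    (fun e _ ih x a k => lin n e.2 x (.sgn 0) fun b => go (add (mul e.1 b) a 0) fun a' => ih x a' k) l

theorem quad_sound {n : ℕ} {l : List (Pl × List (ℕ × Pl))} {x a : Pl} {k : Pl → Bool}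
    (h : quad n l x a k = true) : ∃ y, (∀ i < n, val y i = val a i + quadVal l x i) ∧ k y = true := by
  induction l generalizing a with
  | nil => exact ⟨a, fun i _ => by simp, h⟩
  | cons e l ih =>
    have h' : lin n e.2 x (.sgn 0) (fun b => go (add (mul e.1 b) a 0) fun a' => quad n l x a' k) = true := h
    obtain ⟨b, hb, h2⟩ := lin_sound h'
    rw [go_eq] at h2
    obtain ⟨y, hy, hk⟩ := ih h2
    refine ⟨y, fun i hi => ?_, hk⟩
    rw [hy i hi, val_norm, val_add, bt_zero, add_zero, val_mul, hb i hi, quadVal_cons]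
    simp [bt]
    ring

/-! ### Level sets -/

/-- The lanes of the mask `U` (below `2 ^ m`) in which `Y` has the value of the constant `c`. -/
noncomputable def lev (m k c U : ℕ) (Y : Pl) : ℕ := Nat.land U (eqm (Nat.pow 2 m) Y (cst (Nat.pow 2 m) k c))

/-- The integer represented by `cst n k c`. -/
def cstVal (k c : ℕ) : ℤ := if c < 2 ^ k then (c : ℤ) else (c : ℤ) - 2 ^ (k + 1)

theorem testBit_lev {m k c U : ℕ} {Y : Pl} (hc : c < 2 ^ (k + 1)) (i : ℕ) :
    (lev m k c U Y).testBit i = true ↔ U.testBit i = true ∧ i < 2 ^ m ∧ val Y i = cstVal k c := by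
  show (U &&& eqm (2 ^ m) Y (cst (2 ^ m) k c)).testBit i = true ↔ _
  rw [Nat.testBit_and, Bool.and_eq_true, testBit_eqm]
  constructor
  · rintro ⟨h1, h2, h3⟩
    exact ⟨h1, h2, by rw [h3, val_cst _ _ _ _ h2 hc]; rfl⟩
  · rintro ⟨h1, h2, h3⟩
    exact ⟨h1, h2, by rw [h3, val_cst _ _ _ _ h2 hc]; rfl⟩

/-- Number of lanes of `U` in which `Y` has the value `cstVal k c`, for a list of `(k, c, number)`. -/
noncomputable def levs (m k' U : ℕ) (Y : Pl) (l : List (ℕ × ℕ × ℕ)) : Bool :=
  List.rec (motive := fun _ => Bool) true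
    (fun e _ ih => and (and (Nat.ble (Nat.succ e.2.1) (Nat.pow 2 (Nat.succ e.1)))
      (Nat.ble (Nat.succ e.2.2) (Nat.pow 2 k')))
      (and (cardIs m k' e.2.2 (lev m e.1 e.2.1 U Y)) ih)) l

theorem levs_sound {m k' U : ℕ} {Y : Pl} {l : List (ℕ × ℕ × ℕ)} (h : levs m k' U Y l = true) :
    ∀ e ∈ l, ((Finset.range (2 ^ m)).filter
      (fun i => U.testBit i = true ∧ val Y i = cstVal e.1 e.2.1)).card = e.2.2 := by
  induction l with
  | nil => simp
  | cons e l ih =>
    have h' : and (and (Nat.ble (Nat.succ e.2.1) (Nat.pow 2 (Nat.succ e.1)))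
      (Nat.ble (Nat.succ e.2.2) (Nat.pow 2 k')))
      (and (cardIs m k' e.2.2 (lev m e.1 e.2.1 U Y)) (levs m k' U Y l)) = true := h
    simp only [Bool.and_eq_true] at h'
    obtain ⟨⟨h1, h2⟩, h3, h4⟩ := h'
    intro f hf
    rcases List.mem_cons.1 hf with rfl | hf
    · have h1' : f.2.1 < 2 ^ (f.1 + 1) := Nat.le_of_ble_eq_true h1
      have h2' : f.2.2 < 2 ^ k' := Nat.le_of_ble_eq_true h2
      rw [← cardIs_sound h2' h3]
      congr 1
      refine Finset.filter_congr fun i hi => ?_
      rw [testBit_lev h1']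
      simp [Finset.mem_range.1 hi]
    · exact ih h4 f hf

/-- Vanishing of a mask. -/
theorem of_mask_zero {P : ℕ} (h : Nat.beq P 0 = true) (i : ℕ) : P.testBit i = false := by
  rw [Nat.eq_of_beq_eq_true h]; simp

/-- The mask with the given lanes. -/
noncomputable def ofList (l : List ℕ) : ℕ :=
  List.rec (motive := fun _ => ℕ) 0 (fun a _ ih => Nat.lor (Nat.pow 2 a) ih) l

theorem testBit_ofList (l : List ℕ) (i : ℕ) : (ofList l).testBit i = true ↔ i ∈ l := by
  induction l with
  | nil => show (0 : ℕ).testBit i = true ↔ _; simp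
  | cons a l ih =>
    show (2 ^ a ||| ofList l).testBit i = true ↔ _
    rw [Nat.testBit_or, Bool.or_eq_true, ih, Nat.testBit_two_pow, decide_eq_true_eq, List.mem_cons, eq_comm]

/-- Check that the lanes of a mask are in the list. -/
noncomputable def sub? (P : ℕ) (l : List ℕ) : Bool := Nat.beq P (Nat.land P (ofList l))

theorem mem_of_sub {P : ℕ} {l : List ℕ} (h : sub? P l = true) {i : ℕ} (hi : P.testBit i = true) : i ∈ l := by
  have h1 : P = P &&& ofList l := Nat.eq_of_beq_eq_true h
  rw [h1, Nat.testBit_and, Bool.and_eq_true, testBit_ofList] at hi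
  exact hi.2

end Cfsg.Agent.Monster.LevelSets
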