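import Mathlib
import Cfsg.Agent.Monster.PauliBasic
import Cfsg.Agent.J2.ExtQuot

/-! The real Pauli group on `n ≥ 1` qubits is extraspecial. -/

set_option autoImplicit false

namespace Cfsg.Agent.Monster.PauliExtra

open Cfsg.Agent.Monster.PauliBasic

theorem isPGroup (n : ℕ) : IsPGroup 2 (Pauli n) :=
  IsPGroup.of_card (Pauli.card n)

theorem isExtraspecial {n : ℕ} (hn : 1 ≤ n) : Cfsg.IsExtraspecial 2 (Pauli n) := by
  refine Cfsg.Agent.J2.ExtQuot.isExtraspecial_two (isPGroup n) Pauli.card_center ?_ ?_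
  · intro x
    rw [pow_two, Pauli.sq_eq, Pauli.mem_center_iff]
    exact ⟨rfl, rfl⟩
  · refine ⟨⟨0, Pi.single ⟨0, hn⟩ 1, 0⟩, ⟨0, 0, Pi.single ⟨0, hn⟩ 1⟩, ?_⟩
    rw [Ne, Pauli.commute_iff]
    simp [Pauli.form]

end Cfsg.Agent.Monster.PauliExtra
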