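import Mathlib
import Cfsg.Agent.Monster.PauliBits

/-!
Bit-sliced Pauli elements. A list of `2n+1` planes holds a Pauli element in every lane; circuits
act on all lanes at once.  Also: monomial circuits acting on the basis vectors, bit-sliced.
-/

set_option autoImplicit false
set_option linter.unusedSimpArgs false

namespace Cfsg.Agent.Monster.PauliPlanes

open Cfsg.Agent.Monster.PauliBasic Cfsg.Agent.Monster.PauliRep Cfsg.Agent.Monster.PauliClif
open Cfsg.Agent.Monster.PauliGates Cfsg.Agent.Monster.PauliBits

variable {n : ℕ}

/-- The `k`-th entry. -/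
def get : List ℕ → ℕ → ℕ
  | [], _ => 0
  | x :: _, 0 => x
  | _ :: l, k + 1 => get l k

/-- Exclusive or of `v` into the `k`-th entry. -/
def xin : List ℕ → ℕ → ℕ → List ℕ
  | [], _, _ => []
  | x :: l, 0, v => Nat.xor x v :: l
  | x :: l, k + 1, v => x :: xin l k v

@[simp] theorem length_xin (l : List ℕ) (k v : ℕ) : (xin l k v).length = l.length := by
  induction l generalizing k with
  | nil => rfl
  | cons x l ih =>
    cases k with
    | zero => rfl
    | succ k => simp [xin, ih]

theorem get_xin {l : List ℕ} {k : ℕ} (hk : k < l.length) (v j : ℕ) :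
    get (xin l k v) j = if j = k then get l j ^^^ v else get l j := by
  induction l generalizing k j with
  | nil => simp at hk
  | cons x l ih =>
    cases k with
    | zero =>
      cases j with
      | zero => rfl
      | succ j => rfl
    | succ k =>
      cases j with
      | zero => rfl
      | succ j =>
        show get (xin l k v) j = if j + 1 = k + 1 then get l j ^^^ v else get l j
        rw [ih (by simpa using hk)]
        simp

/-- The Pauli element in lane `i`. -/
def labP (n : ℕ) (L : List ℕ) (i : ℕ) : Pauli n :=
  ⟨bit (get L (2 * n)) i, fun k => bit (get L (n + k)) i, fun k => bit (get L k) i⟩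

/-- The action of a gate on planes. -/
def conjPl : Gate n → List ℕ → List ℕ
  | .X i, L => xin L (2 * n) (get L i)
  | .Z i, L => xin L (2 * n) (get L (n + i))
  | .CZ i j _, L => xin (xin (xin L (2 * n) (Nat.land (get L (n + i)) (get L (n + j))))
      j (get L (n + i))) i (get L (n + j))
  | .CNOT i j _, L => xin (xin L (n + j) (get L (n + i))) i (get L j)
  | .H i, L => xin (xin (xin L (2 * n) (Nat.land (get L (n + i)) (get L i)))
      (n + i) (Nat.xor (get L (n + i)) (get L i))) i (Nat.xor (get L (n + i)) (get L i))

theorem length_conjPl (g : Gate n) (L : List ℕ) : (conjPl g L).length = L.length := by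
  rcases g with i | i | ⟨i, j, h⟩ | ⟨i, j, h⟩ | i <;> simp [conjPl]

theorem land_eq (a b : ℕ) : Nat.land a b = a &&& b := rfl
theorem xor_eq (a b : ℕ) : Nat.xor a b = a ^^^ b := rfl

theorem labP_conjPl (g : Gate n) {L : List ℕ} (hL : L.length = 2 * n + 1) (t : ℕ) :
    labP n (conjPl g L) t = g.conj (labP n L t) := by
  rcases g with i | i | ⟨i, j, h⟩ | ⟨i, j, h⟩ | i
  · have h1 : 2 * n < L.length := by omega
    ext k
    · simp only [labP, conjPl, get_xin h1, if_true, Gate.conj_apply, Gate.conjFun, bit_xor]
    · have hk := k.2
      have h2 : n + k.val ≠ 2 * n := by omega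
      simp only [labP, conjPl, get_xin h1, Gate.conj_apply, Gate.conjFun, h2, if_false]
    · have hk := k.2
      have h2 : k.val ≠ 2 * n := by omega
      simp only [labP, conjPl, get_xin h1, Gate.conj_apply, Gate.conjFun, h2, if_false]
  · have h1 : 2 * n < L.length := by omega
    ext k
    · simp only [labP, conjPl, get_xin h1, if_true, Gate.conj_apply, Gate.conjFun, bit_xor]
    · have hk := k.2
      have h2 : n + k.val ≠ 2 * n := by omega
      simp only [labP, conjPl, get_xin h1, Gate.conj_apply, Gate.conjFun, h2, if_false]
    · have hk := k.2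
      have h2 : k.val ≠ 2 * n := by omega
      simp only [labP, conjPl, get_xin h1, Gate.conj_apply, Gate.conjFun, h2, if_false]
  · have hi := i.2
    have hj := j.2
    have hij : i.val ≠ j.val := fun e => h (Fin.ext e)
    have g1 : 2 * n < L.length := by omega
    have g2 : ∀ v, j.val < (xin L (2 * n) v).length := by intro v; rw [length_xin]; omega
    have g3 : ∀ v w, i.val < (xin (xin L (2 * n) v) j w).length := by
      intro v w; rw [length_xin, length_xin]; omega
    ext k
    · have e1 : 2 * n ≠ i.val := by omega
      have e2 : 2 * n ≠ j.val := by omega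
      simp only [labP, conjPl, get_xin (g3 _ _), get_xin (g2 _), get_xin g1, e1, e2, if_false,
        if_true, Gate.conj_apply, Gate.conjFun, bit_xor, land_eq, bit_and]
    · have hk := k.2
      have e1 : n + k.val ≠ i.val := by omega
      have e2 : n + k.val ≠ j.val := by omega
      have e3 : n + k.val ≠ 2 * n := by omega
      simp only [labP, conjPl, get_xin (g3 _ _), get_xin (g2 _), get_xin g1, e1, e2, e3, if_false,
        if_true, Gate.conj_apply, Gate.conjFun]
    · have hk := k.2
      have e3 : k.val ≠ 2 * n := by omega
      simp only [labP, conjPl, get_xin (g3 _ _), get_xin (g2 _), get_xin g1, e3, if_false,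
        Gate.conj_apply, Gate.conjFun, Pi.add_apply, Pi.smul_apply, smul_eq_mul, dl_apply]
      by_cases c1 : k.val = i.val
      · have c2 : k.val ≠ j.val := fun e => hij (c1.symm.trans e)
        simp only [c1, c2, if_true, if_false, bit_xor, mul_one, mul_zero, add_zero,
          hij]
      · by_cases c2 : k.val = j.val
        · simp only [c1, c2, if_true, if_false, bit_xor, mul_one, mul_zero, add_zero,
            Ne.symm hij]
        · simp only [c1, c2, if_false, mul_zero, add_zero]
  · have hi := i.2
    have hj := j.2
    have hij : i.val ≠ j.val := fun e => h (Fin.ext e)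
    have g1 : n + j.val < L.length := by omega
    have g2 : ∀ v, i.val < (xin L (n + j) v).length := by intro v; rw [length_xin]; omega
    ext k
    · have e1 : 2 * n ≠ i.val := by omega
      have e2 : 2 * n ≠ n + j.val := by omega
      simp only [labP, conjPl, get_xin (g2 _), get_xin g1, e1, e2, if_false, Gate.conj_apply,
        Gate.conjFun]
    · have hk := k.2
      have e1 : n + k.val ≠ i.val := by omega
      simp only [labP, conjPl, get_xin (g2 _), get_xin g1, e1, if_false, Gate.conj_apply,
        Gate.conjFun, Pi.add_apply, Pi.smul_apply, smul_eq_mul, dl_apply]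
      by_cases c2 : k.val = j.val
      · simp only [c2, if_true, bit_xor, mul_one]
      · have c3 : n + k.val ≠ n + j.val := by omega
        simp only [c2, c3, if_false, mul_zero, add_zero]
    · have hk := k.2
      have e1 : k.val ≠ n + j.val := by omega
      simp only [labP, conjPl, get_xin (g2 _), get_xin g1, e1, if_false, Gate.conj_apply,
        Gate.conjFun, Pi.add_apply, Pi.smul_apply, smul_eq_mul, dl_apply]
      by_cases c2 : k.val = i.val
      · simp only [c2, if_true, bit_xor, mul_one]
      · simp only [c2, if_false, mul_zero, add_zero]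
  · have hi := i.2
    have g1 : 2 * n < L.length := by omega
    have g2 : ∀ v, n + i.val < (xin L (2 * n) v).length := by intro v; rw [length_xin]; omega
    have g3 : ∀ v w, i.val < (xin (xin L (2 * n) v) (n + i) w).length := by
      intro v w; rw [length_xin, length_xin]; omega
    ext k
    · have e1 : 2 * n ≠ i.val := by omega
      have e2 : 2 * n ≠ n + i.val := by omega
      simp only [labP, conjPl, get_xin (g3 _ _), get_xin (g2 _), get_xin g1, e1, e2, if_false,
        if_true, Gate.conj_apply, Gate.conjFun, bit_xor, land_eq, bit_and]
    · have hk := k.2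
      have e1 : n + k.val ≠ i.val := by omega
      have e3 : n + k.val ≠ 2 * n := by omega
      simp only [labP, conjPl, get_xin (g3 _ _), get_xin (g2 _), get_xin g1, e1, e3, if_false,
        Gate.conj_apply, Gate.conjFun, Pi.add_apply, Pi.smul_apply, smul_eq_mul, dl_apply]
      by_cases c2 : k.val = i.val
      · simp only [c2, if_true, xor_eq, bit_xor, mul_one]
      · have c3 : n + k.val ≠ n + i.val := by omega
        simp only [c2, c3, if_false, mul_zero, add_zero]
    · have hk := k.2
      have e1 : k.val ≠ n + i.val := by omega
      have e3 : k.val ≠ 2 * n := by omega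
      simp only [labP, conjPl, get_xin (g3 _ _), get_xin (g2 _), get_xin g1, e1, e3, if_false,
        Gate.conj_apply, Gate.conjFun, Pi.add_apply, Pi.smul_apply, smul_eq_mul, dl_apply]
      by_cases c2 : k.val = i.val
      · simp only [c2, if_true, xor_eq, bit_xor, mul_one]
      · simp only [c2, if_false, mul_zero, add_zero]

/-- The action of a circuit on planes. -/
def conjPlL : List (Gate n) → List ℕ → List ℕ
  | [], L => L
  | g :: C, L => conjPlL C (conjPl g L)

theorem length_conjPlL (C : List (Gate n)) (L : List ℕ) : (conjPlL C L).length = L.length := by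
  induction C generalizing L with
  | nil => rfl
  | cons g C ih => rw [conjPlL, ih, length_conjPl]

theorem labP_conjPlL (C : List (Gate n)) {L : List ℕ} (hL : L.length = 2 * n + 1) (t : ℕ) :
    labP n (conjPlL C L) t = conjL C (labP n L t) := by
  induction C generalizing L with
  | nil => rfl
  | cons g C ih =>
    rw [conjPlL, ih (by rw [length_conjPl, hL]), labP_conjPl g hL]
    rfl

end Cfsg.Agent.Monster.PauliPlanes
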