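import Mathlib
import Cfsg.Agent.Monster.VecEngine
import Cfsg.Agent.Monster.PauliPlanes

/-!
Programs of the vector engine which act on the vectors supported on a mask `U` as a signed
permutation of the lanes (butterflies avoid `U`, doublings and halvings cancel).  The signed
permutation is described by its effect on bit planes.
-/

set_option autoImplicit false

namespace Cfsg.Agent.Monster.RegMono

open Cfsg.Agent.Lib.PermNet Cfsg.Agent.Monster.VecEngine
open Cfsg.Agent.Monster.PauliBasic Cfsg.Agent.Monster.PauliBits Cfsg.Agent.Monster.PauliPlanes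

/-- The check: `U` current mask, `e₁` doublings, `e₂` halvings so far, `V` final mask. -/
noncomputable def regOK (P : Prog) : ℕ → ℕ → ℕ → ℕ → Bool :=
  Prog.rec (motive := fun _ => ℕ → ℕ → ℕ → ℕ → Bool)
    (fun U e₁ e₂ V => and (Nat.beq U V) (Nat.beq e₁ e₂))
    (fun N _ ih U e₁ e₂ V => seqB (N.app U) fun U' => ih U' e₁ e₂ V)
    (fun _ _ ih U e₁ e₂ V => ih U e₁ e₂ V)
    (fun M _ ih U e₁ e₂ V => Bool.rec
      (and (Nat.beq (Nat.land M U) U) (ih U (Nat.succ e₁) e₂ V)) (ih U e₁ e₂ V)
      (Nat.beq (Nat.land M U) 0))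
    (fun _ ih U e₁ e₂ V => ih U e₁ (Nat.succ e₂) V)
    (fun M d _ ih U e₁ e₂ V => and (and (Nat.beq (Nat.land M U) 0)
      (Nat.beq (Nat.land (Nat.shiftLeft M d) U) 0)) (ih U e₁ e₂ V)) P

/-- The effect on bit planes; `s` is the index of the sign plane. -/
noncomputable def push (s : ℕ) (P : Prog) : List ℕ → List ℕ :=
  Prog.rec (motive := fun _ => List ℕ → List ℕ)
    (fun L => L)
    (fun N _ ih L => ih (L.map N.app))
    (fun M _ ih L => ih (xin L s M))
    (fun _ _ ih L => ih L)
    (fun _ ih L => ih L)
    (fun _ _ _ ih L => ih L) P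

theorem get_map {g : ℕ → ℕ} {L : List ℕ} {k : ℕ} (hk : k < L.length) :
    get (L.map g) k = g (get L k) := by
  induction L generalizing k with
  | nil => simp at hk
  | cons x l ih =>
    cases k with
    | zero => rfl
    | succ k => exact ih (by simpa using hk)

theorem length_push (s : ℕ) (P : Prog) (L : List ℕ) : (push s P L).length = L.length := by
  induction P generalizing L with
  | nil => rfl
  | perm N P ih => exact (ih _).trans (by simp)
  | neg M P ih => exact (ih _).trans (by simp)
  | dbl M P ih => exact ih _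
  | half P ih => exact ih _
  | bfly M d P ih => exact ih _

theorem bit_app {m : ℕ} {N : Net} (h : N.ok m = true) (p i : ℕ) :
    bit (N.app p) i = bit p (N.perm i) := by
  unfold bit; rw [testBit_app h]

variable (R : Type*) [Field R]

/-- A program acts on vectors supported on `U` as a signed permutation. -/
structure Mono (P : Prog) (U V : ℕ) (σ : ℕ → ℕ) (ε : ℕ → ZMod 2) : Prop where
  mask : ∀ i, V.testBit i = U.testBit (σ i)
  sem_eq : ∀ f : ℕ → R, (∀ i, U.testBit i = false → f i = 0) →
    ∀ i, sem R P f i = sg R (ε i) * f (σ i)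
  push_eq : ∀ (s : ℕ) (L : List ℕ), s < L.length → ∀ k < L.length, ∀ i,
    bit (get (push s P L) k) i = bit (get L k) (σ i) + if k = s then ε i else 0

theorem exists_mono_aux (h2 : (2 : R) ≠ 0) {m : ℕ} {P : Prog} (hP : P.ok m = true)
    {U V e₁ e₂ : ℕ} (h : regOK P U e₁ e₂ V = true) :
    ∃ (σ : ℕ → ℕ) (ε : ℕ → ZMod 2), (∀ i, V.testBit i = U.testBit (σ i)) ∧
      (∀ f : ℕ → R, (∀ i, U.testBit i = false → f i = 0) →
        ∀ i, 2 ^ e₁ * (2⁻¹) ^ e₂ * sem R P f i = sg R (ε i) * f (σ i)) ∧
      (∀ (s : ℕ) (L : List ℕ), s < L.length → ∀ k < L.length, ∀ i,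
        bit (get (push s P L) k) i = bit (get L k) (σ i) + if k = s then ε i else 0) := by
  induction P generalizing U V e₁ e₂ with
  | nil =>
    have h' : and (Nat.beq U V) (Nat.beq e₁ e₂) = true := h
    rw [Bool.and_eq_true] at h'
    have hU := Nat.eq_of_beq_eq_true h'.1
    have he := Nat.eq_of_beq_eq_true h'.2
    subst hU; subst he
    refine ⟨id, fun _ => 0, fun i => rfl, fun f _ i => ?_, fun s L _ k _ i => ?_⟩
    · rw [← mul_pow, mul_inv_cancel₀ h2, one_pow, sg_zero]; rfl
    · show bit (get L k) i = bit (get L k) i + _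
      split_ifs <;> simp
  | perm N P ih =>
    have hP' : and (N.ok m) (P.ok m) = true := hP
    rw [Bool.and_eq_true] at hP'
    have h' : seqB (N.app U) (fun U' => regOK P U' e₁ e₂ V) = true := h
    rw [seqB_eq] at h'
    obtain ⟨σ, ε, h1, h3, h4⟩ := ih hP'.2 h'
    refine ⟨fun i => N.perm (σ i), ε, fun i => ?_, fun f hf i => ?_, fun s L hs k hk i => ?_⟩
    · rw [h1, testBit_app hP'.1]
    · exact h3 (lcomp R N.perm f) (fun j hj => by
        rw [testBit_app hP'.1] at hj
        exact hf _ hj) i
    · show bit (get (push s P (L.map N.app)) k) i = _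
      rw [h4 s (L.map N.app) (by simpa using hs) k (by simpa using hk), get_map hk, bit_app hP'.1]
  | neg M P ih =>
    obtain ⟨σ, ε, h1, h3, h4⟩ := ih (show P.ok m = true from hP)
      (show regOK P U e₁ e₂ V = true from h)
    refine ⟨σ, fun i => ε i + bit M (σ i), h1, fun f hf i => ?_, fun s L hs k hk i => ?_⟩
    · show 2 ^ e₁ * (2⁻¹) ^ e₂ * sem R P (lneg R M f) i = _
      rw [h3 (lneg R M f) (fun j hj => by
        show (if M.testBit j = true then - f j else f j) = 0
        rw [hf j hj]; simp) i]
      show sg R (ε i) * (if M.testBit (σ i) = true then - f (σ i) else f (σ i)) = _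
      rw [sg_add]
      unfold bit
      split_ifs <;> simp
    · show bit (get (push s P (xin L s M)) k) i = _
      rw [h4 s (xin L s M) (by simpa using hs) k (by simpa using hk), get_xin hs]
      by_cases hks : k = s
      · rw [if_pos hks, if_pos hks, if_pos hks, bit_xor]; ring
      · rw [if_neg hks, if_neg hks, if_neg hks]
  | dbl M P ih =>
    have h' : (Bool.rec (and (Nat.beq (Nat.land M U) U) (regOK P U (Nat.succ e₁) e₂ V))
      (regOK P U e₁ e₂ V) (Nat.beq (Nat.land M U) 0) : Bool) = true := h
    cases h0 : Nat.beq (Nat.land M U) 0 with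
    | true =>
      rw [h0] at h'
      have hMU : M &&& U = 0 := Nat.eq_of_beq_eq_true h0
      obtain ⟨σ, ε, h1, h3, h4⟩ := ih (show P.ok m = true from hP) h'
      refine ⟨σ, ε, h1, fun f hf i => ?_, h4⟩
      show 2 ^ e₁ * (2⁻¹) ^ e₂ * sem R P (ldbl R M f) i = _
      have : ldbl R M f = f := by
        funext j
        show (if M.testBit j = true then 2 * f j else f j) = f j
        by_cases hj : U.testBit j = true
        · have : (M &&& U).testBit j = false := by rw [hMU]; exact Nat.zero_testBit j
          rw [Nat.testBit_and, hj, Bool.and_true] at this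
          rw [this]; simp
        · rw [hf j (by simpa using hj)]; simp
      rw [this]
      exact h3 f hf i
    | false =>
      rw [h0] at h'
      have h'' : and (Nat.beq (Nat.land M U) U) (regOK P U (Nat.succ e₁) e₂ V) = true := h'
      rw [Bool.and_eq_true] at h''
      have hMU : M &&& U = U := Nat.eq_of_beq_eq_true h''.1
      obtain ⟨σ, ε, h1, h3, h4⟩ := ih (show P.ok m = true from hP) h''.2
      refine ⟨σ, ε, h1, fun f hf i => ?_, h4⟩
      show 2 ^ e₁ * (2⁻¹) ^ e₂ * sem R P (ldbl R M f) i = _
      have : ldbl R M f = (2 : R) • f := by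
        funext j
        show (if M.testBit j = true then 2 * f j else f j) = 2 * f j
        by_cases hj : U.testBit j = true
        · have : (M &&& U).testBit j = true := by rw [hMU]; exact hj
          rw [Nat.testBit_and, hj, Bool.and_true] at this
          rw [this]; simp
        · rw [hf j (by simpa using hj)]; simp
      rw [this, map_smul, Pi.smul_apply, smul_eq_mul]
      have h5 := h3 f hf i
      rw [Nat.succ_eq_add_one, pow_succ] at h5
      rw [← h5]; ring
  | half P ih =>
    obtain ⟨σ, ε, h1, h3, h4⟩ := ih (show P.ok m = true from hP)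
      (show regOK P U e₁ (Nat.succ e₂) V = true from h)
    refine ⟨σ, ε, h1, fun f hf i => ?_, h4⟩
    show 2 ^ e₁ * (2⁻¹) ^ e₂ * sem R P ((2 : R)⁻¹ • f) i = _
    rw [map_smul, Pi.smul_apply, smul_eq_mul]
    have h5 := h3 f hf i
    rw [Nat.succ_eq_add_one, pow_succ] at h5
    rw [← h5]; ring
  | bfly M d P ih =>
    have hP' : and (Net.ok m (.cons M d .nil)) (P.ok m) = true := hP
    rw [Bool.and_eq_true] at hP'
    have h' : and (and (Nat.beq (Nat.land M U) 0) (Nat.beq (Nat.land (Nat.shiftLeft M d) U) 0))
      (regOK P U e₁ e₂ V) = true := h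
    rw [Bool.and_eq_true, Bool.and_eq_true] at h'
    have hMU : M &&& U = 0 := Nat.eq_of_beq_eq_true h'.1.1
    have hMU' : (M <<< d) &&& U = 0 := Nat.eq_of_beq_eq_true h'.1.2
    obtain ⟨σ, ε, h1, h3, h4⟩ := ih hP'.2 h'.2
    refine ⟨σ, ε, h1, fun f hf i => ?_, h4⟩
    show 2 ^ e₁ * (2⁻¹) ^ e₂ * sem R P (lbfly R M d f) i = _
    have hz : ∀ j, M.testBit j = true → f j = 0 := by
      intro j hj
      apply hf
      have : (M &&& U).testBit j = false := by rw [hMU]; exact Nat.zero_testBit j
      rw [Nat.testBit_and, hj, Bool.true_and] at this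
      exact this
    have hz' : ∀ j, M.testBit j = true → f (j + d) = 0 := by
      intro j hj
      apply hf
      have : ((M <<< d) &&& U).testBit (j + d) = false := by
        rw [hMU']; exact Nat.zero_testBit _
      rw [Nat.testBit_and, Nat.testBit_shiftLeft, Nat.add_sub_cancel, hj] at this
      simpa using this
    have : lbfly R M d f = f := by
      funext j
      show (if M.testBit j = true then f j + f (j + d) else
        if d ≤ j ∧ M.testBit (j - d) = true then f (j - d) - f j else f j) = f j
      split_ifs with c1 c2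
      · rw [hz j c1, hz' j c1, add_zero]
      · have := hz' (j - d) c2.2
        rw [Nat.sub_add_cancel c2.1] at this
        rw [this, hz _ c2.2, sub_zero]
      · rfl
    rw [this]
    exact h3 f hf i

theorem exists_mono (h2 : (2 : R) ≠ 0) {m : ℕ} {P : Prog} (hP : P.ok m = true)
    {U V : ℕ} (h : regOK P U 0 0 V = true) : ∃ σ ε, Mono R P U V σ ε := by
  obtain ⟨σ, ε, h1, h3, h4⟩ := exists_mono_aux R h2 hP h
  refine ⟨σ, ε, h1, fun f hf i => ?_, h4⟩
  have := h3 f hf i
  rwa [pow_zero, pow_zero, one_mul, one_mul] at this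

end Cfsg.Agent.Monster.RegMono
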