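import Mathlib

/-!
Simplicity of a group `G = ⟨K, τ⟩` with `K = C_G(z)`, `Q ⊲ K`, `K / Q` simple and `K` irreducible on `Q / ⟨z⟩`.
-/

set_option autoImplicit false

namespace Cfsg.Agent.Monster.SimpleZ

variable {G : Type*} [Group G]

/-- An involution `z` without nontrivial fixed point in the normal subgroup `N` inverts `N`. -/
theorem inverts [Finite G] (N : Subgroup G) [hN : N.Normal] (z : G) (hz : z * z = 1)
    (h : ∀ n ∈ N, z * n = n * z → n = 1) (m : G) (hm : m ∈ N) : z * m * z = m⁻¹ := by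
  have hzi : z⁻¹ = z := inv_eq_of_mul_eq_one_left hz
  have hmem : ∀ n : N, (n : G)⁻¹ * (z * n * z) ∈ N := by
    intro n
    refine N.mul_mem (N.inv_mem n.2) ?_
    have := hN.conj_mem n n.2 z
    rwa [hzi] at this
  have hinj : Function.Injective (fun n : N => (⟨(n : G)⁻¹ * (z * n * z), hmem n⟩ : N)) := by
    intro a b e
    have e1 : (a : G)⁻¹ * (z * a * z) = (b : G)⁻¹ * (z * b * z) := congrArg Subtype.val e
    have e2 : z * ((b : G) * (a : G)⁻¹) = ((b : G) * (a : G)⁻¹) * z := by
      have e3 : (b : G) * (a : G)⁻¹ * z * a = z * b := by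
        have h4 : (b : G) * ((a : G)⁻¹ * (z * a * z)) * z = b * ((b : G)⁻¹ * (z * b * z)) * z := by
          rw [e1]
        have h5 : (b : G) * ((a : G)⁻¹ * (z * a * z)) * z = b * (a : G)⁻¹ * z * a * (z * z) := by
          group
        have h6 : (b : G) * ((b : G)⁻¹ * (z * b * z)) * z = z * b * (z * z) := by group
        rw [h5, h6, hz, mul_one, mul_one] at h4
        exact h4
      have h7 : z * ((b : G) * (a : G)⁻¹) = (z * b) * (a : G)⁻¹ := by group
      rw [h7, ← e3]
      group
    have e4 := h _ (N.mul_mem b.2 (N.inv_mem a.2)) e2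
    apply Subtype.ext
    have : (b : G) = a := by rwa [mul_inv_eq_one] at e4
    exact this.symm
  obtain ⟨n, hn⟩ := (Finite.injective_iff_surjective.1 hinj) ⟨m, hm⟩
  have e : (n : G)⁻¹ * (z * n * z) = m := congrArg Subtype.val hn
  rw [← e]
  have h1 : z * ((n : G)⁻¹ * (z * n * z)) * z = z * (n : G)⁻¹ * z * n * (z * z) := by group
  rw [h1, hz, mul_one]
  rw [mul_inv_rev, mul_inv_rev, mul_inv_rev, inv_inv, hzi]
  group

/-- A normal subgroup of `G` meets `K` trivially or contains `K`. -/
theorem inf_or_le (K Q : Subgroup G) (z τ : G) (hz : z ≠ 1) (hzz : z * z = 1)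
    (hzQ : z ∈ Q) (hQK : Q ≤ K) (hQn : ∀ k ∈ K, ∀ q ∈ Q, k * q * k⁻¹ ∈ Q)
    (hQc : ∀ x ∈ Q, ∀ y ∈ Q, x * y = y * x ∨ x * y = y * x * z)
    (hzK : ∀ k ∈ K, k * z = z * k)
    (hirr : ∀ N : Subgroup G, N ≤ Q → (∀ k ∈ K, ∀ n ∈ N, k * n * k⁻¹ ∈ N) →
      (∀ n ∈ N, n = 1 ∨ n = z) ∨ N = Q)
    (hcard : 4 < Nat.card Q)
    (hsimple : ∀ N : Subgroup G, Q ≤ N → N ≤ K → (∀ k ∈ K, ∀ n ∈ N, k * n * k⁻¹ ∈ N) →
      N = Q ∨ N = K)
    (hτz : τ * z * τ⁻¹ ∈ Q)
    (hτz' : τ * z * τ⁻¹ ≠ z) (hτq : ∃ q ∈ Q, τ * q * τ⁻¹ ∈ K ∧ τ * q * τ⁻¹ ∉ Q)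
    (N : Subgroup G) (hN : N.Normal) : (∀ n ∈ N, n ∈ K → n = 1) ∨ K ≤ N := by
  rcases hirr (N ⊓ Q) inf_le_right
    (fun k hk n hn => ⟨hN.conj_mem _ hn.1 _, hQn k hk n hn.2⟩) with hA | hA
  · -- `N ⊓ Q ⊆ {1, z}`
    have hzN : z ∉ N := by
      intro hzN
      rcases hA _ ⟨hN.conj_mem _ hzN τ, hτz⟩ with h | h
      · exact hz (by rwa [mul_inv_eq_one, mul_eq_left] at h)
      · exact hτz' h
    rcases hsimple ((N ⊓ K) ⊔ Q) le_sup_right (sup_le inf_le_right hQK) (by
      intro k hk n hn
      have hle : (N ⊓ K) ⊔ Q ≤ ((N ⊓ K) ⊔ Q).comap (MulAut.conj k).toMonoidHom := by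
        refine sup_le ?_ ?_
        · intro x hx
          exact Subgroup.mem_sup_left (show _ ∈ N ⊓ K from
            ⟨hN.conj_mem _ hx.1 _, K.mul_mem (K.mul_mem hk hx.2) (K.inv_mem hk)⟩)
        · intro x hx
          exact Subgroup.mem_sup_right (hQn k hk x hx)
      exact hle hn) with h | h
    · left
      intro n hn hnK
      have hnQ : n ∈ Q := by
        rw [← h]
        exact Subgroup.mem_sup_left ⟨hn, hnK⟩
      rcases hA n ⟨hn, hnQ⟩ with h1 | h1
      · exact h1
      · exact absurd (h1 ▸ hn) hzN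
    · exfalso
      -- `K` acts trivially on `Q / ⟨z⟩`
      have htriv : ∀ k ∈ K, ∀ x ∈ Q, k * x * k⁻¹ = x ∨ k * x * k⁻¹ = z * x := by
        intro k hk x hx
        let P : Subgroup G :=
          { carrier := {k | k ∈ K ∧ ∀ x ∈ Q, k * x * k⁻¹ = x ∨ k * x * k⁻¹ = z * x}
            one_mem' := ⟨K.one_mem, fun x _ => Or.inl (by simp)⟩
            mul_mem' := by
              rintro a b ⟨haK, ha⟩ ⟨hbK, hb⟩
              refine ⟨K.mul_mem haK hbK, fun x hx => ?_⟩
              have e : a * b * x * (a * b)⁻¹ = a * (b * x * b⁻¹) * a⁻¹ := by group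
              rw [e]
              rcases hb x hx with h1 | h1
              · rw [h1]; exact ha x hx
              · rw [h1]
                have e2 : a * (z * x) * a⁻¹ = z * (a * x * a⁻¹) := by
                  rw [← mul_assoc, hzK a haK]
                  group
                rw [e2]
                rcases ha x hx with h2 | h2
                · rw [h2]; exact Or.inr rfl
                · rw [h2, ← mul_assoc, hzz, one_mul]; exact Or.inl rfl
            inv_mem' := by
              rintro a ⟨haK, ha⟩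
              refine ⟨K.inv_mem haK, fun x hx => ?_⟩
              rcases ha (a⁻¹ * x * a) (by
                have := hQn a⁻¹ (K.inv_mem haK) x hx
                rwa [inv_inv] at this) with h1 | h1
              · left
                have e : a * (a⁻¹ * x * a) * a⁻¹ = x := by group
                rw [e] at h1
                rw [inv_inv]
                exact h1.symm
              · right
                have e : a * (a⁻¹ * x * a) * a⁻¹ = x := by group
                rw [e] at h1
                rw [inv_inv]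
                nth_rw 2 [h1]
                rw [← mul_assoc, hzz, one_mul] }
        have hP : (N ⊓ K) ⊔ Q ≤ P := by
          refine sup_le ?_ ?_
          · intro m hm
            refine ⟨hm.2, fun x hx => ?_⟩
            have h1 : m * x * m⁻¹ * x⁻¹ ∈ N ⊓ Q := by
              refine ⟨?_, Q.mul_mem (hQn m hm.2 x hx) (Q.inv_mem hx)⟩
              have e : m * x * m⁻¹ * x⁻¹ = m * (x * m⁻¹ * x⁻¹) := by group
              rw [e]
              exact N.mul_mem hm.1 (hN.conj_mem _ (N.inv_mem hm.1) _)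
            rcases hA _ h1 with h2 | h2
            · left
              rwa [mul_inv_eq_one] at h2
            · right
              rwa [mul_inv_eq_iff_eq_mul] at h2
          · intro q hq
            refine ⟨hQK hq, fun x hx => ?_⟩
            rcases hQc q hq x hx with h1 | h1
            · left
              rw [h1, mul_inv_cancel_right]
            · right
              have h2 : x * q * z = z * x * q := by
                rw [hzK _ (hQK (Q.mul_mem hx hq)), mul_assoc]
              rw [h1, h2, mul_inv_cancel_right]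
        exact (hP (by rw [h]; exact hk : k ∈ (N ⊓ K) ⊔ Q)).2 x hx
      -- the subgroup `{1, z, x, zx}`
      set x := τ * z * τ⁻¹ with hx
      have hxx : x * x = 1 := by
        have : x * x = τ * (z * z) * τ⁻¹ := by rw [hx]; group
        rw [this, hzz]; group
      have hx1 : x ≠ 1 := by
        intro h1
        exact hz (by rwa [hx, mul_inv_eq_one, mul_eq_left] at h1)
      have hxz : x * z = z * x := hzK x (hQK hτz)
      have f1 : z * (z * x) = x := by rw [← mul_assoc, hzz, one_mul]
      have f2 : x * (z * x) = z := by rw [← mul_assoc, hxz, mul_assoc, hxx, mul_one]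
      have f3 : z * x * z = x := by rw [mul_assoc, hxz, f1]
      have f4 : z * x * x = z := by rw [mul_assoc, hxx, mul_one]
      have f5 : z * x * (z * x) = 1 := by rw [mul_assoc, f2, hzz]
      have hzi : z⁻¹ = z := inv_eq_of_mul_eq_one_left hzz
      have hxi : x⁻¹ = x := inv_eq_of_mul_eq_one_left hxx
      have hzxi : (z * x)⁻¹ = z * x := inv_eq_of_mul_eq_one_left f5
      let A : Subgroup G :=
        { carrier := {1, z, x, z * x}
          one_mem' := by simp
          mul_mem' := by
            intro a b ha hb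
            simp only [Set.mem_insert_iff, Set.mem_singleton_iff] at ha hb
            rcases ha with ha | ha | ha | ha <;> rcases hb with hb | hb | hb | hb <;>
              simp only [ha, hb, one_mul, mul_one, Set.mem_insert_iff, Set.mem_singleton_iff, hzz,
                hxx, hxz, f1, f2, f3, f4, f5, true_or, or_true]
          inv_mem' := by
            intro a ha
            simp only [Set.mem_insert_iff, Set.mem_singleton_iff] at ha
            rcases ha with ha | ha | ha | ha <;>
              simp only [ha, Set.mem_insert_iff, Set.mem_singleton_iff, hzi, hxi, hzxi, inv_one,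
                true_or, or_true] }
      have hAQ : A ≤ Q := by
        rintro a (rfl | rfl | rfl | rfl)
        · exact Q.one_mem
        · exact hzQ
        · exact hτz
        · exact Q.mul_mem hzQ hτz
      rcases hirr A hAQ (by
        rintro k hk a (rfl | rfl | rfl | rfl)
        · left; group
        · right; left; rw [hzK k hk]; group
        · rcases htriv k hk x hτz with h1 | h1
          · rw [h1]; right; right; left; rfl
          · rw [h1]; right; right; right; rfl
        · have e : k * (z * x) * k⁻¹ = z * (k * x * k⁻¹) := by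
            rw [← mul_assoc, hzK k hk]
            group
          rw [e]
          rcases htriv k hk x hτz with h1 | h1
          · rw [h1]; right; right; right; rfl
          · rw [h1, ← mul_assoc, hzz, one_mul]; right; right; left; rfl) with h1 | h1
      · rcases h1 x (by right; right; left; rfl) with h2 | h2
        · exact hx1 h2
        · exact hτz' h2
      · have : Nat.card Q ≤ 4 := by
          rw [← h1]
          calc Nat.card A = (A : Set G).ncard := Nat.card_coe_set_eq _
            _ = ({1, z, x, z * x} : Set G).ncard := rfl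
            _ ≤ 4 := by
              refine (Set.ncard_insert_le _ _).trans (Nat.succ_le_succ ?_)
              refine (Set.ncard_insert_le _ _).trans (Nat.succ_le_succ ?_)
              exact (Set.ncard_insert_le _ _).trans (by rw [Set.ncard_singleton])
        omega
  · -- `Q ≤ N`
    have hQN : Q ≤ N := by
      rw [← hA]; exact inf_le_left
    rcases hsimple (N ⊓ K) (le_inf hQN hQK) inf_le_right (fun k hk n hn =>
      ⟨hN.conj_mem _ hn.1 _, K.mul_mem (K.mul_mem hk hn.2) (K.inv_mem hk)⟩) with h | h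
    · exfalso
      obtain ⟨q, hq, h1, h2⟩ := hτq
      apply h2
      rw [← h]
      exact ⟨hN.conj_mem _ (hQN hq) _, h1⟩
    · right
      rw [← h]
      exact inf_le_left

/-- **Simplicity.** -/
theorem isSimpleGroup [Finite G] (K Q : Subgroup G) (z τ : G) (hz : z ≠ 1) (hzz : z * z = 1)
    (hzQ : z ∈ Q) (hQK : Q ≤ K) (hQn : ∀ k ∈ K, ∀ q ∈ Q, k * q * k⁻¹ ∈ Q)
    (hQc : ∀ x ∈ Q, ∀ y ∈ Q, x * y = y * x ∨ x * y = y * x * z)
    (hzK : ∀ k ∈ K, k * z = z * k)
    (hcent : ∀ g, g * z = z * g → g ∈ K)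
    (hirr : ∀ N : Subgroup G, N ≤ Q → (∀ k ∈ K, ∀ n ∈ N, k * n * k⁻¹ ∈ N) →
      (∀ n ∈ N, n = 1 ∨ n = z) ∨ N = Q)
    (hcard : 4 < Nat.card Q)
    (hsimple : ∀ N : Subgroup G, Q ≤ N → N ≤ K → (∀ k ∈ K, ∀ n ∈ N, k * n * k⁻¹ ∈ N) →
      N = Q ∨ N = K)
    (hgen : Subgroup.closure ((K : Set G) ∪ {τ}) = ⊤) (hτz : τ * z * τ⁻¹ ∈ Q)
    (hτz' : τ * z * τ⁻¹ ≠ z) (hτq : ∃ q ∈ Q, τ * q * τ⁻¹ ∈ K ∧ τ * q * τ⁻¹ ∉ Q)
    (hτs : ∃ s ∈ K, s * τ * s⁻¹ * τ ∈ K) (hτ3 : τ * τ * τ = 1) : IsSimpleGroup G := by
  have key := inf_or_le K Q z τ hz hzz hzQ hQK hQn hQc hzK hirr hcard hsimple hτz hτz' hτq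
  have hnt : Nontrivial G := ⟨⟨z, 1, hz⟩⟩
  refine ⟨fun N hN => ?_⟩
  rcases key N hN with h | h
  · left
    have hinv := inverts N z hzz (fun n hn e => h n hn (hcent n e.symm))
    have hinv' : ∀ n ∈ N, (τ * z * τ⁻¹) * n * (τ * z * τ⁻¹) = n⁻¹ := by
      intro n hn
      have h1 : τ⁻¹ * n * τ ∈ N := by
        have := hN.conj_mem n hn τ⁻¹
        rwa [inv_inv] at this
      have h2 := hinv _ h1
      have e : (τ * z * τ⁻¹) * n * (τ * z * τ⁻¹) = τ * (z * (τ⁻¹ * n * τ) * z) * τ⁻¹ := by group
      rw [e, h2]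
      group
    have hc : z * (τ * z * τ⁻¹) ∈ Subgroup.centralizer (N : Set G) := by
      rw [Subgroup.mem_centralizer_iff]
      intro n hn
      have h1 : z * ((τ * z * τ⁻¹) * n * (τ * z * τ⁻¹)) * z = n := by
        rw [hinv' n hn, hinv n⁻¹ (N.inv_mem hn), inv_inv]
      have hzi : z⁻¹ = z := inv_eq_of_mul_eq_one_left hzz
      have h3 : (τ * z * τ⁻¹)⁻¹ = τ * z * τ⁻¹ := by
        rw [mul_inv_rev, mul_inv_rev, inv_inv, hzi, mul_assoc]
      calc n * (z * (τ * z * τ⁻¹))
          = (z * ((τ * z * τ⁻¹) * n * (τ * z * τ⁻¹)) * z) * (z * (τ * z * τ⁻¹)) := by rw [h1]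
        _ = z * (τ * z * τ⁻¹) * n * ((τ * z * τ⁻¹) * (z * z) * (τ * z * τ⁻¹)) := by group
        _ = z * (τ * z * τ⁻¹) * n * ((τ * z * τ⁻¹) * (τ * z * τ⁻¹)⁻¹) := by
            rw [hzz, mul_one, h3]
        _ = z * (τ * z * τ⁻¹) * n := by rw [mul_inv_cancel, mul_one]
    rcases key (Subgroup.centralizer (N : Set G)) inferInstance with h1 | h1
    · exfalso
      have h2 := h1 _ hc (K.mul_mem (hQK hzQ) (hQK hτz))
      apply hτz'
      have hzi : z⁻¹ = z := inv_eq_of_mul_eq_one_left hzz
      have h3 : τ * z * τ⁻¹ = z⁻¹ := by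
        rw [eq_inv_iff_mul_eq_one, hzK _ (hQK hτz)]
        exact h2
      rw [h3, hzi]
    · rw [eq_bot_iff]
      intro n hn
      have h2 := h1 (hQK hzQ)
      rw [Subgroup.mem_centralizer_iff] at h2
      have h3 := h2 n hn
      exact Subgroup.mem_bot.2 (h n hn (hcent n h3))
  · right
    obtain ⟨s, hs, h1⟩ := hτs
    have hsN := h hs
    have h2 := h h1
    have h3 : τ * τ ∈ N := by
      have e : τ * τ = (s * (τ * s⁻¹ * τ⁻¹))⁻¹ * (s * τ * s⁻¹ * τ) := by group
      rw [e]
      exact N.mul_mem (N.inv_mem (N.mul_mem hsN (hN.conj_mem _ (N.inv_mem hsN) _))) h2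
    have h4 : τ ∈ N := by
      have e : τ = (τ * τ)⁻¹ := by
        rw [eq_inv_iff_mul_eq_one, ← mul_assoc]; exact hτ3
      rw [e]
      exact N.inv_mem h3
    rw [eq_top_iff, ← hgen, Subgroup.closure_le]
    rintro x (hx | hx)
    · exact h hx
    · rw [Set.mem_singleton_iff] at hx
      rw [hx]
      exact h4

end Cfsg.Agent.Monster.SimpleZ
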