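import Mathlib
import Cfsg.Agent.Monster.PauliPlanes

/-!
Monomial circuits (no Hadamard gates) act on functions of `n` bits by a signed permutation of the
indices; evaluation of this signed permutation on bit planes.
-/

set_option autoImplicit false

namespace Cfsg.Agent.Monster.TrkPlanes

open Cfsg.Agent.Monster.PauliBasic Cfsg.Agent.Monster.PauliGates Cfsg.Agent.Monster.PauliBits
open Cfsg.Agent.Monster.PauliPlanes

variable {n : ℕ}

/-- The gate is monomial. -/
def isMono : Gate n → Bool
  | .X _ => true
  | .Z _ => true
  | .CZ _ _ _ => true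
  | .CNOT _ _ _ => true
  | .H _ => false

/-- All gates of the circuit are monomial. -/
def monoC : List (Gate n) → Bool
  | [] => true
  | g :: C => and (isMono g) (monoC C)

/-- The permutation of the indices. -/
def idxF : Gate n → B n → B n
  | .X i, e => e + dl i
  | .Z _, e => e
  | .CZ _ _ _, e => e
  | .CNOT i j _, e => e + e i • dl j
  | .H _, e => e

/-- The sign. -/
def sgF : Gate n → B n → ZMod 2
  | .X _, _ => 0
  | .Z i, e => e i
  | .CZ i j _, e => e i * e j
  | .CNOT _ _ _, _ => 0
  | .H _, _ => 0

theorem opFun_mono (R : Type*) [CommRing R] {g : Gate n} (hg : isMono g = true) (f : B n → R) (e : B n) :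
    g.opFun R f e = sg R (sgF g e) * f (idxF g e) := by
  rcases g with i | i | ⟨i, j, h⟩ | ⟨i, j, h⟩ | i
  · simp [Gate.opFun, sgF, idxF]
  · simp [Gate.opFun, sgF, idxF]
  · simp [Gate.opFun, sgF, idxF]
  · simp [Gate.opFun, sgF, idxF]
  · simp [isMono] at hg

/-- The permutation of the indices of a circuit. -/
def idxL : List (Gate n) → B n → B n
  | [], e => e
  | g :: C, e => idxF g (idxL C e)

/-- The sign of a circuit. -/
def sgL : List (Gate n) → B n → ZMod 2
  | [], _ => 0
  | g :: C, e => sgL C e + sgF g (idxL C e)

theorem opL_mono (R : Type*) [CommRing R] {C : List (Gate n)} (hC : monoC C = true) (f : B n → R) (e : B n) :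
    opL R C f e = sg R (sgL C e) * f (idxL C e) := by
  induction C generalizing f with
  | nil => simp [opL, sgL, idxL]
  | cons g C ih =>
    have hC' : and (isMono g) (monoC C) = true := hC
    rw [Bool.and_eq_true] at hC'
    show opL R C (g.op R f) e = _
    rw [ih hC'.2, Gate.op_apply, opFun_mono R hC'.1]
    simp only [sgL, idxL, sg_add]
    ring

/-- The effect of a gate on planes: `n` index planes and the sign plane. -/
def trkG (F : ℕ) : Gate n → List ℕ → List ℕ
  | .X i, L => xin L i F
  | .Z i, L => xin L n (get L i)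
  | .CZ i j _, L => xin L n (Nat.land (get L i) (get L j))
  | .CNOT i j _, L => xin L j (get L i)
  | .H _, L => L

/-- The index in lane `t`. -/
def eP (n : ℕ) (L : List ℕ) (t : ℕ) : B n := fun k => bit (get L k) t

/-- The sign in lane `t`. -/
def sP (n : ℕ) (L : List ℕ) (t : ℕ) : ZMod 2 := bit (get L n) t

theorem length_trkG (F : ℕ) (g : Gate n) (L : List ℕ) : (trkG F g L).length = L.length := by
  rcases g with i | i | ⟨i, j, h⟩ | ⟨i, j, h⟩ | i <;> simp [trkG]

theorem eP_trkG {F t : ℕ} (hF : bit F t = 1) (g : Gate n) {L : List ℕ} (hL : L.length = n + 1) :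
    eP n (trkG F g L) t = idxF g (eP n L t) := by
  have hn : n < L.length := by omega
  have hi : ∀ i : Fin n, (i : ℕ) < L.length := fun i => by have := i.2; omega
  rcases g with i | i | ⟨i, j, h⟩ | ⟨i, j, h⟩ | i
  · funext k
    show bit (get (xin L i F) k) t = bit (get L k) t + dl i k
    rw [get_xin (hi i), dl_apply]
    by_cases hk : k.val = i.val
    · rw [if_pos hk, if_pos hk, bit_xor, hF]
    · rw [if_neg hk, if_neg hk, add_zero]
  · funext k
    show bit (get (xin L n (get L i)) k) t = bit (get L k) t
    rw [get_xin hn, if_neg (by have := k.2; omega)]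
  · funext k
    show bit (get (xin L n (Nat.land (get L i) (get L j))) k) t = bit (get L k) t
    rw [get_xin hn, if_neg (by have := k.2; omega)]
  · funext k
    show bit (get (xin L j (get L i)) k) t = bit (get L k) t + bit (get L i) t * dl j k
    rw [get_xin (hi j), dl_apply]
    by_cases hk : k.val = j.val
    · rw [if_pos hk, if_pos hk, bit_xor, mul_one]
    · rw [if_neg hk, if_neg hk, mul_zero, add_zero]
  · rfl

theorem sP_trkG {F t : ℕ} (g : Gate n) {L : List ℕ} (hL : L.length = n + 1) :
    sP n (trkG F g L) t = sP n L t + sgF g (eP n L t) := by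
  have hn : n < L.length := by omega
  have hi : ∀ i : Fin n, (i : ℕ) < L.length := fun i => by have := i.2; omega
  have hne : ∀ i : Fin n, n ≠ (i : ℕ) := fun i => by have := i.2; omega
  rcases g with i | i | ⟨i, j, h⟩ | ⟨i, j, h⟩ | i
  · show bit (get (xin L i F) n) t = bit (get L n) t + 0
    rw [get_xin (hi i), if_neg (hne i), add_zero]
  · show bit (get (xin L n (get L i)) n) t = bit (get L n) t + bit (get L i) t
    rw [get_xin hn, if_pos rfl, bit_xor]
  · show bit (get (xin L n (Nat.land (get L i) (get L j))) n) t =
      bit (get L n) t + bit (get L i) t * bit (get L j) t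
    rw [get_xin hn, if_pos rfl, bit_xor, land_eq, bit_and]
  · show bit (get (xin L j (get L i)) n) t = bit (get L n) t + 0
    rw [get_xin (hi j), if_neg (hne j), add_zero]
  · show bit (get L n) t = bit (get L n) t + 0
    rw [add_zero]

/-- The effect of a circuit on planes. -/
def trkL (F : ℕ) : List (Gate n) → List ℕ → List ℕ
  | [], L => L
  | g :: C, L => trkG F g (trkL F C L)

theorem length_trkL (F : ℕ) (C : List (Gate n)) (L : List ℕ) : (trkL F C L).length = L.length := by
  induction C with
  | nil => rfl
  | cons g C ih => rw [trkL, length_trkG, ih]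

theorem eP_trkL {F t : ℕ} (hF : bit F t = 1) (C : List (Gate n)) {L : List ℕ} (hL : L.length = n + 1) :
    eP n (trkL F C L) t = idxL C (eP n L t) := by
  induction C with
  | nil => rfl
  | cons g C ih => rw [trkL, eP_trkG hF g (by rw [length_trkL, hL]), ih]; rfl

theorem sP_trkL {F t : ℕ} (hF : bit F t = 1) (C : List (Gate n)) {L : List ℕ} (hL : L.length = n + 1) :
    sP n (trkL F C L) t = sP n L t + sgL C (eP n L t) := by
  induction C with
  | nil => show _ = _ + 0; rw [add_zero]; rfl
  | cons g C ih =>
    rw [trkL, sP_trkG g (by rw [length_trkL, hL]), ih, eP_trkL hF C hL, add_assoc]; rfl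

end Cfsg.Agent.Monster.TrkPlanes
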