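import Mathlib
import Cfsg.Agent.Monster.RegMono
import Cfsg.Agent.Monster.TrkPlanes

/-!
Programs on lanes `i = 32 b + s` (block `b`, slot `s < 24`) acting on decomposable functions
`g(b) * w(s)`.
-/

set_option autoImplicit false

namespace Cfsg.Agent.Monster.TensorProg

open Cfsg.Agent.Lib.PermNet Cfsg.Agent.Monster.VecEngine
open Cfsg.Agent.Monster.PauliBasic Cfsg.Agent.Monster.PauliGates Cfsg.Agent.Monster.PauliBits
open Cfsg.Agent.Monster.PauliPlanes Cfsg.Agent.Monster.RegMono Cfsg.Agent.Monster.TrkPlanes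

/-! ### Patterns -/

/-- The pattern of the 32 lowest bits of `x`, repeated `2 ^ k` times. -/
noncomputable def rep (x : ℕ) (k : ℕ) : ℕ :=
  Nat.rec (motive := fun _ => ℕ) (Nat.land x 0xffffffff)
    (fun j y => Nat.lor y (Nat.shiftLeft y (Nat.shiftLeft 32 j))) k

theorem rep_zero (x : ℕ) : rep x 0 = x &&& 0xffffffff := rfl
theorem rep_succ (x k : ℕ) : rep x (k + 1) = rep x k ||| (rep x k <<< (32 <<< k)) := rfl

theorem testBit_rep_of_le (x k i : ℕ) (h : 32 * 2 ^ k ≤ i) : (rep x k).testBit i = false := by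
  induction k generalizing i with
  | zero =>
    rw [rep_zero, Nat.testBit_and]
    have : (0xffffffff : ℕ).testBit i = false := by
      apply Nat.testBit_lt_two_pow
      exact lt_of_lt_of_le (by norm_num : (0xffffffff : ℕ) < 2 ^ 32)
        (Nat.pow_le_pow_right (by norm_num) (by omega))
    rw [this, Bool.and_false]
  | succ k ih =>
    have h2 : 32 * 2 ^ (k + 1) = 32 * 2 ^ k + 32 * 2 ^ k := by rw [pow_succ]; ring
    have h3 : (32 : ℕ) <<< k = 32 * 2 ^ k := Nat.shiftLeft_eq 32 k
    rw [rep_succ, Nat.testBit_or, ih i (by omega), Nat.testBit_shiftLeft, h3,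
      ih (i - 32 * 2 ^ k) (by omega)]
    simp

theorem testBit_rep (x k i : ℕ) (h : i < 32 * 2 ^ k) : (rep x k).testBit i = x.testBit (i % 32) := by
  induction k generalizing i with
  | zero =>
    rw [rep_zero, Nat.testBit_and]
    have h1 : i < 32 := by omega
    have : (0xffffffff : ℕ).testBit i = true := by
      have h2 : (0xffffffff : ℕ) = 2 ^ 32 - 1 := by norm_num
      rw [h2, Nat.testBit_two_pow_sub_one]; simpa using h1
    rw [this, Bool.and_true, Nat.mod_eq_of_lt h1]
  | succ k ih =>
    have h2 : 32 * 2 ^ (k + 1) = 32 * 2 ^ k + 32 * 2 ^ k := by rw [pow_succ]; ring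
    have h3 : (32 : ℕ) <<< k = 32 * 2 ^ k := Nat.shiftLeft_eq 32 k
    rw [rep_succ, Nat.testBit_or, Nat.testBit_shiftLeft, h3]
    by_cases h4 : i < 32 * 2 ^ k
    · have h5 : ¬ (32 * 2 ^ k ≤ i) := by omega
      rw [ih i h4]; simp [h5]
    · have h5 : 32 * 2 ^ k ≤ i := by omega
      rw [testBit_rep_of_le x k i h5, ih (i - 32 * 2 ^ k) (by omega)]
      have h6 : (i - 32 * 2 ^ k) % 32 = i % 32 := by omega
      rw [h6]; simp [h5]

/-- Each of the `n` lowest bits of `x` is spread over 32 bits. -/
noncomputable def spr (x : ℕ) (n : ℕ) : ℕ :=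
  Nat.rec (motive := fun _ => ℕ) 0
    (fun r y => Nat.lor y (Nat.shiftLeft (Nat.mul (Nat.land (Nat.shiftRight x r) 1) 0xffffffff)
      (Nat.mul 32 r))) n

theorem spr_succ (x n : ℕ) :
    spr x (n + 1) = spr x n ||| (((x >>> n) &&& 1) * 0xffffffff) <<< (32 * n) := rfl

theorem testBit_bit_mul (x n j : ℕ) :
    (((x >>> n) &&& 1) * 0xffffffff).testBit j = (x.testBit n && decide (j < 32)) := by
  have h2 : (0xffffffff : ℕ) = 2 ^ 32 - 1 := by norm_num
  have h1 : (x >>> n) &&& 1 = if x.testBit n then 1 else 0 := by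
    rw [Nat.and_one_is_mod]
    have : x.testBit n = decide ((x >>> n) % 2 = 1) := by
      rw [← Nat.testBit_zero, Nat.testBit_shiftRight, Nat.add_zero]
    rw [this]
    rcases Nat.mod_two_eq_zero_or_one (x >>> n) with h2 | h2 <;> simp [h2]
  rw [h1]
  by_cases h3 : x.testBit n = true
  · rw [if_pos h3, one_mul, h2, Nat.testBit_two_pow_sub_one, h3, Bool.true_and]
  · rw [if_neg h3, zero_mul, Nat.zero_testBit]
    simp [h3]

theorem testBit_spr (x n i : ℕ) :
    (spr x n).testBit i = (x.testBit (i / 32) && decide (i < 32 * n)) := by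
  induction n with
  | zero => show (0 : ℕ).testBit i = _; simp
  | succ n ih =>
    rw [spr_succ, Nat.testBit_or, ih, Nat.testBit_shiftLeft, testBit_bit_mul]
    by_cases h1 : i < 32 * n
    · have h2 : ¬ (32 * n ≤ i) := by omega
      have h3 : i < 32 * (n + 1) := by omega
      simp [h1, h2, h3]
    · by_cases h4 : i < 32 * (n + 1)
      · have h2 : 32 * n ≤ i := by omega
        have h5 : i - 32 * n < 32 := by omega
        have h6 : i / 32 = n := by omega
        simp [h1, h2, h4, h5, h6]
      · have h5 : ¬ (i - 32 * n < 32) := by omega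
        simp [h1, h4, h5]

/-! ### Regions -/

/-- The lanes with `2 ^ 17 ≤ i < 2 ^ 18`, slot `< 24`. -/
noncomputable def UW : ℕ := Nat.shiftLeft (rep 0xffffff 12) 131072

/-- The `24 × 24` lanes `61440 + 32 r + s`. -/
noncomputable def UM : ℕ := Nat.shiftLeft (Nat.land (rep 0xffffff 5) (spr 0xffffff 32)) 61440

theorem testBit_24 (i : ℕ) : (0xffffff : ℕ).testBit i = decide (i < 24) := by
  have h2 : (0xffffff : ℕ) = 2 ^ 24 - 1 := by norm_num
  rw [h2, Nat.testBit_two_pow_sub_one]

theorem testBit_UW (i : ℕ) :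
    UW.testBit i = (decide (131072 ≤ i) && (decide (i < 262144) && decide (i % 32 < 24))) := by
  show ((rep 0xffffff 12) <<< 131072).testBit i = _
  rw [Nat.testBit_shiftLeft]
  by_cases h1 : 131072 ≤ i
  · by_cases h2 : i < 262144
    · rw [testBit_rep _ _ _ (by norm_num; omega), testBit_24]
      have : (i - 131072) % 32 = i % 32 := by omega
      simp [h1, h2, this]
    · rw [testBit_rep_of_le _ _ _ (by norm_num; omega)]
      simp [h2]
  · simp [h1]

theorem testBit_UM (i : ℕ) :
    UM.testBit i = (decide (61440 ≤ i) && (decide (i < 62208) && decide (i % 32 < 24))) := by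
  show (((rep 0xffffff 5) &&& (spr 0xffffff 32)) <<< 61440).testBit i = _
  rw [Nat.testBit_shiftLeft, Nat.testBit_and, testBit_spr, testBit_24]
  by_cases h1 : 61440 ≤ i
  · by_cases h2 : i < 62208
    · rw [testBit_rep _ _ _ (by norm_num; omega), testBit_24]
      have h3 : (i - 61440) % 32 = i % 32 := by omega
      have h4 : (i - 61440) / 32 < 24 := by omega
      have h5 : i - 61440 < 32 * 32 := by omega
      simp [h1, h2, h3, h4]
      intro _
      omega
    · have h4 : ¬ ((i - 61440) / 32 < 24) := by omega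
      simp [h2, h4]
  · simp [h1]

/-- A mask consisting of blocks with the slots `< 24`. -/
structure Reg (U : ℕ) (A B : ℕ) : Prop where
  iff : ∀ i, U.testBit i = true ↔ A ≤ i ∧ i < B ∧ i % 32 < 24
  A32 : 32 ∣ A
  B32 : 32 ∣ B
  B18 : B ≤ 262144

theorem regW : Reg UW 131072 262144 := by
  refine ⟨fun i => ?_, by norm_num, by norm_num, le_rfl⟩
  rw [testBit_UW]; simp

theorem regM : Reg UM 61440 62208 := by
  refine ⟨fun i => ?_, by norm_num, by norm_num, by norm_num⟩
  rw [testBit_UM]; simp

/-! ### Decomposable functions -/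

/-- The function `g(block) * w(slot)` on the lanes of `U`. -/
def Phi (U : ℕ) (g w : ℕ → ℚ) : ℕ → ℚ :=
  fun i => if U.testBit i = true then g (i / 32) * w (i % 32) else 0

/-- Functions supported on the 24 slots. -/
def Sup (w : ℕ → ℚ) : Prop := ∀ s, 24 ≤ s → w s = 0

theorem Phi_of_true {U i : ℕ} (h : U.testBit i = true) (g w : ℕ → ℚ) :
    Phi U g w i = g (i / 32) * w (i % 32) := if_pos h

theorem Phi_of_not {U i : ℕ} (h : ¬ U.testBit i = true) (g w : ℕ → ℚ) : Phi U g w i = 0 := if_neg h

theorem Phi_smul_right (U : ℕ) (c : ℚ) (g w : ℕ → ℚ) : Phi U g (c • w) = c • Phi U g w := by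
  funext i
  show Phi U g (c • w) i = c * Phi U g w i
  unfold Phi
  split_ifs
  · show _ * (c * w _) = _; ring
  · rw [mul_zero]

theorem Phi_smul_left (U : ℕ) (c : ℚ) (g w : ℕ → ℚ) : Phi U (c • g) w = c • Phi U g w := by
  funext i
  show Phi U (c • g) w i = c * Phi U g w i
  unfold Phi
  split_ifs
  · show (c * g _) * _ = _; ring
  · rw [mul_zero]

/-! ### Comparison of planes -/

/-- Equality of planes on the lanes of `U`. -/
noncomputable def eqU (U a b : ℕ) : Bool := Nat.beq (Nat.land (Nat.xor a b) U) 0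

theorem bit_of_eqU {U a b : ℕ} (h : eqU U a b = true) {i : ℕ} (hi : U.testBit i = true) :
    bit a i = bit b i := by
  have h1 : (a ^^^ b) &&& U = 0 := Nat.eq_of_beq_eq_true h
  have h2 : bit ((a ^^^ b) &&& U) i = 0 := by rw [h1, bit_zero]
  have h3 : bit U i = 1 := by rw [bit_eq_one_iff]; exact hi
  rw [bit_and, h3, mul_one, bit_xor] at h2
  have := zmod2_add_self (bit b i)
  linear_combination h2 - this

theorem testBit_of_eqU {U a b : ℕ} (h : eqU U a b = true) {i : ℕ} (hi : U.testBit i = true) :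
    a.testBit i = b.testBit i := by
  have h1 := bit_of_eqU h hi
  by_cases ha : a.testBit i = true
  · rw [ha, eq_comm]
    rw [← bit_eq_one_iff] at ha ⊢
    rw [← h1, ha]
  · have hb : ¬ b.testBit i = true := by
      intro hb
      rw [← bit_eq_one_iff, ← h1, bit_eq_one_iff] at hb
      exact ha hb
    simp only [Bool.not_eq_true] at ha hb
    rw [ha, hb]

/-! ### Monomial programs -/

/-- Index planes of `2 ^ 18` lanes, and an empty sign plane. -/
noncomputable def ix : List ℕ :=
  [plane 18 0, plane 18 1, plane 18 2, plane 18 3, plane 18 4, plane 18 5, plane 18 6, plane 18 7,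
    plane 18 8, plane 18 9, plane 18 10, plane 18 11, plane 18 12, plane 18 13, plane 18 14,
    plane 18 15, plane 18 16, plane 18 17, 0]

theorem get_list18 (f : ℕ → ℕ) {k : ℕ} (hk : k < 18) :
    get [f 0, f 1, f 2, f 3, f 4, f 5, f 6, f 7, f 8, f 9, f 10, f 11, f 12, f 13, f 14, f 15,
      f 16, f 17, 0] k = f k := by
  interval_cases k <;> rfl

theorem get_ix {k : ℕ} (hk : k < 18) : get ix k = plane 18 k := get_list18 (plane 18) hk

theorem bit_plane {n b i : ℕ} (h : i < 2 ^ n) (hb : b < n) : bit (plane n b) i = bit i b := by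
  unfold bit; rw [testBit_plane n b i h hb]

/-- Index planes of the 32 slots, and an empty sign plane. -/
noncomputable def qx : List ℕ := [plane 5 0, plane 5 1, plane 5 2, plane 5 3, plane 5 4, 0]

theorem get_list5 (f : ℕ → ℕ) {k : ℕ} (hk : k < 5) :
    get [f 0, f 1, f 2, f 3, f 4, 0] k = f k := by
  interval_cases k <;> rfl

theorem get_qx {k : ℕ} (hk : k < 5) : get qx k = plane 5 k := get_list5 (plane 5) hk

/-- Index planes of the 12 qubits, and an empty sign plane. -/
noncomputable def tx : List ℕ :=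
  [plane 18 5, plane 18 6, plane 18 7,
    plane 18 8, plane 18 9, plane 18 10, plane 18 11, plane 18 12, plane 18 13, plane 18 14,
    plane 18 15, plane 18 16, 0]

theorem get_list12 (f : ℕ → ℕ) {k : ℕ} (hk : k < 12) :
    get [f 5, f 6, f 7, f 8, f 9, f 10, f 11, f 12, f 13, f 14, f 15, f 16, 0] k = f (5 + k) := by
  interval_cases k <;> rfl

theorem get_tx {k : ℕ} (hk : k < 12) : get tx k = plane 18 (5 + k) := get_list12 (plane 18) hk

/-- The mask with the lanes `< n`. -/
noncomputable def fullM (n : ℕ) : ℕ := Nat.sub (Nat.pow 2 n) 1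

theorem bit_fullM {n i : ℕ} (h : i < n) : bit (fullM n) i = 1 := by
  rw [bit_eq_one_iff]
  show (2 ^ n - 1).testBit i = true
  rw [Nat.testBit_two_pow_sub_one]
  simpa using h

/-- The full mask. -/
noncomputable def FU : ℕ := fullM 262144

theorem bit_FU {i : ℕ} (h : i < 262144) : bit FU i = 1 := bit_fullM h

/-- `all k < n`. -/
noncomputable def allB (p : ℕ → Bool) (n : ℕ) : Bool :=
  Nat.rec (motive := fun _ => Bool) true (fun k ih => and (p k) ih) n

theorem allB_spec {p : ℕ → Bool} {n : ℕ} (h : allB p n = true) {k : ℕ} (hk : k < n) : p k = true := by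
  induction n with
  | zero => omega
  | succ n ih =>
    have h' : and (p n) (allB p n) = true := h
    rw [Bool.and_eq_true] at h'
    rcases Nat.lt_succ_iff_lt_or_eq.1 hk with h1 | rfl
    · exact ih h'.2 h1
    · exact h'.1

/-- The slot part of the comparison. -/
noncomputable def cmpS (U : ℕ) (L S : List ℕ) : Bool :=
  allB (fun k => eqU U (get L k) (rep (get S k) 13)) 5

/-- The block part of the comparison, on the region of the spin lanes. -/
noncomputable def cmpT (L E : List ℕ) : Bool :=
  allB (fun k => eqU UW (get L (Nat.add 5 k)) (get E k)) 12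

/-- The block part of the comparison, on the region of the matrix. -/
noncomputable def cmpR (L S : List ℕ) : Bool :=
  allB (fun k => eqU UM (get L (Nat.add 5 k)) (Nat.shiftLeft (spr (get S k) 32) 61440)) 5

/-- The check of a monomial program on the spin lanes. -/
noncomputable def chkW (P : Prog) (C : List (Gate 12)) (Q : Prog) : Bool :=
  and (regOK P UW 0 0 UW) (and (regOK Q 0xffffff 0 0 0xffffff) (and (monoC C)
    ((fun L S E => and (cmpS UW L S) (and (cmpT L E)
      (eqU UW (get L 18) (Nat.xor (get E 12) (rep (get S 5) 13)))))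
      (push 18 P ix) (push 5 Q qx) (trkL FU C tx))))

/-- The check of a monomial program on the matrix lanes. -/
noncomputable def chkM (P Q : Prog) : Bool :=
  and (regOK P UM 0 0 UM) (and (regOK Q 0xffffff 0 0 0xffffff)
    ((fun L S => and (cmpS UM L S) (and (cmpR L S)
      (eqU UM (get L 18) (Nat.xor (Nat.shiftLeft (spr (get S 5) 32) 61440) (rep (get S 5) 13)))))
      (push 18 P ix) (push 5 Q qx)))

theorem lt_32_of_24 {s : ℕ} (h : (0xffffff : ℕ).testBit s = true) : s < 24 := by
  rw [testBit_24] at h; simpa using h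

theorem eq_of_bits {x y n : ℕ} (hx : x < 2 ^ n) (hy : y < 2 ^ n) (h : ∀ k < n, bit x k = bit y k) :
    x = y := by
  apply Nat.eq_of_testBit_eq
  intro k
  by_cases hk : k < n
  · have h1 := h k hk
    by_cases ha : x.testBit k = true
    · rw [ha, eq_comm]
      rw [← bit_eq_one_iff] at ha ⊢
      rw [← h1, ha]
    · have hb : ¬ y.testBit k = true := by
        intro hb
        rw [← bit_eq_one_iff, ← h1, bit_eq_one_iff] at hb
        exact ha hb
      simp only [Bool.not_eq_true] at ha hb
      rw [ha, hb]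
  · push Not at hk
    rw [Nat.testBit_lt_two_pow (lt_of_lt_of_le hx (Nat.pow_le_pow_right (by norm_num) hk)),
      Nat.testBit_lt_two_pow (lt_of_lt_of_le hy (Nat.pow_le_pow_right (by norm_num) hk))]

theorem bit_mod32 (i k : ℕ) (hk : k < 5) : bit (i % 32) k = bit i k := by
  unfold bit
  rw [show (32 : ℕ) = 2 ^ 5 by norm_num, Nat.testBit_mod_two_pow]
  simp [hk]

theorem bit_div32 (i k : ℕ) : bit (i / 32) k = bit i (5 + k) := by
  unfold bit
  rw [show (32 : ℕ) = 2 ^ 5 by norm_num, Nat.testBit_div_two_pow]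
  rw [Nat.add_comm]

theorem div32 (i : ℕ) : i >>> 5 = i / 32 := by rw [Nat.shiftRight_eq_div_pow]

/-- A monomial slot program preserves the support. -/
theorem sup_of_mono {Q : Prog} {π : ℕ → ℕ} {δ : ℕ → ZMod 2} (hM : Mono ℚ Q 0xffffff 0xffffff π δ)
    {w : ℕ → ℚ} (hw : Sup w) : Sup (sem ℚ Q w) := by
  intro s hs
  rw [hM.sem_eq w (fun i hi => hw i (by rw [testBit_24] at hi; simpa using hi)) s]
  have h1 := hM.mask s
  rw [testBit_24, testBit_24] at h1
  have h2 : ¬ s < 24 := by omega
  rw [decide_eq_false h2] at h1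
  have h3 : ¬ π s < 24 := by
    intro h; rw [decide_eq_true h] at h1; exact absurd h1 (by simp)
  rw [hw (π s) (by omega), mul_zero]

/-- Common part of the two versions of the check. -/
theorem mono_slot {P Q : Prog} {U : ℕ} {A B : ℕ} (hU : Reg U A B) {σ : ℕ → ℕ} {ε : ℕ → ZMod 2}
    {π : ℕ → ℕ} {δ : ℕ → ZMod 2} (hP : Mono ℚ P U U σ ε) (hQ : Mono ℚ Q 0xffffff 0xffffff π δ)
    (hS : cmpS U (push 18 P ix) (push 5 Q qx) = true) {i : ℕ} (hi : U.testBit i = true) :
    σ i % 32 = π (i % 32) ∧ U.testBit (σ i) = true ∧ σ i < 262144 ∧ π (i % 32) < 24 ∧ i < 262144 := by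
  have hσ : U.testBit (σ i) = true := by rw [← hP.mask]; exact hi
  have hi' := (hU.iff i).1 hi
  have hσ' := (hU.iff _).1 hσ
  have hB := hU.B18
  have hπ : π (i % 32) < 24 := by
    apply lt_32_of_24
    rw [← hQ.mask, testBit_24]
    simpa using hi'.2.2
  refine ⟨?_, hσ, by omega, hπ, by omega⟩
  refine eq_of_bits (n := 5) (show σ i % 32 < 2 ^ 5 from Nat.mod_lt _ (by norm_num))
    (show π (i % 32) < 2 ^ 5 by norm_num; omega) ?_
  intro k hk
  have h1 := allB_spec hS hk
  have h2 := bit_of_eqU h1 hi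
  have h3 := hP.push_eq 18 ix (by decide) k (by show k < 19; omega) i
  have h4 := hQ.push_eq 5 qx (by decide) k (by show k < 6; omega) (i % 32)
  rw [if_neg (by omega), add_zero, get_ix (by omega), bit_plane (by norm_num; omega) (by omega)] at h3
  rw [if_neg (by omega), add_zero, get_qx hk, bit_plane (by norm_num; omega) (by omega)] at h4
  rw [bit_mod32 _ _ hk, ← h3, h2, ← h4]
  have hlt : i < 32 * 2 ^ 13 := by norm_num; omega
  unfold bit
  rw [testBit_rep _ _ _ hlt]

/-- Monomial programs on the spin lanes. -/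
theorem semW {P Q : Prog} {C : List (Gate 12)} {m m' : ℕ} (hPo : P.ok m = true)
    (hQo : Q.ok m' = true) (h : chkW P C Q = true) (f : B 12 → ℚ) (w : ℕ → ℚ) (hw : Sup w) :
    sem ℚ P (Phi UW (fun b => f (PauliBits.vec 12 b)) w) =
      Phi UW (fun b => opL ℚ C f (PauliBits.vec 12 b)) (sem ℚ Q w) ∧ Sup (sem ℚ Q w) := by
  have h' : and (regOK P UW 0 0 UW) (and (regOK Q 0xffffff 0 0 0xffffff) (and (monoC C)
    (and (cmpS UW (push 18 P ix) (push 5 Q qx)) (and (cmpT (push 18 P ix) (trkL FU C tx))
      (eqU UW (get (push 18 P ix) 18) (Nat.xor (get (trkL FU C tx) 12)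
        (rep (get (push 5 Q qx) 5) 13))))))) = true := h
  simp only [Bool.and_eq_true] at h'
  obtain ⟨h1, h2, h3, h4, h5, h6⟩ := h'
  obtain ⟨σ, ε, hP⟩ := exists_mono ℚ two_ne_zero hPo h1
  obtain ⟨π, δ, hQ⟩ := exists_mono ℚ two_ne_zero hQo h2
  refine ⟨?_, sup_of_mono hQ hw⟩
  funext i
  rw [hP.sem_eq _ (fun j hj => Phi_of_not (by rw [hj]; simp) _ _)]
  by_cases hi : UW.testBit i = true
  · obtain ⟨e1, hσ, hlt, hπ, hilt⟩ := mono_slot regW hP hQ h4 hi
    have hC : ∀ k : Fin 13, (k : ℕ) < tx.length := fun k => k.2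
    have hF : bit FU i = 1 := bit_FU hilt
    have e3 : eP 12 tx i = PauliBits.vec 12 (i / 32) := by
      funext k
      show bit (get tx k) i = bit (i / 32) k
      rw [get_tx k.2, bit_plane (by norm_num; omega) (by have := k.2; omega), bit_div32]
    have e2 : PauliBits.vec 12 (σ i / 32) = idxL C (PauliBits.vec 12 (i / 32)) := by
      funext k
      have hk := k.2
      rw [← e3, ← eP_trkL hF C (by rfl)]
      show bit (σ i / 32) k = bit (get (trkL FU C tx) k) i
      have g1 := bit_of_eqU (allB_spec h5 hk) hi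
      rw [← g1, bit_div32]
      have g2 := hP.push_eq 18 ix (by decide) (5 + k) (by show 5 + (k : ℕ) < 19; omega) i
      rw [if_neg (by omega), add_zero, get_ix (by omega),
        bit_plane (by norm_num; omega) (by omega)] at g2
      exact g2.symm
    have e4 : ε i = sgL C (PauliBits.vec 12 (i / 32)) + δ (i % 32) := by
      have g1 := bit_of_eqU h6 hi
      have g2 := hP.push_eq 18 ix (by decide) 18 (by decide) i
      have g0 : get ix 18 = 0 := rfl
      rw [if_pos rfl, g0, bit_zero, zero_add] at g2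
      have g3 := hQ.push_eq 5 qx (by decide) 5 (by decide) (i % 32)
      have g0' : get qx 5 = 0 := rfl
      rw [if_pos rfl, g0', bit_zero, zero_add] at g3
      rw [g2, show Nat.xor (get (trkL FU C tx) 12) (rep (get (push 5 Q qx) 5) 13) =
        (get (trkL FU C tx) 12) ^^^ (rep (get (push 5 Q qx) 5) 13) from rfl, bit_xor] at g1
      have k1 : bit (get (trkL FU C tx) 12) i = sgL C (PauliBits.vec 12 (i / 32)) := by
        have g4 := sP_trkL hF C (L := tx) (by rfl)
        have g5 : sP 12 tx i = 0 := by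
          show bit (get tx 12) i = 0
          have : get tx 12 = 0 := rfl
          rw [this, bit_zero]
        rw [g5, zero_add, e3] at g4
        exact g4
      have k2 : bit (rep (get (push 5 Q qx) 5) 13) i = bit (get (push 5 Q qx) 5) (i % 32) := by
        have hlt' : i < 32 * 2 ^ 13 := by norm_num; omega
        unfold bit
        rw [testBit_rep _ _ _ hlt']
      rw [g1, k1, k2, g3]
    rw [Phi_of_true hσ, Phi_of_true hi, e1, e2, e4, opL_mono ℚ h3,
      hQ.sem_eq w (fun j hj => hw j (by rw [testBit_24] at hj; simpa using hj)), sg_add]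
    ring
  · have hσ : ¬ UW.testBit (σ i) = true := by rw [← hP.mask]; exact hi
    rw [Phi_of_not hσ, Phi_of_not hi, mul_zero]

/-- Monomial programs on the matrix lanes. -/
theorem semM {P Q : Prog} {m m' : ℕ} (hPo : P.ok m = true)
    (hQo : Q.ok m' = true) (h : chkM P Q = true) (v w : ℕ → ℚ) (hv : Sup v) (hw : Sup w) :
    sem ℚ P (Phi UM (fun b => v (b % 32)) w) =
      Phi UM (fun b => sem ℚ Q v (b % 32)) (sem ℚ Q w) ∧ Sup (sem ℚ Q w) := by
  have h' : and (regOK P UM 0 0 UM) (and (regOK Q 0xffffff 0 0 0xffffff)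
    (and (cmpS UM (push 18 P ix) (push 5 Q qx)) (and (cmpR (push 18 P ix) (push 5 Q qx))
      (eqU UM (get (push 18 P ix) 18) (Nat.xor (Nat.shiftLeft (spr (get (push 5 Q qx) 5) 32) 61440)
        (rep (get (push 5 Q qx) 5) 13)))))) = true := h
  simp only [Bool.and_eq_true] at h'
  obtain ⟨h1, h2, h4, h5, h6⟩ := h'
  obtain ⟨σ, ε, hP⟩ := exists_mono ℚ two_ne_zero hPo h1
  obtain ⟨π, δ, hQ⟩ := exists_mono ℚ two_ne_zero hQo h2
  refine ⟨?_, sup_of_mono hQ hw⟩
  funext i
  rw [hP.sem_eq _ (fun j hj => Phi_of_not (by rw [hj]; simp) _ _)]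
  by_cases hi : UM.testBit i = true
  · obtain ⟨e1, hσ, hlt, hπ, hilt⟩ := mono_slot regM hP hQ h4 hi
    have hi' := (regM.iff i).1 hi
    have hσ' := (regM.iff _).1 hσ
    have hr : i / 32 % 32 < 24 := by omega
    have hr' : σ i / 32 % 32 < 24 := by omega
    have hspr : ∀ x, bit (Nat.shiftLeft (spr x 32) 61440) i = bit x (i / 32 % 32) := by
      intro x
      show bit ((spr x 32) <<< 61440) i = _
      unfold bit
      rw [Nat.testBit_shiftLeft, testBit_spr]
      have g1 : (i - 61440) / 32 = i / 32 % 32 := by omega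
      have g2 : i - 61440 < 32 * 32 := by omega
      have g3 : i ≥ 61440 := by omega
      rw [g1, decide_eq_true g2, decide_eq_true g3, Bool.and_true, Bool.true_and]
    have hπ' : π (i / 32 % 32) < 24 := by
      apply lt_32_of_24
      rw [← hQ.mask, testBit_24]
      simpa using hr
    have e2 : σ i / 32 % 32 = π (i / 32 % 32) := by
      refine eq_of_bits (n := 5) (show σ i / 32 % 32 < 2 ^ 5 from Nat.mod_lt _ (by norm_num))
        (show π (i / 32 % 32) < 2 ^ 5 by norm_num; omega) ?_
      intro k hk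
      have g1 := bit_of_eqU (allB_spec h5 hk) hi
      rw [hspr] at g1
      have g2 := hP.push_eq 18 ix (by decide) (5 + k) (by show 5 + (k : ℕ) < 19; omega) i
      rw [if_neg (by omega), add_zero, get_ix (by omega),
        bit_plane (by norm_num; omega) (by omega)] at g2
      have g3 := hQ.push_eq 5 qx (by decide) k (by show k < 6; omega) (i / 32 % 32)
      rw [if_neg (by omega), add_zero, get_qx hk, bit_plane (by norm_num; omega) (by omega)] at g3
      rw [bit_mod32 _ _ hk, bit_div32, ← g2, ← g3]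
      exact g1
    have e4 : ε i = δ (i / 32 % 32) + δ (i % 32) := by
      have g1 := bit_of_eqU h6 hi
      have g2 := hP.push_eq 18 ix (by decide) 18 (by decide) i
      have g0 : get ix 18 = 0 := rfl
      rw [if_pos rfl, g0, bit_zero, zero_add] at g2
      have g3 := hQ.push_eq 5 qx (by decide) 5 (by decide) (i % 32)
      have g3' := hQ.push_eq 5 qx (by decide) 5 (by decide) (i / 32 % 32)
      have g0' : get qx 5 = 0 := rfl
      rw [if_pos rfl, g0', bit_zero, zero_add] at g3 g3'
      rw [g2, show Nat.xor (Nat.shiftLeft (spr (get (push 5 Q qx) 5) 32) 61440)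
        (rep (get (push 5 Q qx) 5) 13) =
        (Nat.shiftLeft (spr (get (push 5 Q qx) 5) 32) 61440) ^^^ (rep (get (push 5 Q qx) 5) 13) from rfl,
        bit_xor, hspr] at g1
      have k2 : bit (rep (get (push 5 Q qx) 5) 13) i = bit (get (push 5 Q qx) 5) (i % 32) := by
        have hlt' : i < 32 * 2 ^ 13 := by norm_num; omega
        unfold bit
        rw [testBit_rep _ _ _ hlt']
      rw [g1, k2, g3, g3']
    have hs : ∀ u : ℕ → ℚ, Sup u → ∀ s, sem ℚ Q u s = sg ℚ (δ s) * u (π s) := fun u hu s =>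
      hQ.sem_eq u (fun j hj => hu j (by rw [testBit_24] at hj; simpa using hj)) s
    rw [Phi_of_true hσ, Phi_of_true hi, e1, e2, e4, hs w hw, hs v hv, sg_add]
    ring
  · have hσ : ¬ UM.testBit (σ i) = true := by rw [← hP.mask]; exact hi
    rw [Phi_of_not hσ, Phi_of_not hi, mul_zero]

end Cfsg.Agent.Monster.TensorProg
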