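import Mathlib
import Cfsg.Agent.Monster.TensorProg
import Cfsg.Agent.Monster.VecSpace

/-!
Butterflies, doublings and halvings on decomposable functions.
-/

set_option autoImplicit false

namespace Cfsg.Agent.Monster.TensorBfly

open Cfsg.Agent.Lib.PermNet Cfsg.Agent.Monster.VecEngine Cfsg.Agent.Monster.VecSpace
open Cfsg.Agent.Monster.PauliBasic Cfsg.Agent.Monster.PauliGates Cfsg.Agent.Monster.PauliBits
open Cfsg.Agent.Monster.PauliPlanes Cfsg.Agent.Monster.RegMono Cfsg.Agent.Monster.TrkPlanes
open Cfsg.Agent.Monster.TensorProg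

/-- The condition of a butterfly preserving a mask. -/
noncomputable def folB (M d U : ℕ) : Bool := Nat.beq (Nat.land M (Nat.xor U (Nat.shiftRight U d))) 0

/-- The condition for a slot butterfly. -/
noncomputable def chkS (M d Mq U : ℕ) : Bool :=
  and (folB M d U) (and (eqU U M (rep Mq 13)) (and (Net.ok 32 (.cons Mq d .nil)) (folB Mq d 0xffffff)))

theorem lbfly_apply (M d : ℕ) (f : ℕ → ℚ) (i : ℕ) : lbfly ℚ M d f i =
    if M.testBit i = true then f i + f (i + d)
    else if d ≤ i ∧ M.testBit (i - d) = true then f (i - d) - f i else f i := rfl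

theorem testBit_rep13 (x : ℕ) {i : ℕ} (h : i < 262144) : (rep x 13).testBit i = x.testBit (i % 32) :=
  testBit_rep x 13 i (by norm_num; exact h)

/-- A butterfly of the slots. -/
theorem bfly_slot {U A B M d Mq : ℕ} (hU : Reg U A B) (h : chkS M d Mq U = true) (g w : ℕ → ℚ)
    (hw : Sup w) : lbfly ℚ M d (Phi U g w) = Phi U g (lbfly ℚ Mq d w) ∧ Sup (lbfly ℚ Mq d w) := by
  have h' : and (folB M d U) (and (eqU U M (rep Mq 13)) (and (Net.ok 32 (.cons Mq d .nil))
    (folB Mq d 0xffffff))) = true := h
  simp only [Bool.and_eq_true] at h'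
  obtain ⟨h1, h2, h3, h4⟩ := h'
  obtain ⟨-, hn2, -⟩ := Net.ok_cons h3
  have hlt : ∀ {s : ℕ}, Mq.testBit s = true → s + d < 32 := fun hs => lt_of_testBit hn2 hs
  have hq : ∀ {s : ℕ}, Mq.testBit s = true →
      (0xffffff : ℕ).testBit (s + d) = (0xffffff : ℕ).testBit s := fun hs => testBit_add_of_fol h4 hs
  have hf : ∀ {i : ℕ}, M.testBit i = true → U.testBit (i + d) = U.testBit i := fun hi =>
    testBit_add_of_fol h1 hi
  have hA := hU.A32
  have hB := hU.B32
  have hB18 := hU.B18
  have hMi : ∀ {i : ℕ}, U.testBit i = true → M.testBit i = Mq.testBit (i % 32) := by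
    intro i hi
    have h5 := (hU.iff i).1 hi
    rw [testBit_of_eqU h2 hi, testBit_rep13 _ (by omega)]
  constructor
  · funext i
    rw [lbfly_apply]
    by_cases hi : U.testBit i = true
    · have hi' := (hU.iff i).1 hi
      rw [Phi_of_true hi, Phi_of_true hi, lbfly_apply]
      by_cases c1 : M.testBit i = true
      · have c2 : Mq.testBit (i % 32) = true := by rw [← hMi hi]; exact c1
        have h6 := hlt c2
        have h7 : U.testBit (i + d) = true := by rw [hf c1]; exact hi
        rw [if_pos c1, if_pos c2, Phi_of_true h7]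
        have e1 : (i + d) / 32 = i / 32 := by omega
        have e2 : (i + d) % 32 = i % 32 + d := by omega
        rw [e1, e2]; ring
      · have c2 : ¬ Mq.testBit (i % 32) = true := by rw [← hMi hi]; exact c1
        rw [if_neg c1, if_neg c2]
        by_cases c3 : d ≤ i ∧ M.testBit (i - d) = true
        · have h7 : U.testBit (i - d) = true := by
            rw [← hf c3.2, Nat.sub_add_cancel c3.1]; exact hi
          have h8 : Mq.testBit ((i - d) % 32) = true := by rw [← hMi h7]; exact c3.2
          have h9 := hlt h8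
          have e1 : (i - d) / 32 = i / 32 := by omega
          have e2 : (i - d) % 32 = i % 32 - d := by omega
          have e3 : d ≤ i % 32 := by omega
          rw [if_pos c3, Phi_of_true h7, e1, e2, if_pos ⟨e3, by rw [← e2]; exact h8⟩]
          ring
        · rw [if_neg c3, if_neg]
          rintro ⟨c4, c5⟩
          apply c3
          have e2 : (i - d) % 32 = i % 32 - d := by omega
          have h7 : U.testBit (i - d) = true := (hU.iff _).2 (by omega)
          refine ⟨by omega, ?_⟩
          rw [hMi h7, e2]; exact c5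
    · rw [Phi_of_not hi, Phi_of_not hi]
      by_cases c1 : M.testBit i = true
      · have h7 : ¬ U.testBit (i + d) = true := by rw [hf c1]; exact hi
        rw [if_pos c1, Phi_of_not h7, add_zero]
      · rw [if_neg c1]
        by_cases c3 : d ≤ i ∧ M.testBit (i - d) = true
        · have h7 : ¬ U.testBit (i - d) = true := by
            rw [← hf c3.2, Nat.sub_add_cancel c3.1]; exact hi
          rw [if_pos c3, Phi_of_not h7, sub_zero]
        · rw [if_neg c3]
  · intro s hs
    rw [lbfly_apply]
    have g1 : (0xffffff : ℕ).testBit s = false := by rw [testBit_24]; simpa using hs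
    by_cases c1 : Mq.testBit s = true
    · have h7 := hq c1
      rw [g1] at h7
      have h8 : 24 ≤ s + d := by rw [testBit_24] at h7; simpa using h7
      rw [if_pos c1, hw s hs, hw (s + d) h8, add_zero]
    · rw [if_neg c1]
      by_cases c3 : d ≤ s ∧ Mq.testBit (s - d) = true
      · have h7 := hq c3.2
        rw [Nat.sub_add_cancel c3.1, g1] at h7
        have h8 : 24 ≤ s - d := by rw [testBit_24] at h7; simpa using h7.symm
        rw [if_pos c3, hw s hs, hw (s - d) h8, sub_zero]
      · rw [if_neg c3, hw s hs]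

/-- Adding a power of two at an unset bit. -/
theorem testBit_add_two_pow {b j : ℕ} (hb : b.testBit j = false) (k : ℕ) :
    (b + 2 ^ j).testBit k = if k = j then true else b.testBit k := by
  rw [Nat.add_comm]
  rcases lt_trichotomy k j with hk | hk | hk
  · rw [Nat.testBit_two_pow_add_gt hk, if_neg (by omega)]
  · subst hk
    rw [Nat.testBit_two_pow_add_eq, hb, if_pos rfl]; rfl
  · rw [if_neg (by omega)]
    have h10 := Nat.div_add_mod b (2 ^ (j + 1))
    have hp : 2 ^ (j + 1) = 2 * 2 ^ j := by ring
    have hlt : b % 2 ^ (j + 1) < 2 ^ (j + 1) := Nat.mod_lt _ (by positivity)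
    have h11 : b % 2 ^ (j + 1) < 2 ^ j := by
      by_contra hc
      push Not at hc
      have h12 : (b % 2 ^ (j + 1)).testBit j = true :=
        Nat.testBit_of_two_pow_le_and_two_pow_add_one_gt hc hlt
      rw [Nat.testBit_mod_two_pow, hb] at h12
      simp at h12
    have h13 : 2 ^ j + b = 2 ^ (j + 1) * (b / 2 ^ (j + 1)) + (b % 2 ^ (j + 1) + 2 ^ j) := by omega
    have h14 : b % 2 ^ (j + 1) + 2 ^ j < 2 ^ (j + 1) := by omega
    have c1 : ¬ (k < j + 1) := by omega
    have e1 := Nat.testBit_two_pow_mul_add (b / 2 ^ (j + 1)) h14 k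
    have e2 := Nat.testBit_two_pow_mul_add (b / 2 ^ (j + 1)) hlt k
    rw [h10] at e2
    rw [h13, e1, e2, if_neg c1, if_neg c1]

theorem add_two_pow_eq_xor {b j : ℕ} (hb : b.testBit j = false) : b + 2 ^ j = b ^^^ 2 ^ j := by
  apply Nat.eq_of_testBit_eq
  intro k
  rw [testBit_add_two_pow hb, Nat.testBit_xor, Nat.testBit_two_pow]
  by_cases hk : k = j
  · subst hk; rw [hb]; simp
  · have : j ≠ k := fun h => hk h.symm
    simp [hk, this]

/-- The condition for a butterfly of qubit `j`. -/
noncomputable def chkH (M j : ℕ) : Bool :=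
  and (folB M (Nat.shiftLeft 32 j) UW)
    (eqU UW M (Nat.xor FU (plane 18 (Nat.add 5 j))))

/-- A butterfly of a qubit. -/
theorem bfly_H {M : ℕ} (j : Fin 12) (h : chkH M j = true) (f : B 12 → ℚ) (w : ℕ → ℚ) :
    lbfly ℚ M (Nat.shiftLeft 32 j) (Phi UW (fun b => f (PauliBits.vec 12 b)) w) =
      Phi UW (fun b => (Gate.H j).op ℚ f (PauliBits.vec 12 b)) w := by
  have h' : and (folB M (Nat.shiftLeft 32 j) UW)
    (eqU UW M (Nat.xor FU (plane 18 (Nat.add 5 j)))) = true := h
  simp only [Bool.and_eq_true] at h'
  obtain ⟨h1, h2⟩ := h'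
  have hj := j.2
  have hd : Nat.shiftLeft 32 j = 32 * 2 ^ (j : ℕ) := Nat.shiftLeft_eq 32 j
  have hpow : 2 ^ (j : ℕ) ≤ 2048 := by
    calc 2 ^ (j : ℕ) ≤ 2 ^ 11 := Nat.pow_le_pow_right (by norm_num) (by omega)
      _ = 2048 := by norm_num
  have hf : ∀ {i : ℕ}, M.testBit i = true →
      UW.testBit (i + Nat.shiftLeft 32 j) = UW.testBit i := fun hi => testBit_add_of_fol h1 hi
  obtain ⟨d, hdd⟩ : ∃ d, d = Nat.shiftLeft 32 (j : ℕ) := ⟨_, rfl⟩
  rw [← hdd] at hf hd ⊢
  -- the bit of the block
  have hM : ∀ {i : ℕ}, UW.testBit i = true → (M.testBit i = !(i / 32).testBit j) := by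
    intro i hi
    have h5 := (regW.iff i).1 hi
    rw [testBit_of_eqU h2 hi]
    show (FU ^^^ (plane 18 (5 + j))).testBit i = _
    have e1 : FU.testBit i = true := by rw [← bit_eq_one_iff]; exact bit_FU (by omega)
    rw [Nat.testBit_xor, e1, testBit_plane 18 (5 + j) i (by norm_num; omega) (by omega)]
    have e2 : (i / 32).testBit j = i.testBit (5 + j) := by
      rw [show (32 : ℕ) = 2 ^ 5 by norm_num, Nat.testBit_div_two_pow, Nat.add_comm]
    rw [e2, Bool.true_xor]
  -- flipping the bit
  have hup : ∀ {b : ℕ}, b.testBit j = false →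
      PauliBits.vec 12 (b + 2 ^ (j : ℕ)) = PauliBits.vec 12 b + dl j := by
    intro b hb
    have e : b + 2 ^ (j : ℕ) = b ^^^ 2 ^ (j : ℕ) := add_two_pow_eq_xor hb
    rw [e, vec_xor]
    congr 1
    funext k
    show bit (2 ^ (j : ℕ)) k = dl j k
    unfold bit
    rw [Nat.testBit_two_pow, dl_apply]
    by_cases hk : (k : ℕ) = j
    · simp [hk]
    · have : (j : ℕ) ≠ k := fun h => hk h.symm
      simp [hk, this]
  funext i
  rw [lbfly_apply]
  by_cases hi : UW.testBit i = true
  · have hi' := (regW.iff i).1 hi
    rw [Phi_of_true hi, Phi_of_true hi]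
    have hMi := hM hi
    by_cases c1 : M.testBit i = true
    · have hb : (i / 32).testBit j = false := by rw [c1] at hMi; simpa using hMi.symm
      have h7 : UW.testBit (i + d) = true := by rw [hf c1]; exact hi
      rw [if_pos c1, Phi_of_true h7]
      have e1 : (i + d) / 32 = i / 32 + 2 ^ (j : ℕ) := by omega
      have e2 : (i + d) % 32 = i % 32 := by omega
      have e3 : PauliBits.vec 12 (i / 32) j = 0 := by
        show bit (i / 32) j = 0
        unfold bit; rw [hb]; rfl
      rw [e1, e2, hup hb, Gate.op_apply]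
      show _ = (f (PauliBits.vec 12 (i / 32) + PauliBits.vec 12 (i / 32) j • dl j) +
        sg ℚ (PauliBits.vec 12 (i / 32) j) *
          f (PauliBits.vec 12 (i / 32) + (PauliBits.vec 12 (i / 32) j + 1) • dl j)) * w (i % 32)
      rw [e3, zero_smul, add_zero, sg_zero, zero_add, one_smul]
      ring
    · have hb : (i / 32).testBit j = true := by
        rw [Bool.not_eq_true] at c1
        rw [c1] at hMi; simpa using hMi.symm
      rw [if_neg c1]
      have hge : 2 ^ (j : ℕ) ≤ i / 32 := Nat.ge_two_pow_of_testBit hb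
      have hge' : d ≤ i := by omega
      have e1 : i / 32 = (i - d) / 32 + 2 ^ (j : ℕ) := by omega
      have e2 : (i - d) % 32 = i % 32 := by omega
      have hb' : ((i - d) / 32).testBit j = false := by
        have : ((i - d) / 32 + 2 ^ (j : ℕ)).testBit j = true := by rw [← e1]; exact hb
        rw [Nat.add_comm, Nat.testBit_two_pow_add_eq] at this
        simpa using this
      have hA : 131072 ≤ i - d := by
        -- the block of `i - d` is at least 4096
        have h8 : (i / 32).testBit 12 = true := by
          have h9 : i / 32 < 2 ^ 13 := by norm_num; omega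
          have h10 : 2 ^ 12 ≤ i / 32 := by norm_num; omega
          exact Nat.testBit_of_two_pow_le_and_two_pow_add_one_gt h10 h9
        have h11 : ((i - d) / 32).testBit 12 = true := by
          have h12 : i / 32 = (i - d) / 32 ^^^ 2 ^ (j : ℕ) := by
            rw [← add_two_pow_eq_xor hb']; exact e1
          rw [h12, Nat.testBit_xor, Nat.testBit_two_pow] at h8
          have : ¬ ((j : ℕ) = 12) := by omega
          simpa [this] using h8
        have := Nat.ge_two_pow_of_testBit h11
        norm_num at this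
        omega
      have h7 : UW.testBit (i - d) = true := (regW.iff _).2 ⟨hA, by omega, by omega⟩
      have hM' : M.testBit (i - d) = true := by rw [hM h7, hb']; rfl
      rw [if_pos ⟨hge', hM'⟩, Phi_of_true h7]
      have e3 : PauliBits.vec 12 (i / 32) j = 1 := by
        show bit (i / 32) j = 1
        unfold bit; rw [hb]; rfl
      have e4 : PauliBits.vec 12 (i / 32) = PauliBits.vec 12 ((i - d) / 32) + dl j := by
        rw [← hup hb', ← e1]
      have e5 : PauliBits.vec 12 (i / 32) + dl j = PauliBits.vec 12 ((i - d) / 32) := by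
        rw [e4, add_add_cancel]
      rw [e2, Gate.op_apply]
      show _ = (f (PauliBits.vec 12 (i / 32) + PauliBits.vec 12 (i / 32) j • dl j) +
        sg ℚ (PauliBits.vec 12 (i / 32) j) *
          f (PauliBits.vec 12 (i / 32) + (PauliBits.vec 12 (i / 32) j + 1) • dl j)) * w (i % 32)
      rw [e3, one_smul, e5, sg_one, show (1 : ZMod 2) + 1 = 0 by decide, zero_smul, add_zero]
      ring
  · rw [Phi_of_not hi, Phi_of_not hi]
    by_cases c1 : M.testBit i = true
    · have h7 : ¬ UW.testBit (i + d) = true := by rw [hf c1]; exact hi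
      rw [if_pos c1, Phi_of_not h7, add_zero]
    · rw [if_neg c1]
      by_cases c3 : d ≤ i ∧ M.testBit (i - d) = true
      · have h7 : ¬ UW.testBit (i - d) = true := by
          rw [← hf c3.2, Nat.sub_add_cancel c3.1]; exact hi
        rw [if_pos c3, Phi_of_not h7, sub_zero]
      · rw [if_neg c3]

/-- The condition for a row butterfly of the matrix. -/
noncomputable def chkR (M D Mq : ℕ) : Bool :=
  and (folB M (Nat.mul 32 D) UM) (and (eqU UM M (Nat.shiftLeft (spr Mq 32) 61440))
    (and (Net.ok 32 (.cons Mq D .nil)) (folB Mq D 0xffffff)))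

/-- A butterfly of the rows of the matrix. -/
theorem bfly_row {M D Mq : ℕ} (h : chkR M D Mq = true) (v w : ℕ → ℚ) (hv : Sup v) :
    lbfly ℚ M (Nat.mul 32 D) (Phi UM (fun b => v (b % 32)) w) =
      Phi UM (fun b => lbfly ℚ Mq D v (b % 32)) w ∧ Sup (lbfly ℚ Mq D v) := by
  have h' : and (folB M (Nat.mul 32 D) UM) (and (eqU UM M (Nat.shiftLeft (spr Mq 32) 61440))
    (and (Net.ok 32 (.cons Mq D .nil)) (folB Mq D 0xffffff))) = true := h
  simp only [Bool.and_eq_true] at h'
  obtain ⟨h1, h2, h3, h4⟩ := h'
  obtain ⟨-, hn2, -⟩ := Net.ok_cons h3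
  have hlt : ∀ {s : ℕ}, Mq.testBit s = true → s + D < 32 := fun hs => lt_of_testBit hn2 hs
  have hq : ∀ {s : ℕ}, Mq.testBit s = true →
      (0xffffff : ℕ).testBit (s + D) = (0xffffff : ℕ).testBit s := fun hs => testBit_add_of_fol h4 hs
  have hf : ∀ {i : ℕ}, M.testBit i = true → UM.testBit (i + Nat.mul 32 D) = UM.testBit i := fun hi =>
    testBit_add_of_fol h1 hi
  have hmul : Nat.mul 32 D = 32 * D := rfl
  rw [hmul] at hf ⊢
  have hMi : ∀ {i : ℕ}, UM.testBit i = true → M.testBit i = Mq.testBit (i / 32 % 32) := by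
    intro i hi
    have h5 := (regM.iff i).1 hi
    rw [testBit_of_eqU h2 hi]
    show ((spr Mq 32) <<< 61440).testBit i = _
    rw [Nat.testBit_shiftLeft, testBit_spr]
    have g1 : (i - 61440) / 32 = i / 32 % 32 := by omega
    have g2 : i - 61440 < 32 * 32 := by omega
    have g3 : i ≥ 61440 := by omega
    rw [g1, decide_eq_true g2, decide_eq_true g3, Bool.and_true, Bool.true_and]
  constructor
  · funext i
    rw [lbfly_apply]
    by_cases hi : UM.testBit i = true
    · have hi' := (regM.iff i).1 hi
      rw [Phi_of_true hi, Phi_of_true hi, lbfly_apply]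
      by_cases c1 : M.testBit i = true
      · have c2 : Mq.testBit (i / 32 % 32) = true := by rw [← hMi hi]; exact c1
        have h6 := hlt c2
        have h7 : UM.testBit (i + 32 * D) = true := by rw [hf c1]; exact hi
        have h7' := (regM.iff _).1 h7
        rw [if_pos c1, if_pos c2, Phi_of_true h7]
        have e1 : (i + 32 * D) / 32 % 32 = i / 32 % 32 + D := by omega
        have e2 : (i + 32 * D) % 32 = i % 32 := by omega
        rw [e1, e2]; ring
      · have c2 : ¬ Mq.testBit (i / 32 % 32) = true := by rw [← hMi hi]; exact c1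
        rw [if_neg c1, if_neg c2]
        by_cases c3 : 32 * D ≤ i ∧ M.testBit (i - 32 * D) = true
        · have h7 : UM.testBit (i - 32 * D) = true := by
            rw [← hf c3.2, Nat.sub_add_cancel c3.1]; exact hi
          have h7' := (regM.iff _).1 h7
          have h8 : Mq.testBit ((i - 32 * D) / 32 % 32) = true := by rw [← hMi h7]; exact c3.2
          have e1 : (i - 32 * D) / 32 % 32 = i / 32 % 32 - D := by omega
          have e2 : (i - 32 * D) % 32 = i % 32 := by omega
          have e3 : D ≤ i / 32 % 32 := by omega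
          rw [if_pos c3, Phi_of_true h7, e1, e2, if_pos ⟨e3, by rw [← e1]; exact h8⟩]
          ring
        · rw [if_neg c3, if_neg]
          rintro ⟨c4, c5⟩
          apply c3
          have e2 : (i - 32 * D) / 32 % 32 = i / 32 % 32 - D := by omega
          have h7 : UM.testBit (i - 32 * D) = true := (regM.iff _).2 (by omega)
          refine ⟨by omega, ?_⟩
          rw [hMi h7, e2]; exact c5
    · rw [Phi_of_not hi, Phi_of_not hi]
      by_cases c1 : M.testBit i = true
      · have h7 : ¬ UM.testBit (i + 32 * D) = true := by rw [hf c1]; exact hi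
        rw [if_pos c1, Phi_of_not h7, add_zero]
      · rw [if_neg c1]
        by_cases c3 : 32 * D ≤ i ∧ M.testBit (i - 32 * D) = true
        · have h7 : ¬ UM.testBit (i - 32 * D) = true := by
            rw [← hf c3.2, Nat.sub_add_cancel c3.1]; exact hi
          rw [if_pos c3, Phi_of_not h7, sub_zero]
        · rw [if_neg c3]
  · intro s hs
    rw [lbfly_apply]
    have g1 : (0xffffff : ℕ).testBit s = false := by rw [testBit_24]; simpa using hs
    by_cases c1 : Mq.testBit s = true
    · have h7 := hq c1
      rw [g1] at h7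
      have h8 : 24 ≤ s + D := by rw [testBit_24] at h7; simpa using h7
      rw [if_pos c1, hv s hs, hv (s + D) h8, add_zero]
    · rw [if_neg c1]
      by_cases c3 : D ≤ s ∧ Mq.testBit (s - D) = true
      · have h7 := hq c3.2
        rw [Nat.sub_add_cancel c3.1, g1] at h7
        have h8 : 24 ≤ s - D := by rw [testBit_24] at h7; simpa using h7.symm
        rw [if_pos c3, hv s hs, hv (s - D) h8, sub_zero]
      · rw [if_neg c3, hv s hs]

/-- A doubling outside of the region. -/
theorem dbl_none {U M : ℕ} (h : Nat.beq (Nat.land M U) 0 = true) (g w : ℕ → ℚ) :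
    ldbl ℚ M (Phi U g w) = Phi U g w := by
  have h1 : M &&& U = 0 := Nat.eq_of_beq_eq_true h
  funext i
  show (if M.testBit i = true then 2 * Phi U g w i else Phi U g w i) = _
  by_cases hi : U.testBit i = true
  · have h2 := congrArg (fun x => Nat.testBit x i) h1
    simp only [Nat.testBit_and, hi, Bool.and_true, Nat.zero_testBit] at h2
    rw [h2, if_neg (by simp)]
  · rw [Phi_of_not hi]; simp

/-- A doubling of the whole region. -/
theorem dbl_all {U M : ℕ} (h : Nat.beq (Nat.land M U) U = true) (g w : ℕ → ℚ) :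
    ldbl ℚ M (Phi U g w) = Phi U g ((2 : ℚ) • w) := by
  have h1 : M &&& U = U := Nat.eq_of_beq_eq_true h
  rw [Phi_smul_right]
  funext i
  show (if M.testBit i = true then 2 * Phi U g w i else Phi U g w i) = 2 * Phi U g w i
  by_cases hi : U.testBit i = true
  · have h2 := congrArg (fun x => Nat.testBit x i) h1
    simp only [Nat.testBit_and, hi, Bool.and_true] at h2
    rw [h2, if_pos rfl]
  · rw [Phi_of_not hi]; simp

theorem Sup.smul {w : ℕ → ℚ} (c : ℚ) (h : Sup w) : Sup (c • w) := by
  intro s hs
  show c * w s = 0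
  rw [h s hs, mul_zero]

end Cfsg.Agent.Monster.TensorBfly
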